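import Cfsg.Agent.H78.PMin.Assembly

/-!
The components are all the conjugates of one component.
-/

set_option autoImplicit false
set_option linter.unusedSectionVars false
set_option linter.unusedSimpArgs false
set_option linter.style.haveILetI false

open Subgroup
open scoped commutatorElement MatrixGroups
open H70 (cj)

namespace H78.PMin

variable {G : Type*} [Group G] [Finite G]

namespace Comp

variable {V P T E : Subgroup G} (c : Comp V P T E)
include c

/-- The structure given by a component. -/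
theorem assembleAll : ∃ (r : ℕ) (E' : Fin r → Subgroup G), 1 ≤ r ∧ (∀ i, E' i ≤ P) ∧
    (∀ i j, i ≠ j → ⁅E' i, E' j⁆ = ⊥) ∧ (∀ i, E' i ⊓ (⨆ j ∈ {j | j ≠ i}, E' j) = ⊥) ∧
    (⨆ i, E' i) ⊔ T = P ∧
    (∀ i j, ∃ t ∈ T, (E' i).map (MulAut.conj t).toMonoidHom = E' j) ∧
    (V ⊓ centralizer (((⨆ i, E' i) : Subgroup G) : Set G)) ⊔ (⨆ i, ⁅V, E' i⁆) = V ∧
    (∀ i j, i ≠ j → ⁅⁅V, E' i⁆, E' j⁆ = ⊥) ∧ (∀ i, ∃ t ∈ T, E' i = cj t E) ∧
    ∀ a ∈ T, ∃ i, E' i = cj a E := by
  classical
  let S : Set (Subgroup G) := (fun t => cj t E) '' (T : Set G)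
  haveI : Finite S := (Set.toFinite S).to_subtype
  let e := (Finite.equivFin S).symm
  let E' : Fin (Nat.card S) → Subgroup G := fun i => (e i : Subgroup G)
  have hE' : ∀ i, ∃ a ∈ T, E' i = cj a E := fun i => by
    obtain ⟨a, ha, he⟩ := (e i).2
    exact ⟨a, ha, he.symm⟩
  have hinj : ∀ {i j}, i ≠ j → E' i ≠ E' j := fun hij h => hij (e.injective (Subtype.ext h))
  have hsurj : ∀ a ∈ T, ∃ i, E' i = cj a E := fun a ha =>
    ⟨e.symm ⟨_, a, ha, rfl⟩, by show (e (e.symm _) : Subgroup G) = _; rw [Equiv.apply_symm_apply]⟩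
  have hnorm : ∀ i, E' i ≤ P := fun i => by
    obtain ⟨a, ha, he⟩ := hE' i
    rw [he]
    exact cj_le (c.T_le ha) c.le
  have hcomm : ∀ {i j}, i ≠ j → ∀ x ∈ E' i, ∀ y ∈ E' j, x * y = y * x := by
    intro i j hij
    obtain ⟨a, ha, hea⟩ := hE' i
    obtain ⟨b, hb, heb⟩ := hE' j
    have hne := hinj hij
    rw [hea, heb] at hne ⊢
    exact c.comm' ha hb hne
  have hfix : ∀ {i j}, i ≠ j → ∀ x ∈ E' i, ∀ u ∈ brk V (E' j), x * u = u * x := by
    intro i j hij
    obtain ⟨a, ha, hea⟩ := hE' i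
    obtain ⟨b, hb, heb⟩ := hE' j
    have hne := hinj hij
    rw [hea, heb] at hne ⊢
    exact c.fix' ha hb hne
  refine ⟨_, E', ?_, hnorm, fun i j hij => ?_, fun i => ?_, ?_, fun i j => ?_, ?_, fun i j hij => ?_,
    hE', hsurj⟩
  · obtain ⟨i, -⟩ := hsurj 1 (one_mem _)
    exact i.pos
  · rw [Subgroup.commutator_eq_bot_iff_le_centralizer]
    exact fun x hx => mem_centralizer_iff.2 fun y hy => (hcomm hij x hx y hy).symm
  · rw [Subgroup.eq_bot_iff_forall]
    intro x hx
    obtain ⟨a, ha, hea⟩ := hE' i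
    have hle : (⨆ j ∈ {j | j ≠ i}, E' j) ≤
        centralizer (E' i : Set G) ⊓ centralizer ((brk V (E' i) : Subgroup G) : Set G) :=
      iSup₂_le fun j hj => le_inf
        (fun y hy => mem_centralizer_iff.2 fun z hz => (hcomm hj y hy z hz).symm)
        (fun y hy => mem_centralizer_iff.2 fun z hz => (hfix hj y hy z hz).symm)
    obtain ⟨h1, h2⟩ := hle hx.2
    have hxi : x ∈ cj a E := hea ▸ hx.1
    rw [hea] at h1 h2
    exact c.inj' ha hxi (fun e he => mem_centralizer_iff.1 h1 e he)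
      (fun u hu => (mem_centralizer_iff.1 h2 u hu).symm)
  · conv_rhs => rw [← c.gen]
    congr 1
    refine le_antisymm (iSup_le fun i => ?_) (iSup₂_le fun a ha => ?_)
    · obtain ⟨a, ha, hea⟩ := hE' i
      rw [hea]
      exact le_iSup₂ (f := fun t (_ : t ∈ T) => cj t E) a ha
    · obtain ⟨i, hi⟩ := hsurj a ha
      exact hi ▸ le_iSup E' i
  · obtain ⟨a, ha, hea⟩ := hE' i
    obtain ⟨b, hb, heb⟩ := hE' j
    refine ⟨b * a⁻¹, mul_mem hb (inv_mem ha), ?_⟩
    show cj (b * a⁻¹) (E' i) = E' j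
    rw [hea, heb, H70.cj_cj, inv_mul_cancel_right]
  · have hbrkV : ∀ i, brk V (E' i) ≤ V := fun i => brk_le fun d hd v hv =>
      mul_mem (H75.conj_mem_of_mem_normalizer (c.norm (hnorm i hd)) hv) (inv_mem hv)
    simp only [← brk_eq_commutator]
    refine le_antisymm (sup_le inf_le_left (iSup_le hbrkV)) fun v hv => ?_
    suffices H : ∀ s : Finset (Fin (Nat.card S)), ∃ w ∈ ⨆ i, brk V (E' i), ∃ z ∈ V,
        (∀ i ∈ s, z ∈ fx V (E' i)) ∧ v = w * z by
      obtain ⟨w, hw, z, hz, hzs, rfl⟩ := H Finset.univ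
      refine mul_mem (mem_sup_right hw) (mem_sup_left ⟨hz, mem_centralizer_iff.2 fun g hg => ?_⟩)
      have : (⨆ i, E' i) ≤ centralizer ({z} : Set G) := iSup_le fun i g hg =>
        mem_centralizer_singleton_iff.2 (fx_comm (hzs i (Finset.mem_univ i)) hg)
      exact mem_centralizer_singleton_iff.1 (this hg)
    intro s
    induction s using Finset.induction with
    | empty => exact ⟨1, one_mem _, v, hv, fun i hi => absurd hi (Finset.notMem_empty i), by simp⟩
    | @insert i s his ih =>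
      obtain ⟨w, hw, z, hz, hzs, hvwz⟩ := ih
      obtain ⟨a, ha, hea⟩ := hE' i
      obtain ⟨w', hw', z', hz', he⟩ := c.split' ha hz
      rw [← hea] at hw' hz'
      refine ⟨w * w', mul_mem hw (le_iSup (fun i => brk V (E' i)) i hw'), z', hz'.1, ?_, ?_⟩
      · intro j hj
        rcases Finset.mem_insert.1 hj with rfl | hj
        · exact hz'
        have hji : j ≠ i := fun h => his (h ▸ hj)
        have hw'' : w' ∈ fx V (E' j) := ⟨hbrkV i hw', mem_centralizer_iff.2 fun g hg =>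
          hfix hji g hg w' hw'⟩
        have := mul_mem (inv_mem hw'') (hzs j hj)
        rwa [he, inv_mul_cancel_left] at this
      · rw [mul_assoc, ← he]; exact hvwz
  · rw [Subgroup.commutator_eq_bot_iff_le_centralizer, ← brk_eq_commutator]
    exact fun u hu => mem_centralizer_iff.2 fun x hx => hfix (Ne.symm hij) x hx u hu

end Comp

end H78.PMin
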