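import Cfsg.Agent.H78.PMin.Offenders
import Cfsg.Agent.H78.PMin.AssembleAll
import Cfsg.Agent.H78.BlockCore
import Cfsg.Agent.H10.SemiModel
import Cfsg.Agent.H10.Thompson
import Cfsg.Agent.H1.ThompsonTools
import Cfsg.Agent.H74.Kieler

/-!
The local `C**(G,T)` theorem: passing to `V ⋊ G / C_G(V)`.
-/

set_option autoImplicit false
set_option linter.unusedSectionVars false
set_option linter.style.haveILetI false

open Subgroup
open scoped commutatorElement
open H70 (cj)
open H10 (toModel ofV modelV Model)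

namespace H78.PMin.CSS

variable {G : Type*} [Group G] [Finite G] {p : ℕ} [Fact p.Prime]

/-- The Frattini argument. -/
theorem frattini (N : Subgroup G) [N.Normal] (T : Sylow p G) :
    normalizer (((T : Subgroup G) ⊓ N : Subgroup G) : Set G) ⊔ N = ⊤ := by
  have hT : H74.IsSylIn p (T : Subgroup G) ⊤ :=
    ⟨le_top, by rw [T.card_eq_multiplicity, Subgroup.card_top]⟩
  obtain ⟨S, hS⟩ := (H74.Kieler.sylIn_inf (A := N) le_top le_normalizer_of_normal hT).exists_sylow
  rw [← hS]
  exact Sylow.normalizer_sup_eq_top S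

/-- The hypotheses of the local `C**(G,T)` theorem. -/
structure Hyp (p : ℕ) [Fact p.Prime] (T : Sylow p G) : Prop where
  minimal : Cfsg.IsPMinimal p G
  charP : centralizer (Cfsg.pCore p G : Set G) ≤ Cfsg.pCore p G
  proper : Cfsg.cStarStarOf p (T : Subgroup G) ≠ ⊤

variable {T : Sylow p G} (h : Hyp p T)

include h in
theorem Hyp.exists_M :
    ∃ M : Subgroup G, IsCoatom M ∧ Cfsg.cStarStarOf p (T : Subgroup G) ≤ M ∧
      ∀ K : Subgroup G, (T : Subgroup G) ≤ K → K ≠ ⊤ → K ≤ M := by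
  obtain ⟨-, M, ⟨hM, hTM⟩, huniq⟩ := h.minimal T
  have key : ∀ K : Subgroup G, (T : Subgroup G) ≤ K → K ≠ ⊤ → K ≤ M := by
    intro K hTK hK
    obtain ⟨M₁, hM₁, hle⟩ := H75.exists_coatom_ge hK
    exact hle.trans (huniq M₁ ⟨hM₁, hTK.trans hle⟩).le
  exact ⟨M, hM, key _ ((le_normalizer.trans
    (H1.normalizer_le_normalizer_thompsonSubgroupOf p _)).trans le_sup_right) h.proper, key⟩

/-- The module `V = Ω₁(Z(O_p(G)))`. -/
abbrev W (p : ℕ) (G : Type*) [Group G] : Subgroup G := Cfsg.omegaOneCenter p (Cfsg.pCore p G)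

instance W_normal : (W p G).Normal :=
  H75.normal_of_top_le ((Subgroup.normalizer_eq_top_iff.2 inferInstance).ge.trans
    (H78.Block.normalizer_le_normalizer_omegaOneCenter _))

theorem W_elem : Cfsg.IsElementaryAbelian p (W p G) :=
  ⟨H11.isMulCommutative_of_commute fun x hx y hy =>
      mem_centralizer_iff.1 (H78.Block.mem_omegaOneCenter.1 hy).1.2 x
        (H78.Block.mem_omegaOneCenter.1 hx).1.1,
    fun _ hx => (H78.Block.mem_omegaOneCenter.1 hx).2⟩

theorem pCore_le_centralizer :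
    Cfsg.pCore p G ≤ centralizer ((W p G : Subgroup G) : Set G) := fun x hx =>
  mem_centralizer_iff.2 fun _ hv =>
    (mem_centralizer_iff.1 (H78.Block.mem_omegaOneCenter.1 hv).1.2 x hx).symm

include h

theorem Hyp.omega_le :
    Cfsg.omegaOneCenter p (T : Subgroup G) ≤ W p G ⊓ centralizer ((T : Subgroup G) : Set G) := by
  intro x hx
  obtain ⟨⟨hxT, hxC⟩, hxp⟩ := H78.Block.mem_omegaOneCenter.1 hx
  have hQT : Cfsg.pCore p G ≤ (T : Subgroup G) := H10.pCore_le_sylow T
  have hxQ : x ∈ centralizer (Cfsg.pCore p G : Set G) :=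
    centralizer_le (SetLike.coe_subset_coe.2 hQT) hxC
  exact ⟨H78.Block.mem_omegaOneCenter.2 ⟨⟨h.charP hxQ, hxQ⟩, hxp⟩, hxC⟩

/-- What we need about the maximal subgroup over `T`. -/
theorem Hyp.facts : ∃ M : Subgroup G, M ≠ ⊤ ∧ (T : Subgroup G) ≤ M ∧
    centralizer ((W p G : Subgroup G) : Set G) ≤ M ∧
    centralizer ((Cfsg.omegaOneCenter p (T : Subgroup G) : Subgroup G) : Set G) ≤ M ∧
    normalizer (Cfsg.thompsonSubgroupOf p (T : Subgroup G) : Set G) ≤ M ∧
    ∀ K : Subgroup G, (T : Subgroup G) ≤ K → K ≠ ⊤ → K ≤ M := by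
  obtain ⟨M, hM, hle, huniq⟩ := h.exists_M
  have h1 : centralizer ((Cfsg.omegaOneCenter p (T : Subgroup G) : Subgroup G) : Set G) ≤ M :=
    le_sup_left.trans hle
  have h2 : normalizer (Cfsg.thompsonSubgroupOf p (T : Subgroup G) : Set G) ≤ M :=
    le_sup_right.trans hle
  exact ⟨M, hM.1, (le_normalizer.trans (H1.normalizer_le_normalizer_thompsonSubgroupOf p _)).trans
    h2, (centralizer_le (SetLike.coe_subset_coe.2 (h.omega_le.trans inf_le_left))).trans h1,
    h1, h2, huniq⟩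

/-- Some elementary abelian subgroup of largest order moves `V`. -/
theorem Hyp.exists_max : ∃ A ∈ H11.maxFam (H10.elemP p) (⊤ : Subgroup G),
    ¬ A ≤ centralizer ((W p G : Subgroup G) : Set G) := by
  by_contra hno
  push Not at hno
  obtain ⟨M, hMne, hTM, hCM, -, hNM, -⟩ := h.facts
  set C := centralizer ((W p G : Subgroup G) : Set G) with hC
  obtain ⟨A₀, hA₀, hA₀T⟩ := H10.exists_max_le_sylow T
  have hA₀R : A₀ ≤ (T : Subgroup G) ⊓ C := le_inf hA₀T (hno A₀ hA₀)
  have hJ : Cfsg.thompsonSubgroupOf p ((T : Subgroup G) ⊓ C : Subgroup G) =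
      Cfsg.thompsonSubgroupOf p (T : Subgroup G) := by
    have hA₁ := H11.mem_maxFam_of_mem le_top hA₀ hA₀T
    rw [H11.thompsonSubgroupOf_eq, H11.thompsonSubgroupOf_eq]
    refine le_antisymm
      (sSup_le fun B hB => le_sSup (H11.maxFam_subset_of_mem inf_le_left hA₁ hA₀R hB))
      (sSup_le fun B hB => le_sSup (H11.mem_maxFam_of_mem inf_le_left hB (le_inf hB.1
        (hno B (H11.maxFam_subset_of_mem le_top hA₀ hA₀T hB)))))
  haveI : C.Normal := by rw [hC]; infer_instance
  refine hMne (top_le_iff.1 ((frattini C T).ge.trans (sup_le ?_ hCM)))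
  exact ((H1.normalizer_le_normalizer_thompsonSubgroupOf p _).trans
    (le_of_eq (by rw [hJ]))).trans hNM

omit h

theorem model_ker : (toModel (W p G)).ker = centralizer ((W p G : Subgroup G) : Set G) :=
  Subgroup.ext fun _ => MonoidHom.mem_ker.trans H10.toModel_eq_one_iff

theorem comm_model (g : G) (v : ↥(W p G)) :
    toModel (W p G) g * ofV _ v = ofV _ v * toModel (W p G) g ↔ g * (v : G) = (v : G) * g := by
  rw [← mul_inv_eq_iff_eq_mul, H10.toModel_conj, H10.ofV_injective.eq_iff, Subtype.ext_iff,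
    MulAut.conjNormal_apply, mul_inv_eq_iff_eq_mul]

theorem conj_model (g : G) (v : ↥(W p G)) :
    ofV _ ⟨g * (v : G) * g⁻¹, (inferInstance : (W p G).Normal).conj_mem _ v.2 g⟩ =
      toModel (W p G) g * ofV _ v * (toModel (W p G) g)⁻¹ := by
  rw [H10.toModel_conj]
  exact congrArg _ (Subtype.ext (MulAut.conjNormal_apply g v).symm)

theorem mem_centralizer_model (H : Subgroup G) (v : ↥(W p G)) :
    ofV _ v ∈ centralizer ((H.map (toModel (W p G)) : Subgroup (Model (W p G))) : Set (Model (W p G))) ↔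
      (v : G) ∈ centralizer (H : Set G) := by
  simp only [mem_centralizer_iff, SetLike.mem_coe, Subgroup.mem_map,
    forall_exists_index, and_imp, forall_apply_eq_imp_iff₂, comm_model]

theorem mem_commutator_model (H : Subgroup G) (v : ↥(W p G)) :
    ofV _ v ∈ ⁅modelV (W p G), H.map (toModel (W p G))⁆ ↔ (v : G) ∈ ⁅W p G, H⁆ := by
  have key : ∀ (u : ↥(W p G)) (g : G), ∃ w : ↥(W p G),
      (w : G) = ⁅(u : G), g⁆ ∧ ofV _ w = ⁅ofV _ u, toModel (W p G) g⁆ := fun u g =>
    ⟨u * ⟨g * ((u⁻¹ : ↥(W p G)) : G) * g⁻¹, (inferInstance : (W p G).Normal).conj_mem _ (u⁻¹).2 g⟩,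
      by simp [commutatorElement_def, mul_assoc],
      by rw [map_mul, conj_model, map_inv, commutatorElement_def]; simp only [mul_assoc]⟩
  constructor
  · intro hv
    have hle : ⁅modelV (W p G), H.map (toModel (W p G))⁆ ≤
        ((⁅W p G, H⁆).subgroupOf (W p G)).map (ofV (W p G)) := by
      rw [commutator_le]
      rintro _ ⟨u, rfl⟩ _ ⟨g, hg, rfl⟩
      obtain ⟨w, hw, he⟩ := key u g
      exact ⟨w, mem_subgroupOf.2 (hw ▸ commutator_mem_commutator u.2 hg), he⟩
    obtain ⟨w, hw, he⟩ := hle hv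
    exact H10.ofV_injective he ▸ mem_subgroupOf.1 hw
  · intro hv
    have hle : ⁅W p G, H⁆ ≤
        ((⁅modelV (W p G), H.map (toModel (W p G))⁆).comap (ofV (W p G))).map (W p G).subtype := by
      rw [commutator_le]
      intro u hu g hg
      obtain ⟨w, hw, he⟩ := key ⟨u, hu⟩ g
      refine ⟨w, ?_, hw⟩
      rw [SetLike.mem_coe, mem_comap]
      rw [he]
      exact commutator_mem_commutator ⟨_, rfl⟩ (mem_map_of_mem _ hg)
    obtain ⟨w, hw, he⟩ := hle hv
    exact (Subtype.ext he : w = v) ▸ hw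

/-- An elementary abelian subgroup of largest order gives an offender. -/
theorem off_of_max {A : Subgroup G} (hA : A ∈ H11.maxFam (H10.elemP p) (⊤ : Subgroup G)) :
    Off p (modelV (W p G)) (toModel (W p G)).range (A.map (toModel (W p G))) :=
  H10.isOff_of_maxFam W_elem hA le_top (map_le_range _ _)

theorem Hyp.exists_ctx (h : Hyp p T) : ∃ (M : Subgroup (Model (W p G))) (A : Subgroup (Model (W p G))),
    Ctx p (modelV (W p G)) (toModel (W p G)).range ((T : Subgroup G).map (toModel (W p G))) M A ∧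
      A ≤ (Cfsg.thompsonSubgroup p G).map (toModel (W p G)) := by
  obtain ⟨M, hMne, hTM, hCM, hZM, hNM, huniq⟩ := h.facts
  set f := toModel (W p G) with hf
  have hker : f.ker ≤ M := model_ker.le.trans hCM
  have hpm : PM p f.range ((T : Subgroup G).map f) (M.map f) := by
    refine ⟨?_, map_mono hTM, map_le_range _ _, fun he => hMne ?_, fun K hTK hKP hne => ?_,
      fun hn => hMne ?_⟩
    · have h1 := H74.isSylIn_of_sylow (T.mapSurjective f.rangeRestrict_surjective)
      rwa [Sylow.coe_mapSurjective, Subgroup.map_map, MonoidHom.subtype_comp_rangeRestrict] at h1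
    · rw [← sup_eq_left.2 hker, ← comap_map_eq, he]
      exact top_le_iff.1 fun x _ => mem_comap.2 ⟨x, rfl⟩
    · have h1 : K.comap f ≠ ⊤ := fun he => hne (by
        rw [← inf_eq_right.2 hKP, ← map_comap_eq, he, ← MonoidHom.range_eq_map])
      rw [← inf_eq_right.2 hKP, ← map_comap_eq]
      exact map_mono (huniq _ (map_le_iff_le_comap.1 hTK) h1)
    · set N := (T : Subgroup G) ⊔ f.ker with hN
      haveI : N.Normal := H75.normal_of_top_le (H75.le_normalizer_of_conj fun g _ n hn' => by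
        rw [hN, ← comap_map_eq, mem_comap] at hn' ⊢
        rw [map_mul, map_mul, map_inv]
        exact H75.conj_mem_of_mem_normalizer (hn ⟨g, rfl⟩) hn')
      refine top_le_iff.1 ((frattini N T).ge.trans (sup_le ?_ (sup_le hTM hker)))
      rw [inf_eq_left.2 (le_sup_left : (T : Subgroup G) ≤ N)]
      exact (H1.normalizer_le_normalizer_thompsonSubgroupOf p _).trans hNM
  have hcore : Cfsg.pCoreOf p f.range = ⊥ := by
    set N := (Cfsg.pCoreOf p f.range).comap f with hN
    haveI : N.Normal := H75.normal_of_top_le (H75.le_normalizer_of_conj fun g _ n hn => by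
      rw [hN, mem_comap] at hn ⊢
      rw [map_mul, map_mul, map_inv]
      exact H75.conj_mem_of_mem_normalizer (H75.le_normalizer_pCoreOf f.range ⟨g, rfl⟩) hn)
    have hNle : N ≤ (T : Subgroup G) ⊔ f.ker := by
      rw [← comap_map_eq]; exact comap_mono hpm.pCore_le
    have hR : normalizer (((T : Subgroup G) ⊓ N : Subgroup G) : Set G) = ⊤ := by
      by_contra hne
      refine hMne (top_le_iff.1 ((frattini N T).ge.trans (sup_le ?_ (hNle.trans (sup_le hTM hker)))))
      exact huniq _ ((le_inf le_normalizer le_normalizer_of_normal).trans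
        (H75.normalizer_inf_le_normalizer_inf _ _)) hne
    have hRC : (T : Subgroup G) ⊓ N ≤ f.ker := by
      rw [model_ker]
      exact (Cfsg.Comp.le_pCore (normalizer_eq_top_iff.1 hR)
        (T.2.to_le inf_le_left)).trans pCore_le_centralizer
    rw [Subgroup.eq_bot_iff_forall]
    intro y hy
    obtain ⟨x, rfl⟩ := H75.pCoreOf_le f.range hy
    obtain ⟨t, ht, k, hk, rfl⟩ := mem_sup_of_normal_right.1 (hNle (show x ∈ N from hy))
    rw [map_mul, MonoidHom.mem_ker.1 hk, mul_one] at hy ⊢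
    exact MonoidHom.mem_ker.1 (hRC ⟨ht, hy⟩)
  have henv : Env p (modelV (W p G)) f.range ((T : Subgroup G).map f) (M.map f) := by
    refine ⟨H10.modelV_elementaryAbelian W_elem, H10.toModel_range_le_normalizer, hpm,
      hcore.le.trans bot_le, ?_⟩
    rintro _ ⟨⟨g, rfl⟩, hg⟩
    refine mem_map_of_mem f (hZM (mem_centralizer_iff.2 fun z hz => ?_))
    have hz' := h.omega_le hz
    refine ((comm_model g ⟨z, hz'.1⟩).1 ?_).symm
    exact (mem_centralizer_iff.1 hg _ ⟨⟨_, rfl⟩, (mem_centralizer_model _ _).2 hz'.2⟩).symm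
  obtain ⟨A₀, hA₀, hA₀C⟩ := h.exists_max
  have hne : A₀.map f ≠ ⊥ := fun he =>
    hA₀C (((map_eq_bot_iff A₀).1 he).trans model_ker.le)
  obtain ⟨A, ⟨hAA₀, hAel, hAne, hAoff⟩, hmin⟩ := Set.Finite.exists_minimalFor
    (fun A : Subgroup (Model (W p G)) => Nat.card A)
    {A : Subgroup (Model (W p G)) | A ≤ A₀.map f ∧ Cfsg.IsElementaryAbelian p A ∧ A ≠ ⊥ ∧
      Nat.card (modelV (W p G)) ≤ Nat.card A * Nat.card (fx (modelV (W p G)) A)} (Set.toFinite _)
    ⟨_, le_rfl, (off_of_max hA₀).2.1, hne, (off_of_max hA₀).2.2⟩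
  refine ⟨M.map f, A, ⟨henv, H10.range_inf_centralizer, ?_⟩, hAA₀.trans (map_mono ?_)⟩
  · exact
      { le := hAA₀.trans (map_le_range _ _)
        elem := hAel
        ne := hAne
        off := hAoff
        strict := fun C hC h1 h2 => by
          by_contra hno
          rw [not_lt] at hno
          exact h2 (Subgroup.eq_of_le_of_card_ge hC (hmin
            ⟨hC.trans hAA₀, H10.elementaryAbelian_of_le hAel hC, h1, hno⟩
            (Subgroup.card_le_of_le hC))) }
  · rw [H10.thompsonSubgroup_eq]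
    exact le_sSup hA₀

omit h in
theorem map_comap_model {X : Subgroup (Model (W p G))} (hX : X ≤ (toModel (W p G)).range) :
    (X.comap (toModel (W p G))).map (toModel (W p G)) = X := by
  rw [map_comap_eq, inf_eq_right.2 hX]

/-- The structure of the model, pulled back to `G`. -/
theorem Hyp.exists_pieces (h : Hyp p T) :
    ∃ (r : ℕ) (E : Fin r → Subgroup (Model (W p G))), 1 ≤ r ∧
    (∀ i, E i ≤ (toModel (W p G)).range) ∧ (∀ i j, i ≠ j → ⁅E i, E j⁆ = ⊥) ∧
    (∀ i, E i ⊓ (⨆ j ∈ {j | j ≠ i}, E j) = ⊥) ∧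
    (⨆ i, E i) ⊔ (T : Subgroup G).map (toModel (W p G)) = (toModel (W p G)).range ∧
    (⨆ i, E i) = (Cfsg.thompsonSubgroup p G).map (toModel (W p G)) ∧
    (∀ i j, ∃ t ∈ (T : Subgroup G).map (toModel (W p G)),
      (E i).map (MulAut.conj t).toMonoidHom = E j) ∧
    (modelV (W p G) ⊓ centralizer (((⨆ i, E i) : Subgroup (Model (W p G))) : Set (Model (W p G)))) ⊔
      (⨆ i, ⁅modelV (W p G), E i⁆) = modelV (W p G) ∧
    (∀ i j, i ≠ j → ⁅⁅modelV (W p G), E i⁆, E j⁆ = ⊥) ∧
    ∀ i, IsPiece p (modelV (W p G)) (E i) := by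
  obtain ⟨M, A, c, hAJ⟩ := h.exists_ctx
  obtain ⟨E₀, hC, hgood, hEle, hoff⟩ := c.exists_comp_off
  obtain ⟨r, E, h1, h2, h3, h4, h5, h6, h7, h8, h9, h10⟩ := hC.assembleAll
  refine ⟨r, E, h1, h2, h3, h4, h5, ?_, h6, h7, h8, fun i => ?_⟩
  · haveI : (Cfsg.thompsonSubgroup p G).Normal :=
      haveI := H10.thompsonSubgroup_characteristic (G := G) (p := p)
      inferInstance
    have hconj : ∀ g ∈ (toModel (W p G)).range,
        cj g ((Cfsg.thompsonSubgroup p G).map (toModel (W p G))) ≤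
          (Cfsg.thompsonSubgroup p G).map (toModel (W p G)) := by
      rintro _ ⟨g, rfl⟩ _ ⟨_, ⟨x, hx, rfl⟩, rfl⟩
      exact ⟨g * x * g⁻¹, Subgroup.Normal.conj_mem inferInstance x hx g, by simp⟩
    refine le_antisymm (iSup_le fun i => ?_) ?_
    · obtain ⟨t, ht, he⟩ := h9 i
      rw [he]
      refine (H70.cj_mono t (hEle.trans (sSup_le ?_))).trans (hconj t (c.env.pm.T_le ht))
      rintro X ⟨g, hg, rfl⟩
      exact (H70.cj_mono g hAJ).trans (hconj g hg)
    · rw [H10.thompsonSubgroup_eq, (Subgroup.gc_map_comap _).l_sSup]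
      refine iSup₂_le fun B hB => (hoff _ (off_of_max hB)).trans (iSup₂_le fun t ht => ?_)
      obtain ⟨i, hi⟩ := h10 t ht
      exact hi ▸ le_iSup E i
  · obtain ⟨t, ht, he⟩ := h9 i
    rw [he]
    exact hgood t ht

omit h in
/-- Transfer of a piece to `G`. -/
theorem piece_transfer {E : Subgroup (Model (W p G))} (hE : E ≤ (toModel (W p G)).range)
    (hp : IsPiece p (modelV (W p G)) E) :
    ∃ n : ℕ, 1 ≤ n ∧ ((∃ (F : Type) (_ : Field F) (_ : Fintype F), Fintype.card F = p ^ n ∧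
      (∃ _ : ((centralizer (W p G : Set G)).subgroupOf (E.comap (toModel (W p G)))).Normal,
        Nonempty (↥(E.comap (toModel (W p G))) ⧸
          (centralizer (W p G : Set G)).subgroupOf (E.comap (toModel (W p G))) ≃*
            Matrix.SpecialLinearGroup (Fin 2) F)) ∧
      Cfsg.ActsAsSL2OnSection F ⊤ (E.comap (toModel (W p G))) ⁅W p G, E.comap (toModel (W p G))⁆
        (⁅W p G, E.comap (toModel (W p G))⁆ ⊓
          centralizer ((E.comap (toModel (W p G)) : Subgroup G) : Set G))) ∨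
    (p = 2 ∧ (∃ _ : ((centralizer (W p G : Set G)).subgroupOf (E.comap (toModel (W p G)))).Normal,
        Nonempty (↥(E.comap (toModel (W p G))) ⧸
          (centralizer (W p G : Set G)).subgroupOf (E.comap (toModel (W p G))) ≃*
            Equiv.Perm (Fin (2 ^ n + 1)))) ∧
      Cfsg.ActsAsOddPermModuleOnSection (2 ^ n + 1) ⊤ (E.comap (toModel (W p G)))
        ⁅W p G, E.comap (toModel (W p G))⁆ (⁅W p G, E.comap (toModel (W p G))⁆ ⊓
          centralizer ((E.comap (toModel (W p G)) : Subgroup G) : Set G)))) := by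
  set f := toModel (W p G) with hf
  set H := E.comap f with hH
  set U := ⁅W p G, H⁆ with hU
  have hmap : H.map f = E := map_comap_model hE
  let φ : ↥H →* ↥E := f.subgroupComap E
  have hφs : Function.Surjective φ := by
    rintro ⟨y, hy⟩
    obtain ⟨x, rfl⟩ := hE hy
    exact ⟨⟨x, hy⟩, rfl⟩
  have hφk : φ.ker = (centralizer (W p G : Set G)).subgroupOf H := Subgroup.ext fun x => by
    rw [MonoidHom.mem_ker, Subtype.ext_iff, mem_subgroupOf, ← H10.toModel_eq_one_iff]
    rfl
  haveI hnorm : ((centralizer (W p G : Set G)).subgroupOf H).Normal := hφk ▸ φ.normal_ker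
  have hquot : ∀ {X : Type} [Group X], Nonempty (↥E ≃* X) →
      Nonempty (↥H ⧸ (centralizer (W p G : Set G)).subgroupOf H ≃* X) := fun ⟨e⟩ =>
    ⟨((QuotientGroup.quotientMulEquivOfEq hφk.symm).trans
      (QuotientGroup.quotientKerEquivOfSurjective φ hφs)).trans e⟩
  have hUW : U ≤ W p G := commutator_le_left _ _
  have hmem : ∀ u : ↥U, ofV (W p G) ⟨(u : G), hUW u.2⟩ ∈ ⁅modelV (W p G), E⁆ := fun u => by
    rw [← hmap, mem_commutator_model]; exact u.2
  let δ : ↥U →* ↥⁅modelV (W p G), E⁆ := MonoidHom.mk' (fun u => ⟨_, hmem u⟩) fun a b => Subtype.ext <| by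
    show ofV _ _ = ofV _ _ * ofV _ _
    rw [← map_mul]
    rfl
  have hmodel : ⁅modelV (W p G), E⁆ ≤ modelV (W p G) := by
    rw [commutator_le]
    intro u hu g hg
    rw [commutatorElement_def, mul_assoc u, mul_assoc u]
    exact mul_mem hu (H75.conj_mem_of_mem_normalizer
      (H10.toModel_range_le_normalizer (hE hg)) (inv_mem hu))
  have hδs : Function.Surjective δ := by
    rintro ⟨y, hy⟩
    obtain ⟨v, rfl⟩ := hmodel hy
    rw [← hmap] at hy
    exact ⟨⟨v, (mem_commutator_model H v).1 hy⟩, rfl⟩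
  have hδc : ∀ u : ↥U, (δ u : Model (W p G)) ∈ ⁅modelV (W p G), E⁆ ⊓
      centralizer ((E : Subgroup (Model (W p G))) : Set (Model (W p G))) ↔
      (u : G) ∈ U ⊓ centralizer (H : Set G) := fun u => by
    rw [Subgroup.mem_inf, Subgroup.mem_inf, and_iff_right (δ u).2, and_iff_right u.2]
    have h1 := mem_centralizer_model H ⟨(u : G), hUW u.2⟩
    rw [hmap] at h1
    exact h1
  have hn : H ≤ normalizer (U : Set G) :=
    (le_inf le_normalizer_of_normal le_normalizer).trans
      (H75.normalizer_inf_le_normalizer_commutator _ _)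
  have hact : ∀ (e : ↥H) (u : ↥U) (w : ↥⁅modelV (W p G), E⁆),
      (w : Model (W p G)) = (φ e : Model (W p G)) * (δ u : Model (W p G)) *
        ((φ e : Model (W p G)))⁻¹ →
      ∃ w' : ↥U, (w' : G) = (e : G) * u * (e : G)⁻¹ ∧ δ w' = w := fun e u w hw => by
    refine ⟨⟨(e : G) * u * (e : G)⁻¹, H75.conj_mem_of_mem_normalizer (hn e.2) u.2⟩, rfl,
      Subtype.ext ?_⟩
    rw [hw]
    exact conj_model (e : G) ⟨(u : G), hUW u.2⟩
  obtain ⟨n, hn1, hcase⟩ := hp
  refine ⟨n, hn1, ?_⟩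
  rcases hcase with ⟨F, iF, iFf, hcard, hiso, -, -, ρ, ψ, hρ, hψ, hker, hequiv⟩ |
    ⟨h2, hiso, -, -, ρ, ψ, hρ, hψ0, hψ, hker, hequiv⟩
  · refine Or.inl ⟨F, iF, iFf, hcard, ⟨hnorm, hquot hiso⟩, hn, inf_le_left, ρ.comp φ, ψ.comp δ, ?_,
      hψ.comp hδs, fun u => (hker (δ u)).trans (hδc u), fun e u => ?_⟩
    · rw [MonoidHom.range_comp, MonoidHom.range_eq_top.2 hφs, ← MonoidHom.range_eq_map, hρ]
    · obtain ⟨w, hw, hwe⟩ := hequiv (φ e) (δ u)
      obtain ⟨w', hw', rfl⟩ := hact e u w hw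
      exact ⟨w', hw', hwe⟩
  · refine Or.inr ⟨h2, ⟨hnorm, hquot hiso⟩, hn, inf_le_left, ρ.comp φ, ψ.comp δ, ?_,
      fun u => hψ0 _, fun v hv => ?_, fun u => (hker (δ u)).trans (hδc u), fun e u => ?_⟩
    · rw [MonoidHom.range_comp, MonoidHom.range_eq_top.2 hφs, ← MonoidHom.range_eq_map, hρ]
    · obtain ⟨u, hu⟩ := hψ v hv
      obtain ⟨u', rfl⟩ := hδs u
      exact ⟨u', hu⟩
    · obtain ⟨w, hw, hwe⟩ := hequiv (φ e) (δ u)
      obtain ⟨w', hw', rfl⟩ := hact e u w hw
      exact ⟨w', hw', hwe⟩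

end H78.PMin.CSS
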