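import Cfsg.Agent.H78.PMin.Points
import Cfsg.Prelude.Def_BaumannBlocks

/-!
Assembling the structure theorem from the conjugates of one component.
-/

set_option autoImplicit false
set_option linter.unusedSectionVars false
set_option linter.unusedSimpArgs false
set_option linter.style.haveILetI false

open Subgroup
open scoped commutatorElement MatrixGroups
open H70 (cj)

namespace H78.PMin

variable {G : Type*} [Group G] [Finite G]

theorem brk_eq_commutator (V E : Subgroup G) : brk V E = ⁅V, E⁆ := by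
  rw [Subgroup.commutator_comm]; rfl

/-- One component. -/
structure Comp (V P T E : Subgroup G) : Prop where
  norm : P ≤ normalizer (V : Set G)
  T_le : T ≤ P
  le : E ≤ P
  comm : ∀ t ∈ T, cj t E ≠ E → ∀ x ∈ cj t E, ∀ e ∈ E, x * e = e * x
  fix : ∀ t ∈ T, cj t E ≠ E → ∀ x ∈ cj t E, ∀ u ∈ brk V E, x * u = u * x
  split : ∀ v ∈ V, ∃ w ∈ brk V E, ∃ c ∈ fx V E, v = w * c
  inj : ∀ x ∈ E, (∀ e ∈ E, e * x = x * e) → (∀ u ∈ brk V E, x * u = u * x) → x = 1
  gen : (⨆ t ∈ T, cj t E) ⊔ T = P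

namespace Comp

variable {V P T E : Subgroup G} (c : Comp V P T E)
include c

theorem cj_brk_mem {a : G} (ha : a ∈ T) {u : G} :
    u ∈ brk V (cj a E) ↔ a⁻¹ * u * a ∈ brk V E := by
  rw [← cj_brk (c.norm (c.T_le ha)), H70.mem_cj]

theorem comm' {a b : G} (ha : a ∈ T) (hb : b ∈ T) (hne : cj a E ≠ cj b E) :
    ∀ x ∈ cj a E, ∀ e ∈ cj b E, x * e = e * x := by
  intro x hx e he
  have h1 := c.comm (b⁻¹ * a) (mul_mem (inv_mem hb) ha)
    (fun h => hne (by rw [← cj_cancel b (cj a E), H70.cj_cj b⁻¹, h])) (b⁻¹ * x * b)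
    (H70.mem_cj.2 (by
      have := H70.mem_cj.1 hx
      rwa [show (b⁻¹ * a)⁻¹ * (b⁻¹ * x * b) * (b⁻¹ * a) = a⁻¹ * x * a by group]))
    (b⁻¹ * e * b) (H70.mem_cj.1 he)
  calc x * e = b * ((b⁻¹ * x * b) * (b⁻¹ * e * b)) * b⁻¹ := by group
    _ = b * ((b⁻¹ * e * b) * (b⁻¹ * x * b)) * b⁻¹ := by rw [h1]
    _ = e * x := by group

theorem fix' {a b : G} (ha : a ∈ T) (hb : b ∈ T) (hne : cj a E ≠ cj b E) :
    ∀ x ∈ cj a E, ∀ u ∈ brk V (cj b E), x * u = u * x := by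
  intro x hx u hu
  have h1 := c.fix (b⁻¹ * a) (mul_mem (inv_mem hb) ha)
    (fun h => hne (by rw [← cj_cancel b (cj a E), H70.cj_cj b⁻¹, h])) (b⁻¹ * x * b)
    (H70.mem_cj.2 (by
      have := H70.mem_cj.1 hx
      rwa [show (b⁻¹ * a)⁻¹ * (b⁻¹ * x * b) * (b⁻¹ * a) = a⁻¹ * x * a by group]))
    (b⁻¹ * u * b) ((c.cj_brk_mem hb).1 hu)
  calc x * u = b * ((b⁻¹ * x * b) * (b⁻¹ * u * b)) * b⁻¹ := by group
    _ = b * ((b⁻¹ * u * b) * (b⁻¹ * x * b)) * b⁻¹ := by rw [h1]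
    _ = u * x := by group

theorem split' {a : G} (ha : a ∈ T) {v : G} (hv : v ∈ V) :
    ∃ w ∈ brk V (cj a E), ∃ z ∈ fx V (cj a E), v = w * z := by
  have haV := c.norm (c.T_le ha)
  obtain ⟨w, hw, z, hz, he⟩ := c.split (a⁻¹ * v * a)
    (by simpa using H75.conj_mem_of_mem_normalizer (inv_mem haV) hv)
  refine ⟨a * w * a⁻¹, (c.cj_brk_mem ha).2 (by simpa [mul_assoc] using hw), a * z * a⁻¹, ?_, ?_⟩
  · rw [← cj_fx haV, H70.mem_cj]; simpa [mul_assoc] using hz
  · calc v = a * (a⁻¹ * v * a) * a⁻¹ := by group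
      _ = a * w * a⁻¹ * (a * z * a⁻¹) := by rw [he]; group

theorem inj' {a : G} (ha : a ∈ T) {x : G} (hx : x ∈ cj a E) (h1 : ∀ e ∈ cj a E, e * x = x * e)
    (h2 : ∀ u ∈ brk V (cj a E), x * u = u * x) : x = 1 := by
  have h3 := c.inj _ (H70.mem_cj.1 hx) (fun e he => ?_) (fun u hu => ?_)
  · calc x = a * (a⁻¹ * x * a) * a⁻¹ := by group
      _ = 1 := by rw [h3]; group
  · have := h1 (a * e * a⁻¹) (H70.mem_cj.2 (by simpa [mul_assoc] using he))
    calc e * (a⁻¹ * x * a) = a⁻¹ * ((a * e * a⁻¹) * x) * a := by group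
      _ = a⁻¹ * (x * (a * e * a⁻¹)) * a := by rw [this]
      _ = _ := by group
  · have := h2 (a * u * a⁻¹) ((c.cj_brk_mem ha).2 (by simpa [mul_assoc] using hu))
    calc a⁻¹ * x * a * u = a⁻¹ * (x * (a * u * a⁻¹)) * a := by group
      _ = a⁻¹ * ((a * u * a⁻¹) * x) * a := by rw [this]
      _ = _ := by group

/-- The structure given by a component. -/
theorem assemble : ∃ (r : ℕ) (E' : Fin r → Subgroup G), 1 ≤ r ∧ (∀ i, E' i ≤ P) ∧
    (∀ i j, i ≠ j → ⁅E' i, E' j⁆ = ⊥) ∧ (∀ i, E' i ⊓ (⨆ j ∈ {j | j ≠ i}, E' j) = ⊥) ∧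
    (⨆ i, E' i) ⊔ T = P ∧
    (∀ i j, ∃ t ∈ T, (E' i).map (MulAut.conj t).toMonoidHom = E' j) ∧
    (V ⊓ centralizer (((⨆ i, E' i) : Subgroup G) : Set G)) ⊔ (⨆ i, ⁅V, E' i⁆) = V ∧
    (∀ i j, i ≠ j → ⁅⁅V, E' i⁆, E' j⁆ = ⊥) ∧ ∀ i, ∃ t ∈ T, E' i = cj t E := by
  classical
  let S : Set (Subgroup G) := (fun t => cj t E) '' (T : Set G)
  haveI : Finite S := (Set.toFinite S).to_subtype
  let e := (Finite.equivFin S).symm
  let E' : Fin (Nat.card S) → Subgroup G := fun i => (e i : Subgroup G)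
  have hE' : ∀ i, ∃ a ∈ T, E' i = cj a E := fun i => by
    obtain ⟨a, ha, he⟩ := (e i).2
    exact ⟨a, ha, he.symm⟩
  have hinj : ∀ {i j}, i ≠ j → E' i ≠ E' j := fun hij h => hij (e.injective (Subtype.ext h))
  have hsurj : ∀ a ∈ T, ∃ i, E' i = cj a E := fun a ha =>
    ⟨e.symm ⟨_, a, ha, rfl⟩, by show (e (e.symm _) : Subgroup G) = _; rw [Equiv.apply_symm_apply]⟩
  have hnorm : ∀ i, E' i ≤ P := fun i => by
    obtain ⟨a, ha, he⟩ := hE' i
    rw [he]
    exact cj_le (c.T_le ha) c.le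
  have hcomm : ∀ {i j}, i ≠ j → ∀ x ∈ E' i, ∀ y ∈ E' j, x * y = y * x := by
    intro i j hij
    obtain ⟨a, ha, hea⟩ := hE' i
    obtain ⟨b, hb, heb⟩ := hE' j
    have hne := hinj hij
    rw [hea, heb] at hne ⊢
    exact c.comm' ha hb hne
  have hfix : ∀ {i j}, i ≠ j → ∀ x ∈ E' i, ∀ u ∈ brk V (E' j), x * u = u * x := by
    intro i j hij
    obtain ⟨a, ha, hea⟩ := hE' i
    obtain ⟨b, hb, heb⟩ := hE' j
    have hne := hinj hij
    rw [hea, heb] at hne ⊢
    exact c.fix' ha hb hne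
  refine ⟨_, E', ?_, hnorm, fun i j hij => ?_, fun i => ?_, ?_, fun i j => ?_, ?_, fun i j hij => ?_,
    hE'⟩
  · obtain ⟨i, -⟩ := hsurj 1 (one_mem _)
    exact i.pos
  · rw [Subgroup.commutator_eq_bot_iff_le_centralizer]
    exact fun x hx => mem_centralizer_iff.2 fun y hy => (hcomm hij x hx y hy).symm
  · rw [Subgroup.eq_bot_iff_forall]
    intro x hx
    obtain ⟨a, ha, hea⟩ := hE' i
    have hle : (⨆ j ∈ {j | j ≠ i}, E' j) ≤
        centralizer (E' i : Set G) ⊓ centralizer ((brk V (E' i) : Subgroup G) : Set G) :=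
      iSup₂_le fun j hj => le_inf
        (fun y hy => mem_centralizer_iff.2 fun z hz => (hcomm hj y hy z hz).symm)
        (fun y hy => mem_centralizer_iff.2 fun z hz => (hfix hj y hy z hz).symm)
    obtain ⟨h1, h2⟩ := hle hx.2
    have hxi : x ∈ cj a E := hea ▸ hx.1
    rw [hea] at h1 h2
    exact c.inj' ha hxi (fun e he => mem_centralizer_iff.1 h1 e he)
      (fun u hu => (mem_centralizer_iff.1 h2 u hu).symm)
  · conv_rhs => rw [← c.gen]
    congr 1
    refine le_antisymm (iSup_le fun i => ?_) (iSup₂_le fun a ha => ?_)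
    · obtain ⟨a, ha, hea⟩ := hE' i
      rw [hea]
      exact le_iSup₂ (f := fun t (_ : t ∈ T) => cj t E) a ha
    · obtain ⟨i, hi⟩ := hsurj a ha
      exact hi ▸ le_iSup E' i
  · obtain ⟨a, ha, hea⟩ := hE' i
    obtain ⟨b, hb, heb⟩ := hE' j
    refine ⟨b * a⁻¹, mul_mem hb (inv_mem ha), ?_⟩
    show cj (b * a⁻¹) (E' i) = E' j
    rw [hea, heb, H70.cj_cj, inv_mul_cancel_right]
  · have hbrkV : ∀ i, brk V (E' i) ≤ V := fun i => brk_le fun d hd v hv =>
      mul_mem (H75.conj_mem_of_mem_normalizer (c.norm (hnorm i hd)) hv) (inv_mem hv)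
    simp only [← brk_eq_commutator]
    refine le_antisymm (sup_le inf_le_left (iSup_le hbrkV)) fun v hv => ?_
    suffices H : ∀ s : Finset (Fin (Nat.card S)), ∃ w ∈ ⨆ i, brk V (E' i), ∃ z ∈ V,
        (∀ i ∈ s, z ∈ fx V (E' i)) ∧ v = w * z by
      obtain ⟨w, hw, z, hz, hzs, rfl⟩ := H Finset.univ
      refine mul_mem (mem_sup_right hw) (mem_sup_left ⟨hz, mem_centralizer_iff.2 fun g hg => ?_⟩)
      have : (⨆ i, E' i) ≤ centralizer ({z} : Set G) := iSup_le fun i g hg =>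
        mem_centralizer_singleton_iff.2 (fx_comm (hzs i (Finset.mem_univ i)) hg)
      exact mem_centralizer_singleton_iff.1 (this hg)
    intro s
    induction s using Finset.induction with
    | empty => exact ⟨1, one_mem _, v, hv, fun i hi => absurd hi (Finset.notMem_empty i), by simp⟩
    | @insert i s his ih =>
      obtain ⟨w, hw, z, hz, hzs, hvwz⟩ := ih
      obtain ⟨a, ha, hea⟩ := hE' i
      obtain ⟨w', hw', z', hz', he⟩ := c.split' ha hz
      rw [← hea] at hw' hz'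
      refine ⟨w * w', mul_mem hw (le_iSup (fun i => brk V (E' i)) i hw'), z', hz'.1, ?_, ?_⟩
      · intro j hj
        rcases Finset.mem_insert.1 hj with rfl | hj
        · exact hz'
        have hji : j ≠ i := fun h => his (h ▸ hj)
        have hw'' : w' ∈ fx V (E' j) := ⟨hbrkV i hw', mem_centralizer_iff.2 fun g hg =>
          hfix hji g hg w' hw'⟩
        have := mul_mem (inv_mem hw'') (hzs j hj)
        rwa [he, inv_mul_cancel_left] at this
      · rw [mul_assoc, ← he]; exact hvwz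
  · rw [Subgroup.commutator_eq_bot_iff_le_centralizer, ← brk_eq_commutator]
    exact fun u hu => mem_centralizer_iff.2 fun x hx => hfix (Ne.symm hij) x hx u hu

end Comp

end H78.PMin
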