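import Cfsg.Agent.H78.PMin.Big

/-!
The component for `q > 2`, remembering where the offender sits.
-/

set_option autoImplicit false
set_option linter.unusedSectionVars false
set_option linter.unusedSimpArgs false
set_option linter.style.haveILetI false

open Subgroup
open scoped commutatorElement MatrixGroups
open H70 (cj)

namespace H78.PMin

variable {G : Type*} [Group G] [Finite G] {p : ℕ} [Fact p.Prime]

namespace Ctx

variable {V P T M A : Subgroup G} (c : Ctx p V P T M A)
include c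

/-- The component for `q > 2`. -/
theorem comp_big' (h2 : 2 < Nat.card A) :
    ∃ E, Comp V P T E ∧ ∃ (D : Subgroup G) (F : Type) (_ : Field F) (_ : Fintype F),
      (Fintype.card F = Nat.card A ∧ Mem P A D ∧ D ≤ T) ∧ Nonempty (Block V E D F) := by
  obtain ⟨L₁, g, hg, hDT, hLM₁, hLP₁, F, iF, iFf, hcard, ⟨b₁⟩⟩ := c.exists_block c.self_mem
  obtain ⟨b⟩ := b₁.exists_map (inv_mem (c.norm_mem hg))
  set L := cj g⁻¹ L₁
  set D := cj g⁻¹ A
  have hLP : L ≤ P := cj_le (inv_mem hg) hLP₁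
  have hLM : ¬ L ≤ M := fun hle => hLM₁ ((cj_cancel g L₁).ge.trans (H70.cj_mono _ hle))
  have hD : Mem P A D := c.cj_mem c.self_mem (inv_mem hg)
  have s : Base p V P T M A D :=
    ⟨c, hD, (H70.cj_mono _ hDT).trans (cj_cancel' g T).le, h2⟩
  clear_value L D
  have hLh : L ≤ hc P A T D := s.block_hc b hLP hcard
  have hopp : Near P A T D b.opp := s.near_cj s.near_self (hLh b.weyl.2)
  have hcr : ¬ Same P A T M D D b.opp := by
    intro hs
    have hw := hLh b.weyl.2
    have h0 : Same P A T M D (cj 1 D) (cj (b.weyl : G) D) := by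
      rw [H70.cj_of_mem (one_mem D)]; exact hs
    have h1 := (s.same_iff (one_mem _) hw).1 h0
    rw [H70.cj_of_mem (one_mem M)] at h1
    have hwM : (b.weyl : G) ∈ M := c.env.pm.norm_M hw.1 h1.symm
    refine hLM (b.sup_opp.ge.trans (sup_le (s.le_T.trans c.env.pm.le_M) ?_))
    exact cj_le hwM (s.le_T.trans c.env.pm.le_M)
  set K := sSup {X | Near P A T D X} with hK
  have hKeq : K = D ⊔ b.opp := s.main K (sSup_le fun X hX => s.near_le hX)
    (fun K₀ h => sSup_le fun X hX => h X hX (le_sSup hX)) s.near_self hopp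
    (le_sSup (show D ∈ {X | Near P A T D X} from s.near_self))
    (le_sSup (show b.opp ∈ {X | Near P A T D X} from hopp)) hcr
  rw [b.sup_opp] at hKeq
  -- elements fixing `D` fix the block
  have hstab : ∀ t ∈ T, cj t D = D → cj t L = L := by
    intro t ht htD
    have htP := c.env.pm.T_le ht
    have hhc : ∀ h ∈ hc P A T D, t * h * t⁻¹ ∈ hc P A T D := by
      intro h hh
      rw [s.mem_hc_iff] at hh ⊢
      refine ⟨mul_mem (mul_mem htP hh.1) (inv_mem htP), fun X hX x hx => ?_⟩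
      have h2 := hh.2 (cj t⁻¹ X) ⟨c.cj_mem hX.1 (inv_mem htP), cj_le (inv_mem ht) hX.2.1, fun he =>
        hX.2.2 (by rw [← cj_cancel t X, he, htD])⟩ (t⁻¹ * x * t)
        (H70.mem_cj.2 (by simpa [mul_assoc] using hx))
      calc x * (t * h * t⁻¹) = t * ((t⁻¹ * x * t) * h) * t⁻¹ := by group
        _ = t * (h * (t⁻¹ * x * t)) * t⁻¹ := by rw [h2]
        _ = _ := by group
    have hnear : ∀ {X}, Near P A T D X → cj t X ≤ K := by
      rintro _ ⟨h, hh, rfl⟩
      refine le_sSup (show cj t (cj h D) ∈ {X | Near P A T D X} from ⟨t * h * t⁻¹, hhc h hh, ?_⟩)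
      rw [H70.cj_cj]
      conv_lhs => rw [← htD, H70.cj_cj, inv_mul_cancel_right]
    refine Subgroup.eq_of_le_of_card_ge (le_trans ?_ hKeq.le) (by rw [H70.card_cj])
    rw [← b.sup_opp, H70.cj, Subgroup.map_sup]
    exact sup_le (hnear s.near_self) (hnear hopp)
  -- two conjugates
  have hpair : ∀ t ∈ T, cj t L ≠ L → ∃ b' : Block V (cj t L) (cj t D) F,
      ∀ X Y : Subgroup G, (X = D ∨ X = b.opp) → (Y = cj t D ∨ Y = b'.opp) → Comm X Y ∧ X ≠ Y := by
    intro t ht hne
    have htP := c.env.pm.T_le ht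
    obtain ⟨b'⟩ := b.exists_map (c.norm_mem htP)
    set D' := cj t D
    have hD' : Mem P A D' := c.cj_mem hD htP
    have hDD' : D' ≠ D := fun h => hne (hstab t ht h)
    have s' : Base p V P T M A D' := ⟨c, hD', cj_le ht s.le_T, h2⟩
    have hL'P : cj t L ≤ P := cj_le htP hLP
    have hLh' := s'.block_hc b' hL'P hcard
    have hjD' : D' ∈ jset P A T D := ⟨hD', s'.le_T, hDD'⟩
    have hjD : D ∈ jset P A T D' := ⟨hD, s.le_T, hDD'.symm⟩
    have c1 : Comm D' b.opp := fun x hx y hy =>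
      (s.mem_hc_iff.1 (hLh (b.opp_le hy))).2 _ hjD' x hx
    have c2 : Comm D b'.opp := fun x hx y hy =>
      (s'.mem_hc_iff.1 (hLh' (b'.opp_le hy))).2 _ hjD x hx
    have c3 : Comm D D' := c.comm_of_pgroup hD hD' c.env.pm.pgroup s.le_T s'.le_T
    have hne1 : D' ≠ b.opp := fun h => b.not_comm_opp (h ▸ c3)
    have hne2 : D ≠ b'.opp := fun h => b'.not_comm_opp (h ▸ c.comm_swap c3)
    have hoppm := c.opp_mem b hLP hD
    have c4 : Comm b'.opp b.opp := c.comm_opp b' hL'P hcard h2 hD' hoppm hne1 c1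
    have hne3 : b.opp ≠ b'.opp := fun h => b'.not_comm_opp (h ▸ c1)
    refine ⟨b', ?_⟩
    rintro X Y (rfl | rfl) (rfl | rfl)
    · exact ⟨c3, hDD'.symm⟩
    · exact ⟨c2, hne2⟩
    · exact ⟨c.comm_swap c1, hne1.symm⟩
    · exact ⟨c.comm_swap c4, hne3⟩
  refine ⟨L, ⟨c.env.norm, c.env.pm.T_le, hLP, ?_, ?_, b.mem_brk_vals,
    fun x hx => b.eq_one_of_central hx, ?_⟩, D, F, iF, iFf, ⟨hcard, hD, s.le_T⟩, ⟨b⟩⟩
  · intro t ht hne
    obtain ⟨b', hb'⟩ := hpair t ht hne
    have h1 : ∀ Y : Subgroup G, (Y = cj t D ∨ Y = b'.opp) → Y ≤ centralizer (L : Set G) := by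
      intro Y hY
      rw [Subgroup.le_centralizer_iff, ← b.sup_opp]
      exact sup_le (fun x hx => mem_centralizer_iff.2 fun y hy => ((hb' D Y (Or.inl rfl) hY).1 x hx y hy).symm)
        (fun x hx => mem_centralizer_iff.2 fun y hy => ((hb' b.opp Y (Or.inr rfl) hY).1 x hx y hy).symm)
    have h2 : cj t L ≤ centralizer (L : Set G) := by
      rw [← b'.sup_opp]
      exact sup_le (h1 _ (Or.inl rfl)) (h1 _ (Or.inr rfl))
    exact fun x hx e he => (mem_centralizer_iff.1 (h2 hx) e he).symm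
  · intro t ht hne x hx
    obtain ⟨b', hb'⟩ := hpair t ht hne
    have htP := c.env.pm.T_le ht
    have hL'P : cj t L ≤ P := cj_le htP hLP
    have hcomm : ∀ {X : Subgroup G}, (X = D ∨ X = b.opp) → ∀ d ∈ X, d ∈ centralizer
        ((cj t L : Subgroup G) : Set G) ∧ ∀ v ∈ V, ⁅d, v⁆ ∈ fx V (cj t L) := by
      intro X hX d hd
      have hXm : Mem P A X := by
        rcases hX with rfl | rfl
        · exact hD
        · exact c.opp_mem b hLP hD
      have hYm := c.opp_mem b' hL'P (c.cj_mem hD htP)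
      refine ⟨?_, fun v hv => ?_⟩
      · have : cj t L ≤ centralizer ({d} : Set G) := by
          rw [← b'.sup_opp]
          refine sup_le (fun y hy => mem_centralizer_singleton_iff.2
            ((hb' X _ hX (Or.inl rfl)).1 d hd y hy).symm) (fun y hy => mem_centralizer_singleton_iff.2
            ((hb' X _ hX (Or.inr rfl)).1 d hd y hy).symm)
        exact mem_centralizer_iff.2 fun y hy => mem_centralizer_singleton_iff.1 (this hy)
      · rw [← b'.sup_opp]
        obtain ⟨c1, n1⟩ := hb' X _ hX (Or.inl rfl)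
        obtain ⟨c2, n2⟩ := hb' X _ hX (Or.inr rfl)
        exact fx_mem_sup ((c.comm_facts (c.cj_mem hD htP) hXm n1.symm (c.comm_swap c1)).2.2.2.2 d hd v hv)
          ((c.comm_facts hYm hXm n2.symm (c.comm_swap c2)).2.2.2.2 d hd v hv)
    have hall : L ≤ centralizer ((cj t L : Subgroup G) : Set G) := by
      refine b.sup_opp.ge.trans ?_
      exact sup_le (fun d hd => (hcomm (Or.inl rfl) d hd).1) (fun d hd => (hcomm (Or.inr rfl) d hd).1)
    let S : Subgroup G :=
      { carrier := {d | d ∈ L ∧ ∀ v ∈ V, ⁅d, v⁆ ∈ fx V (cj t L)}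
        one_mem' := ⟨one_mem _, fun v _ => by rw [commutatorElement_one_left]; exact one_mem _⟩
        mul_mem' := by
          rintro d d' ⟨hd, h⟩ ⟨hd', h'⟩
          refine ⟨mul_mem hd hd', fun v hv => ?_⟩
          rw [show ⁅d * d', v⁆ = d * ⁅d', v⁆ * d⁻¹ * ⁅d, v⁆ by
            simp only [commutatorElement_def]; group]
          refine mul_mem ?_ (h v hv)
          have hdn : d ∈ normalizer ((fx V (cj t L) : Subgroup G) : Set G) :=
            mem_normalizer_iff_cj.2 (by
              rw [cj_fx (b.norm hd), mem_normalizer_iff_cj.1 (centralizer_le_normalizer _ (hall hd))])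
          exact H75.conj_mem_of_mem_normalizer hdn (h' v hv)
        inv_mem' := by
          rintro d ⟨hd, h⟩
          refine ⟨inv_mem hd, fun v hv => ?_⟩
          have hv' : d⁻¹ * v * d ∈ V := by simpa using b.conj_mem (inv_mem hd) hv
          rw [show ⁅d⁻¹, v⁆ = ⁅d, d⁻¹ * v * d⁆⁻¹ by simp only [commutatorElement_def]; group]
          exact inv_mem (h _ hv') }
    have hLS : L ≤ S := b.sup_opp.ge.trans (sup_le
      (fun d hd => ⟨b.le hd, fun v hv => (hcomm (Or.inl rfl) d hd).2 v hv⟩)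
      (fun d hd => ⟨b.opp_le hd, fun v hv => (hcomm (Or.inr rfl) d hd).2 v hv⟩))
    intro u hu
    have h1 : brk V L ≤ fx V (cj t L) := brk_le fun d hd v hv => (hLS hd).2 v hv
    exact fx_comm (h1 hu) hx
  · have hsub : (⨆ t ∈ T, cj t L) ⊔ T ≤ P :=
      sup_le (iSup₂_le fun t ht => cj_le (c.env.pm.T_le ht) hLP) c.env.pm.T_le
    by_contra hne
    refine hLM ((le_trans ?_ le_sup_left).trans (c.env.pm.uniq _ le_sup_right hsub hne))
    conv_lhs => rw [← H70.cj_of_mem (one_mem L)]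
    exact le_iSup₂ (f := fun t (_ : t ∈ T) => cj t L) 1 (one_mem T)

end Ctx

end H78.PMin
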