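import Cfsg.Agent.H78.PMin.Exact
import Cfsg.Agent.H78.SEFacts
import Cfsg.Agent.H78.SpreadSL2

/-!
Every minimal offender lies in a block: an `SL₂(q)` on a natural module.
-/

set_option autoImplicit false
set_option linter.unusedSectionVars false
set_option linter.style.haveILetI false

open Subgroup
open scoped commutatorElement MatrixGroups IsMulCommutative
open H70 (cj)

namespace H78.PMin

variable {G : Type*} [Group G]

/-- A minimal offender on `V` inside `P`. -/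
structure MinOff (p : ℕ) (V P A : Subgroup G) : Prop where
  le : A ≤ P
  elem : Cfsg.IsElementaryAbelian p A
  ne : A ≠ ⊥
  off : Nat.card V ≤ Nat.card A * Nat.card (fx V A)
  strict : ∀ B : Subgroup G, B ≤ A → B ≠ ⊥ → B ≠ A → Nat.card B * Nat.card (fx V B) < Nat.card V

/-- `L` is `SL₂(F)` acting naturally on `V / C_V(L)`, with `A` as upper root group. -/
structure Block (V L A : Subgroup G) (F : Type) [Field F] where
  ψ : G → (Fin 2 → F)
  ρ : ↥L ≃* SL(2, F)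
  norm : L ≤ normalizer (V : Set G)
  map_mul : ∀ u ∈ V, ∀ v ∈ V, ψ (u * v) = ψ u + ψ v
  surj : ∀ t, ∃ v ∈ V, ψ v = t
  zero_iff : ∀ v ∈ V, ψ v = 0 ↔ v ∈ fx V L
  equiv : ∀ g : ↥L, ∀ v ∈ V,
    ψ ((g : G) * v * (g : G)⁻¹) = (ρ g : Matrix (Fin 2) (Fin 2) F).mulVec (ψ v)
  upper : ∀ g : ↥L, (g : G) ∈ A ↔ ∃ s, ρ g = H98.uu s
  le : A ≤ L

variable [Finite G] {p : ℕ} [Fact p.Prime] {V P T M A : Subgroup G}

theorem cj_elem {A : Subgroup G} (h : Cfsg.IsElementaryAbelian p A) (k : G) :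
    Cfsg.IsElementaryAbelian p (cj k A) := by
  refine ⟨⟨⟨fun a c => Subtype.ext ?_⟩⟩, fun a ha => ?_⟩
  · have h1 := H10.comm_of_elem h (H70.mem_cj.1 a.2) (H70.mem_cj.1 c.2)
    show (a : G) * c = c * a
    calc (a : G) * c = k * ((k⁻¹ * a * k) * (k⁻¹ * c * k)) * k⁻¹ := by group
      _ = k * ((k⁻¹ * c * k) * (k⁻¹ * a * k)) * k⁻¹ := by rw [h1]
      _ = _ := by group
  · have h1 := h.2 _ (H70.mem_cj.1 ha)
    rw [show k⁻¹ * a * k = k⁻¹ * a * k⁻¹⁻¹ by group, conj_pow] at h1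
    rwa [conj_eq_one_iff] at h1

theorem MinOff.conj (hA : MinOff p V P A) (hV : P ≤ normalizer (V : Set G)) {k : G} (hk : k ∈ P) :
    MinOff p V P (cj k A) where
  le := cj_le hk hA.le
  elem := cj_elem hA.elem k
  ne := fun h0 => hA.ne (by rw [← cj_cancel' k A, h0, H70.cj, Subgroup.map_bot])
  off := by rw [H70.card_cj, fx_card (hV hk)]; exact hA.off
  strict := fun B hB h1 h2 => by
    have h := hA.strict (cj k⁻¹ B) ((H70.cj_mono _ hB).trans (cj_cancel' k A).le)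
      (fun h0 => h1 (by rw [← cj_cancel k B, h0, H70.cj, Subgroup.map_bot]))
      (fun he => h2 (by rw [← he, cj_cancel]))
    rwa [H70.card_cj, fx_card (hV (inv_mem hk))] at h

theorem MinOff.pgroup (hA : MinOff p V P A) : IsPGroup p A :=
  fun a => ⟨1, Subtype.ext (by simpa using hA.elem.2 _ a.2)⟩

theorem MinOff.inf_bot (hA : MinOff p V P A) (hf : P ⊓ centralizer (V : Set G) = ⊥) :
    A ⊓ centralizer (V : Set G) = ⊥ :=
  le_bot_iff.1 ((inf_le_inf_right _ hA.le).trans hf.le)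

theorem MinOff.not_le (hA : MinOff p V P A) (hf : P ⊓ centralizer (V : Set G) = ⊥) :
    ¬ A ≤ centralizer (V : Set G) := fun hle =>
  hA.ne (by rw [← hA.inf_bot hf, inf_of_le_left hle])

theorem MinOff.quad (hA : MinOff p V P A) (hV : Cfsg.IsElementaryAbelian p V)
    (hPV : P ≤ normalizer (V : Set G)) (hf : P ⊓ centralizer (V : Set G) = ⊥) :
    ∀ a ∈ A, ∀ v ∈ V, ⁅a, v⁆ ∈ fx V A :=
  quad_of_strict hV (hA.le.trans hPV) hA.elem (hA.not_le hf) hA.off
    fun B hB h1 h2 => (hA.strict B hB h1 h2).trans_le hA.off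

theorem MinOff.card_eq (hA : MinOff p V P A) (h : Env p V P T M)
    (hf : P ⊓ centralizer (V : Set G) = ⊥) : Nat.card A * Nat.card (fx V A) = Nat.card V := by
  refine le_antisymm ?_ hA.off
  have h1 := h.exact hA.le hA.elem
  rwa [hA.inf_bot hf, Subgroup.card_bot, one_mul] at h1

/-- The members of a block at the bottom of the descent. -/
theorem block_of_gen (h : Env p V P T M) (hf : P ⊓ centralizer (V : Set G) = ⊥) {U : Subgroup G}
    (hUV : U ≤ V) {Q T' M' : Subgroup G} (hQ : Q ≤ P) (hU : Env p U Q T' M')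
    (hUO : U ≤ centralizer ((Cfsg.pCoreOf p Q : Subgroup G) : Set G))
    (hA : MinOff p V P A) (hAT : A ≤ T')
    (hgen : ∀ g k, g ∈ Q → k ∈ Q → g⁻¹ * k ∉ M' → cj g A ⊔ cj k A = Q) :
    ∃ (F : Type) (_ : Field F) (_ : Fintype F), Fintype.card F = Nat.card A ∧
      Nonempty (Block V Q A F) := by
  haveI : IsMulCommutative ↥V := h.elem.1
  haveI : Finite (Additive (↥V ⧸ (fx V Q).subgroupOf V)) :=
    inferInstanceAs (Finite (↥V ⧸ (fx V Q).subgroupOf V))
  have hpm := hU.pm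
  set S := H78.SE.quotSec V (fx V Q) with hS
  obtain ⟨x, hx, hxM⟩ := SetLike.exists_of_lt (lt_of_le_of_ne hpm.M_le hpm.M_ne)
  have hH : H78.Spread.Hyp p S Q A M' (Cfsg.pCoreOf p Q) :=
    { elem := h.elem
      le_norm := hQ.trans h.norm
      faith := le_bot_iff.1 ((inf_le_inf_right _ hQ).trans hf.le)
      bot_eq := rfl
      le_M := hAT.trans hpm.le_M
      M_le := hpm.M_le
      abel := fun a ha b hb => H10.comm_of_elem hA.elem ha hb
      quad := hA.quad h.elem h.norm hf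
      gen := fun y hy hyM => by
        have := hgen 1 y (one_mem _) hy (by simpa using hyM)
        rwa [H70.cj_of_mem (one_mem A)] at this
      exists_out := ⟨x, hx, hxM⟩
      off := hA.off
      strict := fun B hB h1 h2 => (hA.strict B hB h1 h2).trans_le hA.off
      Q_le := hpm.pCore_le.trans hpm.le_M
      Q_norm := H75.le_normalizer_pCoreOf Q
      Q_core := fun a ha hall => hpm.mem_core_of_all (hAT ha) hall
      Q_max := fun N hN hNp hNn => H75.le_pCoreOf hN hNn hNp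
      fixed := by
        obtain ⟨z, hz, hzQ⟩ := hU.fixed_out
        exact ⟨z, hUV hz.1, centralizer_le (SetLike.coe_subset_coe.2 hAT) hz.2, hUO hz.1, hzQ⟩ }
  obtain ⟨F, iF, iFf, hcard, ⟨c, hc, ρ, hρ, hact⟩, -⟩ := hH.exists_sl2
  refine ⟨F, iF, iFf, hcard, ?_⟩
  -- a fixed vector of `A`
  obtain ⟨z, hzU, hzA, -, hzQ⟩ := hH.fixed
  have hzV : z ∈ V := hzU
  set w₀ := c (S.img z) with hw₀
  have hw0 : w₀ ≠ 0 := by
    intro h0
    have h1 : S.img z = 0 := hc.1 (by rw [← hw₀, h0, map_zero])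
    exact hzQ ((S.img_eq_zero hzV).1 h1).2
  obtain ⟨K, hK⟩ : ∃ K : SL(2, F), (K : Matrix (Fin 2) (Fin 2) F).mulVec ![1, 0] = w₀ := by
    by_cases h0 : w₀ 0 = 0
    · have h1 : w₀ 1 ≠ 0 := fun h1 => hw0 (by funext i; fin_cases i <;> simp [h0, h1])
      refine ⟨⟨!![0, -(w₀ 1)⁻¹; w₀ 1, 0], by simp [Matrix.det_fin_two_of, h1]⟩, ?_⟩
      funext i
      fin_cases i <;> simp [Matrix.mulVec, dotProduct, Fin.sum_univ_two, h0]
    · refine ⟨⟨!![w₀ 0, 0; w₀ 1, (w₀ 0)⁻¹], by simp [Matrix.det_fin_two_of, h0]⟩, ?_⟩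
      funext i
      fin_cases i <;> simp [Matrix.mulVec, dotProduct, Fin.sum_univ_two]
  let ρ' : ↥Q ≃* SL(2, F) := (MulEquiv.ofBijective ρ hρ).trans (MulAut.conj K⁻¹)
  have hρ' : ∀ g, ρ' g = K⁻¹ * ρ g * K := fun g => by
    show MulAut.conj K⁻¹ (ρ g) = _
    rw [MulAut.conj_apply, inv_inv]
  let ψ : G → (Fin 2 → F) := fun v => (K⁻¹ : SL(2, F)).1.mulVec (c (S.img v))
  have hequiv : ∀ g : ↥Q, ∀ v ∈ V,
      ψ ((g : G) * v * (g : G)⁻¹) = (ρ' g : Matrix (Fin 2) (Fin 2) F).mulVec (ψ v) := by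
    intro g v hv
    show (K⁻¹ : SL(2, F)).1.mulVec _ = _
    rw [← S.act_img (hH.nz g.2) hv, hact, hρ', Matrix.mulVec_mulVec, Matrix.mulVec_mulVec,
      ← Matrix.SpecialLinearGroup.coe_mul, ← Matrix.SpecialLinearGroup.coe_mul,
      show K⁻¹ * ρ g * K * K⁻¹ = K⁻¹ * ρ g by group]
  have hfix : ∀ g : ↥Q, (g : G) ∈ A → ∃ s, ρ' g = H98.uu s := by
    intro g hg
    have h1 : ψ z = ![1, 0] := by
      show (K⁻¹ : SL(2, F)).1.mulVec w₀ = _
      rw [← hK, Matrix.mulVec_mulVec, ← Matrix.SpecialLinearGroup.coe_mul, inv_mul_cancel,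
        Matrix.SpecialLinearGroup.coe_one, Matrix.one_mulVec]
    have h2 := hequiv g z hzV
    rw [mem_centralizer_iff.1 hzA _ hg, mul_inv_cancel_right, h1] at h2
    have e0 := congrFun h2 0
    have e1 := congrFun h2 1
    simp [Matrix.mulVec, dotProduct, Fin.sum_univ_two] at e0 e1
    have hdet := (ρ' g).2
    rw [Matrix.det_fin_two, ← e0, ← e1, one_mul, mul_zero, sub_zero] at hdet
    refine ⟨(ρ' g : Matrix (Fin 2) (Fin 2) F) 0 1, Subtype.ext ?_⟩
    ext i j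
    fin_cases i <;> fin_cases j <;> simp [H98.coe_uu, ← e0, ← e1, hdet]
  have hAQ : A ≤ Q := hAT.trans hpm.T_le
  refine ⟨{
    ψ := ψ
    ρ := ρ'
    norm := hQ.trans h.norm
    map_mul := fun u hu v hv => by
      show (K⁻¹ : SL(2, F)).1.mulVec _ = _
      rw [S.img_mul hu hv, map_add, Matrix.mulVec_add]
    surj := fun t => by
      obtain ⟨w, hw⟩ := hc.2 (K.1.mulVec t)
      obtain ⟨v, hv, rfl⟩ := S.exists_img w
      refine ⟨v, hv, ?_⟩
      show (K⁻¹ : SL(2, F)).1.mulVec _ = _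
      rw [hw, Matrix.mulVec_mulVec, ← Matrix.SpecialLinearGroup.coe_mul, inv_mul_cancel,
        Matrix.SpecialLinearGroup.coe_one, Matrix.one_mulVec]
    zero_iff := fun v hv => by
      refine Iff.trans ⟨fun h0 => ?_, fun h0 => ?_⟩ (S.img_eq_zero hv)
      · apply hc.1
        rw [map_zero]
        have h1 := congrArg (K.1.mulVec) h0
        rwa [Matrix.mulVec_mulVec, ← Matrix.SpecialLinearGroup.coe_mul, mul_inv_cancel,
          Matrix.SpecialLinearGroup.coe_one, Matrix.one_mulVec, Matrix.mulVec_zero] at h1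
      · show (K⁻¹ : SL(2, F)).1.mulVec _ = _
        rw [h0, map_zero, Matrix.mulVec_zero]
    equiv := hequiv
    upper := fun g => ⟨hfix g, ?_⟩
    le := hAQ }⟩
  rintro ⟨s, hs⟩
  let sv : A → F := fun a => Classical.choose (hfix ⟨a, hAQ a.2⟩ a.2)
  have hsv : ∀ a : A, ρ' ⟨a, hAQ a.2⟩ = H98.uu (sv a) := fun a =>
    Classical.choose_spec (hfix ⟨a, hAQ a.2⟩ a.2)
  have hinj : Function.Injective sv := fun a b hab => by
    have h1 : ρ' ⟨a, hAQ a.2⟩ = ρ' ⟨b, hAQ b.2⟩ := by rw [hsv, hsv, hab]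
    exact Subtype.ext (Subtype.mk.inj (ρ'.injective h1))
  obtain ⟨a, ha⟩ := ((Nat.bijective_iff_injective_and_card sv).2
    ⟨hinj, by rw [Nat.card_eq_fintype_card (α := F), hcard]⟩).2 s
  have : (g : ↥Q) = ⟨a, hAQ a.2⟩ := ρ'.injective (by rw [hs, hsv, ha])
  rw [this]
  exact a.2

/-- Below any `p`-minimal subgroup moving the fixed points a minimal offender lies in a block. -/
theorem exists_block (h : Env p V P T M) (hf : P ⊓ centralizer (V : Set G) = ⊥)
    {Q T' M' : Subgroup G} (hQ : Q ≤ P) (hU : Env p (fx V (Cfsg.pCoreOf p Q)) Q T' M')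
    (hA : MinOff p V P A) (hAT : A ≤ T') (hnc : ¬ A ≤ Cfsg.pCoreOf p Q) :
    ∃ L TL ML g k, L ≤ Q ∧ PM p L TL ML ∧ g ∈ Q ∧ TL ≤ cj g T' ∧ ¬ L ≤ cj g M' ∧ k ∈ Q ∧
      cj k A ≤ TL ∧ ∃ (F : Type) (_ : Field F) (_ : Fintype F),
        Fintype.card F = Nat.card A ∧ Nonempty (Block V L (cj k A) F) := by
  induction hn : Nat.card Q using Nat.strong_induction_on generalizing Q T' M' A with
  | _ n ih =>
  rcases hU.pm.descent hAT hnc with hgen | ⟨Q', T'', M'', g, k, hQ', hne, hpm, hg, hT'', hQM, hk,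
    hkT, hkO⟩
  · refine ⟨Q, T', M', 1, 1, le_rfl, hU.pm, one_mem _, ?_, ?_, one_mem _, ?_, ?_⟩
    · rw [H70.cj_of_mem (one_mem T')]
    · rw [H70.cj_of_mem (one_mem M')]
      exact fun hle => hU.pm.M_ne (le_antisymm hU.pm.M_le hle)
    · rwa [H70.cj_of_mem (one_mem A)]
    · rw [H70.cj_of_mem (one_mem A)]
      exact block_of_gen h hf inf_le_left hQ hU (fun v hv => hv.2) hA hAT hgen
  · have hU' := hU.sub_of inf_le_left h.elem hQ' hpm hg hT'' hQM ((hQ'.trans hQ).trans h.norm)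
    have hlt : Nat.card Q' < n := hn ▸ lt_of_le_of_ne (Subgroup.card_le_of_le hQ') fun he =>
      hne (Subgroup.eq_of_le_of_card_ge hQ' he.ge)
    obtain ⟨L, TL, ML, g', k', hL, hpmL, hg', hTL, hLM, hk', hkTL, hF⟩ :=
      ih _ hlt (hQ'.trans hQ) hU' (hA.conj h.norm (hQ hk)) hkT hkO rfl
    refine ⟨L, TL, ML, g' * g, k' * k, hL.trans hQ', hpmL, mul_mem (hQ' hg') hg, ?_, ?_,
      mul_mem (hQ' hk') hk, by rwa [← H70.cj_cj], ?_⟩
    · rw [← H70.cj_cj]; exact hTL.trans (H70.cj_mono _ hT'')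
    · intro hle
      refine hLM (le_trans (le_inf hL hle) ?_)
      refine (hpm.conj_mem hg').uniq _ ?_ inf_le_left fun he => hQM ?_
      · rw [← H70.cj_cj]
        exact le_inf (hpm.conj_mem hg').T_le
          (H70.cj_mono _ (hT''.trans (H70.cj_mono _ hU.pm.le_M)))
      · have h1 := H70.cj_mono g'⁻¹ (inf_eq_left.1 he)
        rwa [← H70.cj_cj, cj_cancel', cj_eq_of_mem (inv_mem hg')] at h1
    · obtain ⟨F, iF, iFf, hc, hB⟩ := hF
      refine ⟨F, iF, iFf, by rw [hc, H70.card_cj], ?_⟩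
      rwa [← H70.cj_cj]

end H78.PMin
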