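import Cfsg.Agent.H78.PMin.Torus

/-!
A member commuting with one member of a block centralises the block (`q > 2`).
-/

set_option autoImplicit false
set_option linter.unusedSectionVars false
set_option linter.unusedSimpArgs false
set_option linter.style.haveILetI false

open Subgroup
open scoped commutatorElement MatrixGroups
open H70 (cj)

namespace H78.PMin

variable {G : Type*} [Group G] [Finite G] {p : ℕ} [Fact p.Prime]

namespace Ctx

variable {V P T M A : Subgroup G} (c : Ctx p V P T M A)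
include c

theorem comm_swap {D E : Subgroup G} (h : Comm D E) : Comm E D := fun e he d hd => (h d hd e he).symm

/-- The product of two commuting members. -/
theorem ser_pair {D E : Subgroup G} (hD : Mem P A D) (hE : Mem P A E) (hne : D ≠ E)
    (h : Comm D E) : ser c.env.elem c.env.norm (fx V (D ⊔ E)) = D ⊔ E := by
  obtain ⟨-, hi, hcard, -, hUE⟩ := c.comm_facts hD hE hne h
  obtain ⟨-, -, -, -, hUD⟩ := c.comm_facts hE hD hne.symm (c.comm_swap h)
  refine (Subgroup.eq_of_le_of_card_ge (sup_le ?_ ?_) ?_).symm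
  · exact fun d hd => c.mem_ser_of_mem hD (fx_anti le_sup_left) hd fun v hv =>
      fx_mem_sup (c.quad hD d hd v hv) (hUD d hd v hv)
  · exact fun e he => c.mem_ser_of_mem hE (fx_anti le_sup_right) he fun v hv =>
      fx_mem_sup (hUE e he v hv) (c.quad hE e he v hv)
  · have h1 := c.card_ser (Z := fx V (D ⊔ E)) inf_le_left
    rw [← hi, ← hcard] at h1
    exact Nat.le_of_mul_le_mul_right h1 Nat.card_pos

variable {D L E : Subgroup G} {F : Type} [Field F] [Fintype F]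

/-- The torus normalises the product of `D` with a commuting member, and the fixed points of that
product. -/
theorem tor_norm_pair (b : Block V L D F) (hLP : L ≤ P) (hD : Mem P A D) (hE : Mem P A E)
    (hne : D ≠ E) (h : Comm D E) (t : Fˣ) {g : G} (hg : g ∈ D ⊔ E) :
    (b.tor t : G) * g * (b.tor t : G)⁻¹ ∈ D ⊔ E := by
  have hquad := c.quad hD
  obtain ⟨-, -, -, -, hUD⟩ := c.comm_facts hE hD hne.symm (c.comm_swap h)
  set Z := fx V (D ⊔ E)
  have hkey : ∀ t : Fˣ, ∀ z ∈ Z, (b.tor t : G) * z * (b.tor t : G)⁻¹ ∈ Z := by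
    intro t z hz
    obtain ⟨a, ha, w, hw, c0, hc0, rfl⟩ := b.fx_decomp hquad (fx_anti le_sup_left hz)
    have hu : ⁅a, w⁆ ∈ Z := fx_mem_sup (hquad a ha w hw) (hUD a ha w hw)
    have hc : c0 ∈ Z := by
      have := mul_mem (inv_mem hu) hz
      rwa [inv_mul_cancel_left] at this
    set h' : G := (b.tor t : G)
    have e : h' * (⁅a, w⁆ * c0) * h'⁻¹ = ⁅h' * a * h'⁻¹, h' * w * h'⁻¹⁆ * c0 := by
      rw [show h' * (⁅a, w⁆ * c0) * h'⁻¹ =
        ⁅h' * a * h'⁻¹, h' * w * h'⁻¹⁆ * (h' * c0 * h'⁻¹) by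
          simp only [commutatorElement_def]; group, fx_conj hc0 (b.tor t).2]
    rw [e]
    exact mul_mem (fx_mem_sup (hquad _ (b.tor_norm t ha) _ (b.conj_mem (b.tor t).2 hw))
      (hUD _ (b.tor_norm t ha) _ (b.conj_mem (b.tor t).2 hw))) hc
  rw [← c.ser_pair hD hE hne h] at hg ⊢
  obtain ⟨hgP, hgf, hgc⟩ := hg
  have hP : (b.tor t : G) ∈ P := hLP (b.tor t).2
  have hinv : ∀ z ∈ Z, (b.tor t : G)⁻¹ * z * (b.tor t : G) ∈ Z := by
    intro z hz
    let f : Z → Z := fun x => ⟨_, hkey t x x.2⟩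
    have hf : Function.Surjective f := Finite.injective_iff_surjective.1 fun x y hxy =>
      Subtype.ext (mul_left_cancel (mul_right_cancel (congrArg Subtype.val hxy)))
    obtain ⟨x, hx⟩ := hf ⟨z, hz⟩
    have hx' : (b.tor t : G) * x * (b.tor t : G)⁻¹ = z := congrArg Subtype.val hx
    rw [← hx']
    simp [mul_assoc]
  set h' : G := (b.tor t : G)
  refine ⟨mul_mem (mul_mem hP hgP) (inv_mem hP), fun z hz => ?_, fun v hv => ?_⟩
  · calc h' * g * h'⁻¹ * z * (h' * g * h'⁻¹)⁻¹ = h' * (g * (h'⁻¹ * z * h') * g⁻¹) * h'⁻¹ := by group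
      _ = h' * (h'⁻¹ * z * h') * h'⁻¹ := by rw [hgf _ (hinv z hz)]
      _ = z := by group
  · have h1 := hkey t _ (hgc _ (c.conj_V (inv_mem hP) hv))
    rwa [show h' * ⁅g, h'⁻¹ * v * h'⁻¹⁻¹⁆ * h'⁻¹ = ⁅h' * g * h'⁻¹, v⁆ by
      simp only [commutatorElement_def]; group] at h1

/-- **A member commuting with one member of a block commutes with all of them.** -/
theorem comm_opp (b : Block V L D F) (hLP : L ≤ P) (hq : Fintype.card F = Nat.card A)
    (h2 : 2 < Nat.card A) (hD : Mem P A D) (hE : Mem P A E) (hne : D ≠ E) (h : Comm D E) :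
    Comm b.opp E := by
  classical
  have hV := c.env.elem
  have hquad := c.quad hD
  have hY := c.opp_mem b hLP hD
  obtain ⟨-, -, -, hsup, hUE⟩ := c.comm_facts hD hE hne h
  obtain ⟨-, -, -, -, hUD⟩ := c.comm_facts hE hD hne.symm (c.comm_swap h)
  have hLV := b.norm
  -- commutators with vectors fixed by the block
  have hψ1 : ∀ e ∈ E, ∀ v ∈ V, b.ψ ⁅e, v⁆ 1 = 0 := fun e he v hv =>
    (b.mem_fx_iff hquad (hUE e he v hv).1).1 (hUE e he v hv)
  -- write `v` as a vector fixed by `L` modulo the axis of `E`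
  have hsplit : ∀ v ∈ V, ∃ c0 ∈ fx V L, c0⁻¹ * v ∈ fx V E := by
    intro v hv
    rw [← hsup] at hv
    obtain ⟨x, hx, y, hy, rfl⟩ := H10.exists_mul_of_mem_sup
      (le_normalizer_of_le_elem hV inf_le_left inf_le_left) hv
    obtain ⟨a, ha, w, hw, c0, hc0, rfl⟩ := b.fx_decomp hquad hx
    refine ⟨c0, hc0, ?_⟩
    rw [show c0⁻¹ * (⁅a, w⁆ * c0 * y) = c0⁻¹ * ⁅a, w⁆ * c0 * y by group,
      H10.comm_of_elem hV (inv_mem hc0.1) (hUD a ha w hw).1, inv_mul_cancel_right]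
    exact mul_mem (hUD a ha w hw) hy
  have hreduce : ∀ e ∈ E, ∀ v ∈ V, ∀ c0 ∈ fx V L, c0⁻¹ * v ∈ fx V E → ⁅e, v⁆ = ⁅e, c0⁆ := by
    intro e he v hv c0 hc0 h'
    conv_lhs => rw [show v = c0 * (c0⁻¹ * v) by group]
    rw [comm_mul hV (c.norm_mem ((c.minOff hE).le he)) hc0.1 h'.1,
      commutatorElement_eq_one_iff_mul_comm.2 (fx_comm h' he), mul_one]
  -- the torus permutes these commutators
  have htor : ∀ (t : Fˣ), ∀ e ∈ E, ∃ e' ∈ E, ∃ d ∈ D,
      (b.tor t : G) * e * (b.tor t : G)⁻¹ = d * e' ∧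
        ∀ c0 ∈ fx V L, (b.tor t : G) * ⁅e, c0⁆ * (b.tor t : G)⁻¹ = ⁅e', c0⁆ := by
    intro t e he
    obtain ⟨d, hd, e', he', hde⟩ := H10.exists_mul_of_mem_sup
      (fun d hd => c.norm_of_comm (c.comm_swap h) hd)
      (c.tor_norm_pair b hLP hD hE hne h t (mem_sup_right (S := D) he))
    refine ⟨e', he', d, hd, hde, fun c0 hc0 => ?_⟩
    set h' : G := (b.tor t : G)
    have hu := hUE e' he' c0 hc0.1
    calc h' * ⁅e, c0⁆ * h'⁻¹ = ⁅h' * e * h'⁻¹, h' * c0 * h'⁻¹⁆ := by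
          simp only [commutatorElement_def]; group
      _ = ⁅d * e', c0⁆ := by rw [hde, fx_conj hc0 (b.tor t).2]
      _ = d * ⁅e', c0⁆ * d⁻¹ * ⁅d, c0⁆ := by simp only [commutatorElement_def]; group
      _ = ⁅e', c0⁆ := by
        rw [fx_conj hu hd, commutatorElement_eq_one_iff_mul_comm.2 (fx_comm (b.fx_le hc0) hd),
          mul_one]
  have hhom : ∀ e ∈ E, ∀ e' ∈ E, ∀ v ∈ V, ⁅e * e', v⁆ = ⁅e, v⁆ * ⁅e', v⁆ := by
    intro e he e' he' v hv
    have hu := c.quad hE e' he' v hv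
    calc ⁅e * e', v⁆ = e * ⁅e', v⁆ * e⁻¹ * ⁅e, v⁆ := by simp only [commutatorElement_def]; group
      _ = _ := by rw [fx_conj hu he, H10.comm_of_elem hV hu.1 (c.quad hE e he v hv).1]
  by_cases hall : ∀ e ∈ E, ∀ c0 ∈ fx V L, b.ψ ⁅e, c0⁆ 0 = 0
  · refine c.comm_of_le hY hE fun e he v hv => ?_
    obtain ⟨c0, hc0, h'⟩ := hsplit v hv
    rw [hreduce e he v hv c0 hc0 h', b.mem_fx_opp_iff hquad (c.quad hE e he c0 hc0.1).1]
    exact hall e he c0 hc0
  exfalso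
  push Not at hall
  obtain ⟨e₀, he₀, cs, hcs, hne0⟩ := hall
  -- the parameter of an element of `E`
  let val : G → E → F := fun c0 e => b.ψ ⁅(e : G), c0⁆ 0
  have hval_add : ∀ c0 ∈ fx V L, ∀ e e' : E, val c0 (e * e') = val c0 e + val c0 e' := by
    intro c0 hc0 e e'
    show b.ψ ⁅(e : G) * e', c0⁆ 0 = _
    rw [hhom e e.2 e' e'.2 c0 hc0.1,
      b.map_mul _ (c.quad hE e e.2 c0 hc0.1).1 _ (c.quad hE e' e'.2 c0 hc0.1).1]
    rfl
  have hvsurj : Function.Surjective (val cs) := by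
    intro x
    by_cases hx : x = 0
    · refine ⟨1, ?_⟩
      show b.ψ ⁅((1 : E) : G), cs⁆ 0 = x
      rw [hx, Subgroup.coe_one, commutatorElement_one_left, b.map_one, Pi.zero_apply]
    · obtain ⟨e', he', d, -, -, hh⟩ :=
        htor (Units.mk0 (x / b.ψ ⁅e₀, cs⁆ 0) (div_ne_zero hx hne0)) e₀ he₀
      refine ⟨⟨e', he'⟩, ?_⟩
      show b.ψ ⁅e', cs⁆ 0 = x
      rw [← hh cs hcs, b.map_tor _ (c.quad hE e₀ he₀ cs hcs.1).1]
      simp [div_mul_cancel₀ _ hne0]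
  have hcardE : Nat.card E = Nat.card F := by
    rw [c.card_mem hE, Nat.card_eq_fintype_card (α := F), hq]
  have hvinj : Function.Injective (val cs) :=
    ((Nat.bijective_iff_surjective_and_card (val cs)).2 ⟨hvsurj, hcardE⟩).1
  -- the point of `D`
  obtain ⟨t₀, ht₀⟩ : ∃ t : Fˣ, (t : F) ≠ 1 := by
    by_contra hno
    push Not at hno
    have : ∀ x : F, x = 0 ∨ x = 1 := fun x => by
      by_cases hx : x = 0
      · exact Or.inl hx
      · exact Or.inr (hno (Units.mk0 x hx))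
    have hle : Fintype.card F ≤ ({0, 1} : Finset F).card := by
      rw [← Finset.card_univ]
      exact Finset.card_le_card fun x _ => by rcases this x with h' | h' <;> simp [h']
    rw [hq] at hle
    exact absurd (hle.trans Finset.card_le_two) (by omega)
  set h₀ : G := (b.tor t₀ : G)
  let P1 : Subgroup G := closure {x | ∃ v ∈ fx V D, ⁅h₀, v⁆ = x}
  have hP1V : ∀ x ∈ P1, x ∈ fx V D ∧ ∃ v ∈ fx V D, ⁅h₀, v⁆ = x := by
    intro x hx
    induction hx using Subgroup.closure_induction with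
    | mem x hx =>
      obtain ⟨v, hv, rfl⟩ := hx
      refine ⟨?_, v, hv, rfl⟩
      refine mul_mem (H75.conj_mem_of_mem_normalizer ?_ hv) (inv_mem hv)
      exact c.fx_norm (hLP (b.tor t₀).2) (mem_normalizer_iff_cj.2 (H70.eq_of_cj_le fun y hy => by
        have := b.tor_norm t₀ (H70.mem_cj.1 hy)
        rwa [show (b.tor t₀ : G) * ((b.tor t₀ : G)⁻¹ * y * (b.tor t₀ : G)) * (b.tor t₀ : G)⁻¹ = y
          by group] at this))
    | one => exact ⟨one_mem _, 1, one_mem _, commutatorElement_one_right _⟩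
    | mul x y _ _ ix iy =>
      obtain ⟨hx, u, hu, rfl⟩ := ix
      obtain ⟨hy, w, hw, rfl⟩ := iy
      exact ⟨mul_mem hx hy, u * w, mul_mem hu hw, comm_mul hV (hLV (b.tor t₀).2) hu.1 hw.1⟩
    | inv x _ ix =>
      obtain ⟨hx, u, hu, rfl⟩ := ix
      refine ⟨inv_mem hx, u⁻¹, inv_mem hu, ?_⟩
      have h1 := comm_mul hV (hLV (b.tor t₀).2) hu.1 (inv_mem hu.1)
      rw [mul_inv_cancel, commutatorElement_one_right] at h1
      exact eq_inv_of_mul_eq_one_right h1.symm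
  have hP1inj : ∀ x ∈ P1, b.ψ x 0 = 0 → x = 1 := by
    intro x hx h0
    obtain ⟨-, v, hv, rfl⟩ := hP1V x hx
    rw [b.map_comm _ hv.1, show b.ρ (b.tor t₀) = _ from b.ρ.apply_symm_apply _] at h0
    simp [H78.Nat2.coe_hh, Matrix.mulVec, dotProduct, Fin.sum_univ_two] at h0
    have hv0 : b.ψ v 0 = 0 := by
      rcases mul_eq_zero.1 (show ((t₀ : F) - 1) * b.ψ v 0 = 0 by linear_combination h0)
        with h' | h'
      · exact absurd (sub_eq_zero.1 h') ht₀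
      · exact h'
    have hvL : v ∈ fx V L := by
      refine (b.zero_iff v hv.1).1 ?_
      funext i
      fin_cases i <;> simp [hv0, (b.mem_fx_iff hquad hv.1).1 hv]
    exact commutatorElement_eq_one_iff_mul_comm.2 (fx_comm hvL (b.tor t₀).2)
  have hP1V' : P1 ≤ fx V D := fun x hx => (hP1V x hx).1
  have hinP1 : ∀ e ∈ E, ⁅e, cs⁆ ∈ P1 := by
    intro e he
    obtain ⟨e₁, he₁⟩ := hvsurj (b.ψ ⁅e, cs⁆ 0 / ((t₀ : F) - 1))
    obtain ⟨e', he', d, -, -, hh⟩ := htor t₀ e₁ e₁.2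
    have hu := c.quad hE e₁ e₁.2 cs hcs.1
    have h1 : ⁅e' * (e₁ : G)⁻¹, cs⁆ = ⁅h₀, ⁅(e₁ : G), cs⁆⁆ := by
      have h2 := hhom (e' * (e₁ : G)⁻¹) (mul_mem he' (inv_mem e₁.2)) e₁ e₁.2 cs hcs.1
      rw [inv_mul_cancel_right, ← hh cs hcs] at h2
      rw [commutatorElement_def h₀, h2]
      group
    have h3 : val cs ⟨e' * (e₁ : G)⁻¹, mul_mem he' (inv_mem e₁.2)⟩ = val cs ⟨e, he⟩ := by
      show b.ψ ⁅e' * (e₁ : G)⁻¹, cs⁆ 0 = b.ψ ⁅e, cs⁆ 0
      rw [h1, b.map_comm _ hu.1, show b.ρ (b.tor t₀) = _ from b.ρ.apply_symm_apply _]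
      have he₁' : b.ψ ⁅(e₁ : G), cs⁆ 0 = b.ψ ⁅e, cs⁆ 0 / ((t₀ : F) - 1) := he₁
      simp [H78.Nat2.coe_hh, Matrix.mulVec, dotProduct, Fin.sum_univ_two, he₁']
      field_simp [sub_ne_zero.2 ht₀]
    have h4 : ⁅e, cs⁆ = ⁅h₀, ⁅(e₁ : G), cs⁆⁆ := by
      rw [← h1, show e = e' * (e₁ : G)⁻¹ from (congrArg Subtype.val (hvinj h3)).symm]
    rw [h4]
    exact subset_closure ⟨_, hUE e₁ e₁.2 cs hcs.1, rfl⟩
  -- all of `[V,E]` lies in the point
  have hallP1 : ∀ e ∈ E, ∀ c0 ∈ fx V L, ⁅e, c0⁆ ∈ P1 := by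
    intro e he c0 hc0
    -- move `c0` by a multiple of `cs`
    have hmem : ∀ e ∈ E, ∀ c1 ∈ fx V L, (∃ e₁ ∈ E, b.ψ ⁅e₁, c1⁆ 0 ≠ 0) →
        ∀ e' ∈ E, b.ψ ⁅e', c1⁆ 0 = 0 → ⁅e', c1⁆ = 1 := by
      intro e he c1 hc1 ⟨e₁, he₁, hne1⟩ e' he' h0
      have hs : Function.Surjective (val c1) := by
        intro x
        by_cases hx : x = 0
        · exact ⟨⟨e', he'⟩, by rw [hx]; exact h0⟩
        · obtain ⟨e'', he'', d, -, -, hh⟩ :=
            htor (Units.mk0 (x / b.ψ ⁅e₁, c1⁆ 0) (div_ne_zero hx hne1)) e₁ he₁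
          refine ⟨⟨e'', he''⟩, ?_⟩
          show b.ψ ⁅e'', c1⁆ 0 = x
          rw [← hh c1 hc1, b.map_tor _ (c.quad hE e₁ he₁ c1 hc1.1).1]
          simp [div_mul_cancel₀ _ hne1]
      have hi := ((Nat.bijective_iff_surjective_and_card (val c1)).2 ⟨hs, hcardE⟩).1
      have h1 : (⟨e', he'⟩ : E) = 1 := hi (by
        show b.ψ ⁅e', c1⁆ 0 = b.ψ ⁅((1 : E) : G), c1⁆ 0
        rw [h0, Subgroup.coe_one, commutatorElement_one_left, b.map_one, Pi.zero_apply])
      rw [show e' = 1 from congrArg Subtype.val h1, commutatorElement_one_left]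
    by_cases hc : ∃ e₁ ∈ E, b.ψ ⁅e₁, c0⁆ 0 ≠ 0
    · -- a full point, compare with `P1` through a torus
      obtain ⟨e', he', d, -, -, hh⟩ := htor t₀ e he
      have hu := c.quad hE e he c0 hc0.1
      set x := b.ψ ⁅e, c0⁆ 0
      obtain ⟨e₁, he₁, hne1⟩ := hc
      by_cases hx : x = 0
      · rw [hmem e he c0 hc0 ⟨e₁, he₁, hne1⟩ e he hx]; exact one_mem _
      obtain ⟨t, ht⟩ : ∃ t : Fˣ, ((t₀ : F) - 1) * ((t : F) * x) = x := by
        refine ⟨Units.mk0 ((t₀ : F) - 1)⁻¹ (inv_ne_zero (sub_ne_zero.2 ht₀)), ?_⟩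
        simp only [Units.val_mk0]
        rw [← mul_assoc, mul_inv_cancel₀ (sub_ne_zero.2 ht₀), one_mul]
      obtain ⟨e₂, he₂, d₂, -, -, hh2⟩ := htor t e he
      obtain ⟨e₃, he₃, d₃, -, -, hh3⟩ := htor t₀ e₂ he₂
      have h1 : ⁅e₃ * e₂⁻¹, c0⁆ = ⁅h₀, ⁅e₂, c0⁆⁆ := by
        have h2 := hhom (e₃ * e₂⁻¹) (mul_mem he₃ (inv_mem he₂)) e₂ he₂ c0 hc0.1
        rw [inv_mul_cancel_right, ← hh3 c0 hc0] at h2
        rw [commutatorElement_def h₀, h2]
        group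
      have hu2 := c.quad hE e₂ he₂ c0 hc0.1
      have h3 : ⁅(e₃ * e₂⁻¹) * e⁻¹, c0⁆ = 1 := by
        refine hmem e he c0 hc0 ⟨e₁, he₁, hne1⟩ _
          (mul_mem (mul_mem he₃ (inv_mem he₂)) (inv_mem he)) ?_
        have h5 := hval_add c0 hc0 ⟨e₃ * e₂⁻¹ * e⁻¹,
          mul_mem (mul_mem he₃ (inv_mem he₂)) (inv_mem he)⟩ ⟨e, he⟩
        simp only [val, Subgroup.coe_mul, inv_mul_cancel_right] at h5
        have h6 : b.ψ ⁅e₃ * e₂⁻¹, c0⁆ 0 = x := by
          rw [h1, b.map_comm _ hu2.1, show b.ρ (b.tor t₀) = _ from b.ρ.apply_symm_apply _]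
          have h7 : b.ψ ⁅e₂, c0⁆ 0 = (t : F) * x := by
            rw [← hh2 c0 hc0, b.map_tor _ hu.1]; rfl
          simp [H78.Nat2.coe_hh, Matrix.mulVec, dotProduct, Fin.sum_univ_two, h7]
          linear_combination ht
        rw [h6] at h5
        exact add_right_cancel (b := x) (by rw [zero_add]; exact h5.symm)
      have h8 : ⁅e, c0⁆ = ⁅h₀, ⁅e₂, c0⁆⁆ := by
        rw [← h1]
        have h9 := hhom (e₃ * e₂⁻¹ * e⁻¹) (mul_mem (mul_mem he₃ (inv_mem he₂)) (inv_mem he)) e he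
          c0 hc0.1
        rw [inv_mul_cancel_right, h3, one_mul] at h9
        exact h9.symm
      rw [h8]
      exact subset_closure ⟨_, hUE e₂ he₂ c0 hc0.1, rfl⟩
    · push Not at hc
      -- the product with `cs` has a point
      have hcc : c0 * cs ∈ fx V L := mul_mem hc0 hcs
      have h1 : ∀ e' ∈ E, ⁅e', c0 * cs⁆ = ⁅e', c0⁆ * ⁅e', cs⁆ := fun e' he' =>
        comm_mul hV (c.norm_mem ((c.minOff hE).le he')) hc0.1 hcs.1
      have h2 : ∀ e' ∈ E, b.ψ ⁅e', c0 * cs⁆ 0 = b.ψ ⁅e', cs⁆ 0 := by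
        intro e' he'
        rw [h1 e' he', b.map_mul _ (c.quad hE e' he' c0 hc0.1).1 _ (c.quad hE e' he' cs hcs.1).1,
          Pi.add_apply, hc e' he', zero_add]
      -- `⁅e, c0 cs⁆` and `⁅e, cs⁆` agree in the point
      by_contra hno
      have hne1 : ∃ e₁ ∈ E, b.ψ ⁅e₁, c0 * cs⁆ 0 ≠ 0 := ⟨e₀, he₀, by rw [h2 e₀ he₀]; exact hne0⟩
      obtain ⟨t, ht⟩ : ∃ t : Fˣ, (t : F) = ((t₀ : F) - 1)⁻¹ :=
        ⟨Units.mk0 _ (inv_ne_zero (sub_ne_zero.2 ht₀)), rfl⟩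
      obtain ⟨e₂, he₂, d₂, -, -, hh2⟩ := htor t e he
      obtain ⟨e₃, he₃, d₃, -, -, hh3⟩ := htor t₀ e₂ he₂
      have key : ∀ c1 ∈ fx V L, ⁅e₃ * e₂⁻¹, c1⁆ = ⁅h₀, ⁅e₂, c1⁆⁆ := by
        intro c1 hc1
        have h3 := hhom (e₃ * e₂⁻¹) (mul_mem he₃ (inv_mem he₂)) e₂ he₂ c1 hc1.1
        rw [inv_mul_cancel_right, ← hh3 c1 hc1] at h3
        rw [commutatorElement_def h₀, h3]
        group
      have hsame : e₃ * e₂⁻¹ = e := by
        refine congrArg Subtype.val (hvinj (a₁ := (⟨_, mul_mem he₃ (inv_mem he₂)⟩ : E)) (a₂ := ⟨e, he⟩) ?_)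
        show b.ψ ⁅e₃ * e₂⁻¹, cs⁆ 0 = b.ψ ⁅e, cs⁆ 0
        rw [key cs hcs, b.map_comm _ (c.quad hE e₂ he₂ cs hcs.1).1,
          show b.ρ (b.tor t₀) = _ from b.ρ.apply_symm_apply _]
        have h7 : b.ψ ⁅e₂, cs⁆ 0 = (t : F) * b.ψ ⁅e, cs⁆ 0 := by
          rw [← hh2 cs hcs, b.map_tor _ (c.quad hE e he cs hcs.1).1]; rfl
        simp [H78.Nat2.coe_hh, Matrix.mulVec, dotProduct, Fin.sum_univ_two, h7, ht]
        field_simp [sub_ne_zero.2 ht₀]
      have h4 : ⁅e, c0 * cs⁆ ∈ P1 := by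
        rw [← hsame, key _ hcc]
        exact subset_closure ⟨_, hUE e₂ he₂ _ hcc.1, rfl⟩
      rw [h1 e he] at h4
      have h5 := mul_mem h4 (inv_mem (hinP1 e he))
      rw [mul_inv_cancel_right] at h5
      exact hno h5
  have hbE : brk V E ≤ P1 := brk_le fun e he v hv => by
    obtain ⟨c0, hc0, h'⟩ := hsplit v hv
    rw [hreduce e he v hv c0 hc0 h']
    exact hallP1 e he c0 hc0
  have hcardP1 : Nat.card P1 ≤ Nat.card A := by
    have := Nat.card_le_card_of_injective (fun x : P1 => b.ψ (x : G) 0) fun x y hxy => by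
      have hx := (hP1V x x.2).1.1
      have hy := (hP1V y y.2).1.1
      have h1 := hP1inj ((x : G)⁻¹ * y) (mul_mem (inv_mem x.2) y.2) (by
        rw [b.map_mul _ (inv_mem hx) _ hy, b.map_inv hx, Pi.add_apply, Pi.neg_apply]
        rw [show b.ψ (x : G) 0 = b.ψ (y : G) 0 from hxy, neg_add_cancel])
      exact Subtype.ext (inv_mul_eq_one.1 h1)
    rwa [Nat.card_eq_fintype_card (α := F), hq] at this
  -- so `[V,D]` is the same point
  set U := brk V D with hU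
  have hUV : U ≤ fx V D := c.brk_fx hD
  obtain ⟨v₁, hv₁, hv₁e⟩ := b.surj ![0, 1]
  have hroot : ∀ s, b.ψ ⁅(b.root s : G), v₁⁆ = ![s, 0] := fun s => by
    rw [b.map_comm _ hv₁, b.root_spec, hv₁e]
    funext i
    fin_cases i <;> simp [H98.coe_uu, Matrix.mulVec, dotProduct, Fin.sum_univ_two]
  have hUinj : Function.Bijective (fun x : U => b.ψ (x : G) 0) := by
    refine (Nat.bijective_iff_surjective_and_card _).2 ⟨fun s =>
      ⟨⟨_, mem_brk (b.root_mem s) hv₁⟩, by show b.ψ _ 0 = s; rw [hroot]; rfl⟩,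
      le_antisymm ?_ (Nat.card_le_card_of_surjective (fun x : U => b.ψ (x : G) 0) fun s =>
        ⟨⟨_, mem_brk (b.root_mem s) hv₁⟩, by show b.ψ _ 0 = s; rw [hroot]; rfl⟩)⟩
    rw [c.card_brk hD hE, Nat.card_eq_fintype_card (α := F), hq]
    exact (Subgroup.card_le_of_le hbE).trans hcardP1
  have hU1 : ∀ x ∈ U, b.ψ x 0 = 0 → x = 1 := fun x hx h0 =>
    congrArg Subtype.val (hUinj.1 (a₁ := ⟨x, hx⟩) (a₂ := (1 : U))
      (by show b.ψ x 0 = b.ψ ((1 : U) : G) 0; rw [h0, Subgroup.coe_one, b.map_one, Pi.zero_apply]))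
  have hP1U : P1 = U := by
    refine Subgroup.eq_of_le_of_card_ge ((closure_le U).2 ?_) ?_
    · rintro _ ⟨v, hv, rfl⟩
      obtain ⟨a, ha, w, hw, c0, hc0, rfl⟩ := b.fx_decomp hquad hv
      rw [comm_mul hV (hLV (b.tor t₀).2) (hquad a ha w hw).1 hc0.1,
        commutatorElement_eq_one_iff_mul_comm.2 (fx_comm hc0 (b.tor t₀).2), mul_one,
        commutatorElement_def]
      refine mul_mem ?_ (inv_mem (mem_brk ha hw))
      rw [show h₀ * ⁅a, w⁆ * h₀⁻¹ = ⁅h₀ * a * h₀⁻¹, h₀ * w * h₀⁻¹⁆ by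
        simp only [commutatorElement_def]; group]
      exact mem_brk (b.tor_norm t₀ ha) (b.conj_mem (b.tor t₀).2 hw)
    · calc Nat.card U = Nat.card (brk V E) := c.card_brk hD hE
        _ ≤ _ := Subgroup.card_le_of_le hbE
  rw [hP1U] at hbE hallP1
  -- the opposite point
  set w : G := (b.weyl : G)
  set UY := cj w U
  have hUYV : ∀ x ∈ UY, x ∈ V := fun x hx => by
    have := c.conj_V (hLP b.weyl.2) (hUV (H70.mem_cj.1 hx)).1
    rwa [show (b.weyl : G) * (w⁻¹ * x * w) * (b.weyl : G)⁻¹ = x by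
      rw [show (b.weyl : G) = w from rfl]; group] at this
  have hlift : ∀ y : F, ∃ x ∈ UY, b.ψ x = ![0, y] := by
    intro y
    refine ⟨w * ⁅(b.root (-y) : G), v₁⁆ * w⁻¹,
      H70.mem_cj.2 (by simpa [mul_assoc] using mem_brk (b.root_mem (-y)) hv₁), ?_⟩
    rw [b.map_weyl (hquad _ (b.root_mem _) _ hv₁).1, hroot]
    simp
  have hUYinj : ∀ x ∈ UY, ∀ x' ∈ UY, b.ψ x = b.ψ x' → x = x' := by
    intro x hx x' hx' he
    have hm : x⁻¹ * x' ∈ UY := mul_mem (inv_mem hx) hx'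
    have h1 := H70.mem_cj.1 hm
    have h2 := (b.weyl_pre (hUYV _ hm)).2
    have h3 : b.ψ (x⁻¹ * x') = 0 := by
      rw [b.map_mul _ (inv_mem (hUYV x hx)) _ (hUYV x' hx'), b.map_inv (hUYV x hx), he,
        neg_add_cancel]
    have h4 := (b.zero_iff _ (hUYV _ hm)).1 h3
    have h5 : w⁻¹ * (x⁻¹ * x') * w = x⁻¹ * x' := by
      rw [mul_assoc, ← fx_comm h4 b.weyl.2, inv_mul_cancel_left]
    rw [h5] at h1
    exact inv_mul_eq_one.1 (hU1 _ h1 (by rw [h3]; rfl))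
  choose wv hwv hwvψ using hlift
  -- elements with given parameters
  choose es hes using hvsurj
  have hes_inj : ∀ e : E, es (val cs e) = e := fun e => hvinj (hes _)
  set e₁ := es 1 with he₁def
  let m : F → F := fun y => b.ψ ⁅(e₁ : G), wv y⁆ 0
  have hwadd : ∀ y y', wv (y + y') = wv y * wv y' := fun y y' =>
    hUYinj _ (hwv _) _ (mul_mem (hwv y) (hwv y')) (by
      rw [hwvψ, b.map_mul _ (hUYV _ (hwv y)) _ (hUYV _ (hwv y')), hwvψ, hwvψ]
      funext i; fin_cases i <;> simp)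
  have hm_add : ∀ y y', m (y + y') = m y + m y' := by
    intro y y'
    show b.ψ ⁅(e₁ : G), wv (y + y')⁆ 0 = _
    rw [hwadd, comm_mul hV (c.norm_mem ((c.minOff hE).le e₁.2)) (hUYV _ (hwv y)) (hUYV _ (hwv y')),
      b.map_mul _ (c.quad hE _ e₁.2 _ (hUYV _ (hwv y))).1 _ (c.quad hE _ e₁.2 _ (hUYV _ (hwv y'))).1]
    rfl
  have hlin : ∀ t : Fˣ, ∀ y : F, ∃ a : F, (t : F) * m ((t : F) * y) = a * y + (t : F) * m y ∧
      ∀ y' : F, (t : F) * m ((t : F) * y') = a * y' + (t : F) * m y' := by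
    intro t y
    obtain ⟨e', he', d, hd, hde, hh⟩ := htor t e₁ e₁.2
    refine ⟨b.par hd, ?_⟩
    have he't : (⟨e', he'⟩ : E) = es t := by
      rw [← hes_inj ⟨e', he'⟩]
      congr 1
      show b.ψ ⁅e', cs⁆ 0 = t
      rw [← hh cs hcs, b.map_tor _ (c.quad hE _ e₁.2 cs hcs.1).1]
      have h1 : b.ψ ⁅(e₁ : G), cs⁆ 0 = 1 := hes 1
      simp [h1]
    suffices H : ∀ y' : F, (t : F) * m ((t : F) * y') = b.par hd * y' + (t : F) * m y' from ⟨H y, H⟩
    intro y'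
    obtain ⟨c0, hc0, h'⟩ := hsplit _ (hUYV _ (hwv y'))
    have hw' : (b.tor t : G)⁻¹ * wv y' * (b.tor t : G) = wv ((t : F) * y') := by
      refine hUYinj _ ?_ _ (hwv _) ?_
      · rw [H70.mem_cj]
        have h3 := H70.mem_cj.1 (hwv y')
        have h4 : b.tor t * b.weyl = b.weyl * b.tor t⁻¹ := by
          apply b.ρ.injective
          simp only [_root_.map_mul, Block.tor, Block.weyl, MulEquiv.apply_symm_apply]
          rw [H78.Nat2.ww_hh, inv_inv]
        have h5 : (b.tor t : G) * w = w * (b.tor t⁻¹ : G) := congrArg Subtype.val h4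
        have h6 : w⁻¹ * ((b.tor t : G)⁻¹ * wv y' * (b.tor t : G)) * w =
            (b.tor t⁻¹ : G)⁻¹ * (w⁻¹ * wv y' * w) * (b.tor t⁻¹ : G) := by
          calc w⁻¹ * ((b.tor t : G)⁻¹ * wv y' * (b.tor t : G)) * w
              = ((b.tor t : G) * w)⁻¹ * wv y' * ((b.tor t : G) * w) := by group
            _ = (w * (b.tor t⁻¹ : G))⁻¹ * wv y' * (w * (b.tor t⁻¹ : G)) := by rw [h5]
            _ = _ := by group
        rw [h6]
        have hnorm : (b.tor t⁻¹ : G) ∈ normalizer (U : Set G) := by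
          refine mem_normalizer_iff_cj.2 (H70.eq_of_cj_le ?_)
          rw [hU, cj_brk (c.norm_mem (hLP (b.tor t⁻¹).2))]
          refine brk_le fun d' hd' v hv => mem_brk ?_ hv
          have := b.tor_norm t⁻¹ (H70.mem_cj.1 hd')
          rwa [show (b.tor t⁻¹ : G) * ((b.tor t⁻¹ : G)⁻¹ * d' * (b.tor t⁻¹ : G)) *
            (b.tor t⁻¹ : G)⁻¹ = d' by group] at this
        have := H75.conj_mem_of_mem_normalizer (inv_mem hnorm) h3
        rwa [inv_inv] at this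
      · have hv' : (b.tor t : G)⁻¹ * wv y' * (b.tor t : G) ∈ V := by
          simpa using b.conj_mem (inv_mem (b.tor t).2) (hUYV _ (hwv y'))
        have h1 := b.map_tor t hv'
        rw [show (b.tor t : G) * ((b.tor t : G)⁻¹ * wv y' * (b.tor t : G)) * (b.tor t : G)⁻¹ =
          wv y' by group, hwvψ] at h1
        rw [hwvψ]
        have e0 := congrFun h1 0
        have e1 := congrFun h1 1
        simp at e0 e1
        funext i
        fin_cases i
        · simpa [t.ne_zero] using e0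
        · show b.ψ _ 1 = (t : F) * y'
          rw [eq_inv_mul_iff_mul_eq₀ t.ne_zero] at e1
          exact e1.symm
    have hde' : ⁅d * e', wv y'⁆ = ⁅e', wv y'⁆ * ⁅d, wv y'⁆ := by
      calc ⁅d * e', wv y'⁆ = d * ⁅e', wv y'⁆ * d⁻¹ * ⁅d, wv y'⁆ := by
            simp only [commutatorElement_def]; group
        _ = _ := by rw [fx_conj (hUE e' he' _ (hUYV _ (hwv y'))) hd]
    have hlhs : b.ψ ⁅d * e', wv y'⁆ 0 = (t : F) * m ((t : F) * y') := by
      rw [← hde, show ⁅(b.tor t : G) * e₁ * (b.tor t : G)⁻¹, wv y'⁆ =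
        (b.tor t : G) * ⁅(e₁ : G), (b.tor t : G)⁻¹ * wv y' * (b.tor t : G)⁆ * (b.tor t : G)⁻¹ by
          simp only [commutatorElement_def]; group, hw',
        b.map_tor _ (c.quad hE _ e₁.2 _ (hUYV _ (hwv _))).1]
      rfl
    have hrhs : b.ψ ⁅e', wv y'⁆ 0 = (t : F) * m y' := by
      show _ = (t : F) * b.ψ ⁅(e₁ : G), wv y'⁆ 0
      rw [hreduce e' he' _ (hUYV _ (hwv y')) c0 hc0 h',
        hreduce e₁ e₁.2 _ (hUYV _ (hwv y')) c0 hc0 h', ← hh c0 hc0,
        b.map_tor _ (c.quad hE _ e₁.2 c0 hc0.1).1]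
      rfl
    rw [← hlhs, hde', b.map_mul _ (c.quad hE e' he' _ (hUYV _ (hwv y'))).1 _
      (hquad d hd _ (hUYV _ (hwv y'))).1, Pi.add_apply, hrhs, b.comm_root hd (hUYV _ (hwv y')),
      hwvψ, add_comm]
    simp
  -- `m` is linear
  let n : F → F := fun y => m y - m 1 * y
  have hn1 : n 1 = 0 := by simp [n]
  have hnprod : ∀ t y : F, t ≠ 0 → n (t * y) = n t * y + n y := by
    intro t y ht
    obtain ⟨a, -, H⟩ := hlin (Units.mk0 t ht) y
    have h1 := H y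
    have h2 := H 1
    simp only [Units.val_mk0, mul_one] at h1 h2
    simp only [n]
    refine mul_left_cancel₀ ht ?_
    linear_combination h1 - y * h2
  have hn_add : ∀ y y', n (y + y') = n y + n y' := by
    intro y y'; simp only [n, hm_add]; ring
  have hnzero : ∀ y, n y = 0 := by
    obtain ⟨s, hs0, hs1⟩ : ∃ s : F, s ≠ 0 ∧ s ≠ 1 := ⟨t₀, t₀.ne_zero, ht₀⟩
    obtain ⟨r, hr0, hr1⟩ : ∃ r : F, r ≠ 0 ∧ r + 1 ≠ 0 := by
      by_contra hno
      push Not at hno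
      have hsm := hno s hs0
      have h1m := hno 1 one_ne_zero
      exact hs1 (by linear_combination hsm - h1m)
    set k := n s / (1 - s) with hk
    have hform : ∀ y, y ≠ 0 → n y = k * (1 - y) := by
      intro y hy
      have h1 := hnprod s y hs0
      have h2 := hnprod y s hy
      rw [mul_comm y s] at h2
      rw [hk, div_mul_eq_mul_div, eq_div_iff (sub_ne_zero.2 (Ne.symm hs1))]
      linear_combination h1.symm.trans h2
    have hk0 : k = 0 := by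
      have h1 := hn_add r 1
      rw [hn1, add_zero, hform r hr0, hform (r + 1) hr1] at h1
      linear_combination -h1
    intro y
    by_cases hy : y = 0
    · subst hy
      have := hn_add 0 0
      rw [add_zero] at this
      exact left_eq_add.1 this
    · rw [hform y hy, hk0, zero_mul]
  -- the killing element
  set d₁ : G := (b.root (-(m 1)) : G) with hd₁def
  have hd₁ : d₁ ∈ D := b.root_mem _
  have heP : d₁ * (e₁ : G) ∈ P := mul_mem ((c.minOff hD).le hd₁) ((c.minOff hE).le e₁.2)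
  have hcomm : ∀ v ∈ V, ⁅d₁ * (e₁ : G), v⁆ = ⁅(e₁ : G), v⁆ * ⁅d₁, v⁆ := by
    intro v hv
    calc ⁅d₁ * (e₁ : G), v⁆ = d₁ * ⁅(e₁ : G), v⁆ * d₁⁻¹ * ⁅d₁, v⁆ := by
          simp only [commutatorElement_def]; group
      _ = _ := by rw [fx_conj (hUE _ e₁.2 v hv) hd₁]
  have hmove : ∀ v ∈ V, ⁅d₁ * (e₁ : G), v⁆ ∈ U := fun v hv => by
    rw [hcomm v hv]
    exact mul_mem (hbE (mem_brk e₁.2 hv)) (mem_brk hd₁ hv)
  have hUE' : U ≤ fx V E := brk_le fun d hd v hv => hUD d hd v hv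
  refine c.kill_absurd hD hLP b hq (U := U) hUV le_rfl ?_ heP ?_ ?_ (Z0 := fx V L ⊓ fx V E)
    inf_le_left ?_ ?_ hmove
  · rw [Subgroup.eq_bot_iff_forall]
    rintro x ⟨hx, hxL⟩
    exact hU1 x hx (by rw [(b.zero_iff x hxL.1).2 hxL]; rfl)
  · intro h1
    have h2 : ⁅d₁ * (e₁ : G), cs⁆ = 1 := by rw [h1, commutatorElement_one_left]
    rw [hcomm cs hcs.1, commutatorElement_eq_one_iff_mul_comm.2 (fx_comm (b.fx_le hcs) hd₁),
      mul_one] at h2
    have h3 : val cs e₁ = 1 := hes 1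
    simp only [val, h2, b.map_one, Pi.zero_apply] at h3
    exact zero_ne_one h3
  · intro x hx
    obtain ⟨u, hu, u', hu', rfl⟩ := H10.exists_mul_of_mem_sup
      (le_normalizer_of_le_elem hV (hUV.trans inf_le_left) hUYV) hx
    have hfixU : d₁ * (e₁ : G) * u * (d₁ * (e₁ : G))⁻¹ = u := by
      rw [show d₁ * (e₁ : G) * u * (d₁ * (e₁ : G))⁻¹ = d₁ * ((e₁ : G) * u * (e₁ : G)⁻¹) * d₁⁻¹ by
        group, fx_conj (hUE' hu) e₁.2, fx_conj (hUV hu) hd₁]
    have hY' : ⁅d₁ * (e₁ : G), u'⁆ = 1 := by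
      obtain ⟨y, hy⟩ : ∃ y, wv y = u' := by
        refine ⟨b.ψ u' 1, hUYinj _ (hwv _) _ hu' ?_⟩
        rw [hwvψ]
        have h0 : b.ψ u' 0 = 0 := by
          rw [← (b.weyl_pre (hUYV u' hu')).2]
          exact (b.mem_fx_iff hquad (hUV (H70.mem_cj.1 hu')).1).1 (hUV (H70.mem_cj.1 hu'))
        funext i
        fin_cases i <;> simp [h0]
      subst hy
      refine hU1 _ (hmove _ (hUYV _ hu')) ?_
      rw [hcomm _ (hUYV _ hu'), b.map_mul _ (c.quad hE _ e₁.2 _ (hUYV _ hu')).1 _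
        (hquad _ hd₁ _ (hUYV _ hu')).1, Pi.add_apply, hd₁def, b.map_comm _ (hUYV _ hu'),
        b.root_spec, hwvψ]
      have hlin' : m y - m 1 * y = 0 := hnzero y
      show m y + _ = 0
      simp [H98.coe_uu, Matrix.mulVec, dotProduct, Fin.sum_univ_two]
      linear_combination hlin'
    rw [show d₁ * (e₁ : G) * (u * u') * (d₁ * (e₁ : G))⁻¹ =
      (d₁ * (e₁ : G) * u * (d₁ * (e₁ : G))⁻¹) * (⁅d₁ * (e₁ : G), u'⁆ * u') by
        simp only [commutatorElement_def]; group, hfixU, hY', one_mul]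
  · rintro z ⟨hzL, hzE⟩
    rw [show d₁ * (e₁ : G) * z * (d₁ * (e₁ : G))⁻¹ = d₁ * ((e₁ : G) * z * (e₁ : G)⁻¹) * d₁⁻¹ by
      group, fx_conj hzE e₁.2, fx_conj (b.fx_le hzL) hd₁]
  · have h1 := card_prod_le hV (le_refl V) (inf_le_left : fx V L ≤ V) (inf_le_left : fx V E ≤ V)
    rw [← c.card_fx hE, mul_comm (Nat.card A) _, mul_assoc,
      mul_comm (Nat.card (fx V L)) (Nat.card (fx V E))] at h1
    exact Nat.le_of_mul_le_mul_left h1 Nat.card_pos

end Ctx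

end H78.PMin
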