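import Cfsg.Agent.H78.PMin.Commuting

/-!
For odd `p`: a member with an element normalising another member commutes with it.
-/

set_option autoImplicit false
set_option linter.unusedSectionVars false
set_option linter.unusedSimpArgs false

open Subgroup
open scoped commutatorElement MatrixGroups
open H70 (cj)

namespace H78.PMin

/-- A unipotent semilinear map of odd characteristic is trivial. -/
theorem semilinear_unipotent {K : Type} [Field K] (h2 : (2 : K) ≠ 0) (A B σ : K → K)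
    (hadd : ∀ x y, A (x + y) = A x + A y) (hinj : Function.Injective A) (hσ1 : σ 1 ≠ 0)
    (hσ : ∀ a x, σ a * A x = B (a * x)) (hN : ∀ x, A (A x - x) = A x - x) : ∀ x, A x = x := by
  let τ : K → K := fun a => σ a / σ 1
  have hτ : ∀ a x, A (a * x) = τ a * A x := fun a x => by
    have h1 := hσ 1 (a * x)
    rw [one_mul] at h1
    show A (a * x) = σ a / σ 1 * A x
    rw [div_mul_eq_mul_div, hσ, eq_div_iff hσ1, mul_comm, h1]
  have hsub : ∀ x y, A (x - y) = A x - A y := fun x y => by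
    rw [eq_sub_iff_add_eq, ← hadd, sub_add_cancel]
  have hAA : ∀ x, A (A x) = 2 * A x - x := fun x => by
    have h1 := hN x
    rw [hsub] at h1
    linear_combination h1
  have key : ∀ a x, (2 * τ a - 2 * τ (τ a)) * A x = (a - τ (τ a)) * x := fun a x => by
    have h1 := hτ (τ a) (A x)
    rw [← hτ a x, hAA, hAA, hτ a x] at h1
    linear_combination h1
  have hA1 : A 1 ≠ 0 := fun h0 => by
    have hz : A 0 = 0 := by simpa using hadd 0 0
    exact one_ne_zero (hinj (h0.trans hz.symm))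
  have hτinj : Function.Injective τ := fun a b hab => by
    have ha := hτ a 1
    have hb := hτ b 1
    rw [mul_one] at ha hb
    exact hinj (by rw [ha, hb, hab])
  have hττ : ∀ a, τ (τ a) = τ a := by
    intro a
    by_contra hne
    have hc : (2 * τ a - 2 * τ (τ a)) ≠ 0 := by
      rw [← mul_sub]
      exact mul_ne_zero h2 (sub_ne_zero.2 (Ne.symm hne))
    obtain ⟨c, hc'⟩ : ∃ c, ∀ x, A x = c * x := ⟨(a - τ (τ a)) / (2 * τ a - 2 * τ (τ a)), fun x => by
      rw [div_mul_eq_mul_div, eq_div_iff hc, ← key a x, mul_comm]⟩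
    have hfix : ∀ b, τ b = b := fun b => by
      have h1 := hτ b 1
      rw [hc', hc' 1, mul_one] at h1
      refine (mul_left_cancel₀ (show c ≠ 0 from fun h0 => hA1 (by rw [hc', h0, zero_mul])) ?_)
      linear_combination -h1
    exact hne (by rw [hfix a, hfix a])
  have hlin : ∀ a, τ a = a := fun a => hτinj (hττ a)
  intro x
  have h1 := hτ x 1
  rw [mul_one, hlin] at h1
  have h4 : A (A 1) = 2 * A 1 - 1 := hAA 1
  have h5 := hτ (A 1) 1
  rw [mul_one, hlin, h4] at h5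
  have h6 : (A 1 - 1) * (A 1 - 1) = 0 := by linear_combination -h5
  rw [h1, sub_eq_zero.1 (mul_self_eq_zero.1 h6), mul_one]

variable {G : Type*} [Group G] [Finite G] {p : ℕ} [Fact p.Prime]

/-- Odd powers. -/
theorem eq_one_of_sq {x : G} (hp : p ≠ 2) (hx : x ^ p = 1) (h2 : x * x = 1) : x = 1 := by
  rw [← orderOf_eq_one_iff]
  refine Nat.eq_one_of_dvd_coprimes ((Nat.coprime_primes (Fact.out : p.Prime) Nat.prime_two).2 hp)
    (orderOf_dvd_of_pow_eq_one hx) (orderOf_dvd_of_pow_eq_one ?_)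
  rw [pow_two, h2]

namespace Block

variable {V L A : Subgroup G} {F : Type} [Field F] (b : Block V L A F)
include b

theorem tor_neg_one_comm {g : G} (hg : g ∈ L) :
    (b.tor (-1) : G) * g = g * (b.tor (-1) : G) := by
  refine congrArg Subtype.val (b.ρ.injective (a₁ := b.tor (-1) * ⟨g, hg⟩)
    (a₂ := ⟨g, hg⟩ * b.tor (-1)) ?_)
  rw [_root_.map_mul, _root_.map_mul, show b.ρ (b.tor (-1)) = _ from b.ρ.apply_symm_apply _]
  refine Subtype.ext ?_
  ext i j
  fin_cases i <;> fin_cases j <;> simp [H78.Nat2.coe_hh, Matrix.mul_apply, Fin.sum_univ_two]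

/-- The central involution inverts `[V,A]`. -/
theorem inv_brk (hV : Cfsg.IsElementaryAbelian p V) (hquad : ∀ a ∈ A, ∀ v ∈ V, ⁅a, v⁆ ∈ fx V A)
    {u : G} (hu : u ∈ brk V A) :
    (b.tor (-1) : G) * u * (b.tor (-1) : G)⁻¹ = u⁻¹ := by
  have huV : ∀ x ∈ brk V A, x ∈ V := fun x hx => ((brk_le hquad) hx).1
  set z : G := (b.tor (-1) : G) with hz
  induction hu using Subgroup.closure_induction with
  | mem x hx =>
    obtain ⟨a, ha, v, hv, rfl⟩ := hx
    have hv' : z * v * z⁻¹ ∈ V := b.conj_mem (b.tor (-1)).2 hv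
    have h1 : z * ⁅a, v⁆ * z⁻¹ = ⁅a, z * v * z⁻¹⁆ := by
      have hza := b.tor_neg_one_comm (b.le ha)
      rw [show z * ⁅a, v⁆ * z⁻¹ = ⁅z * a * z⁻¹, z * v * z⁻¹⁆ by
        simp only [commutatorElement_def]; group, hz, hza, mul_inv_cancel_right]
    have h2 : v * (z * v * z⁻¹) ∈ fx V L := by
      refine (b.zero_iff _ (mul_mem hv hv')).1 ?_
      rw [b.map_mul v hv _ hv', hz, b.map_tor _ hv]
      funext i
      fin_cases i <;> simp
    have h3 := comm_mul hV (b.norm (b.le ha)) hv hv'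
    rw [commutatorElement_eq_one_iff_mul_comm.2 (fx_comm (b.fx_le h2) ha)] at h3
    rw [h1]
    exact eq_inv_of_mul_eq_one_right h3.symm
  | one => group
  | mul x y hx hy ix iy =>
    rw [show z * (x * y) * z⁻¹ = z * x * z⁻¹ * (z * y * z⁻¹) by group, ix, iy, _root_.mul_inv_rev,
      H10.comm_of_elem hV (inv_mem (huV x hx)) (inv_mem (huV y hy))]
  | inv x _ ix => rw [show z * x⁻¹ * z⁻¹ = (z * x * z⁻¹)⁻¹ by group, ix]

theorem eq_one_of_brk (hp : p ≠ 2) (hV : Cfsg.IsElementaryAbelian p V)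
    (hquad : ∀ a ∈ A, ∀ v ∈ V, ⁅a, v⁆ ∈ fx V A) {u : G} (hu : u ∈ brk V A) (h0 : b.ψ u 0 = 0) :
    u = 1 := by
  have huA := brk_le hquad hu
  have h1 := b.inv_brk hV hquad hu
  have h2 : u ∈ fx V L := by
    refine (b.zero_iff u huA.1).1 ?_
    funext i
    fin_cases i
    · exact h0
    · exact (b.mem_fx_iff hquad huA.1).1 huA
  rw [fx_conj h2 (b.tor (-1)).2] at h1
  exact eq_one_of_sq hp (hV.2 _ huA.1) (eq_inv_iff_mul_eq_one.1 h1)

end Block

namespace Ctx

variable {V P T M A : Subgroup G} (c : Ctx p V P T M A)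
include c

theorem comm_of_norm_odd (hp : p ≠ 2) {E X LE LX : Subgroup G} {K K' : Type} [Field K] [Field K']
    (hE : Mem P A E) (hX : Mem P A X) (bE : Block V LE E K) (bX : Block V LX X K') {d : G}
    (hd : d ∈ X) (hd1 : d ≠ 1) (hn : d ∈ normalizer (E : Set G)) : Comm E X := by
  have hV := c.env.elem
  have hdP : d ∈ P := (c.minOff hX).le hd
  have hqE := c.quad hE
  have hqX := c.quad hX
  have hfxn := c.fx_norm hdP hn
  -- characteristic
  have h2 : (2 : K) ≠ 0 := by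
    intro h0
    have hr : bE.root 1 * bE.root 1 = 1 := by
      apply bE.ρ.injective
      rw [_root_.map_mul, bE.root_spec, _root_.map_one]
      refine Subtype.ext ?_
      ext i j
      fin_cases i <;> fin_cases j <;>
        simp [H98.coe_uu, Matrix.mul_apply, Fin.sum_univ_two, one_add_one_eq_two, h0]
    have h1 : bE.root 1 = 1 := by
      refine Subtype.ext (eq_one_of_sq hp ((c.minOff hE).elem.2 _ (bE.root_mem 1)) ?_)
      exact congrArg Subtype.val hr
    have := congrArg bE.ρ h1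
    rw [bE.root_spec, _root_.map_one] at this
    exact H98.uu_ne_one one_ne_zero this
  choose vx hvx hvxψ using fun x : K => bE.surj ![0, x]
  have hconjV : ∀ {v}, v ∈ V → d * v * d⁻¹ ∈ V := fun hv => c.conj_V hdP hv
  set A' : K → K := fun x => bE.ψ (d * vx x * d⁻¹) 1 with hA'
  have hA : ∀ v ∈ V, bE.ψ (d * v * d⁻¹) 1 = A' (bE.ψ v 1) := by
    intro v hv
    set w := vx (bE.ψ v 1)
    have h1 : w⁻¹ * v ∈ fx V E := by
      refine (bE.mem_fx_iff hqE (mul_mem (inv_mem (hvx _)) hv)).2 ?_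
      rw [bE.map_mul _ (inv_mem (hvx _)) _ hv, bE.map_inv (hvx _), hvxψ]
      simp
    have h3 := H75.conj_mem_of_mem_normalizer hfxn h1
    show _ = bE.ψ (d * w * d⁻¹) 1
    rw [show d * v * d⁻¹ = d * w * d⁻¹ * (d * (w⁻¹ * v) * d⁻¹) by group,
      bE.map_mul _ (hconjV (hvx _)) _ h3.1, Pi.add_apply, (bE.mem_fx_iff hqE h3.1).1 h3, add_zero]
  have hadd : ∀ x y, A' (x + y) = A' x + A' y := by
    intro x y
    have h1 := hA _ (mul_mem (hvx x) (hvx y))
    rw [bE.map_mul _ (hvx x) _ (hvx y), hvxψ, hvxψ,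
      show d * (vx x * vx y) * d⁻¹ = d * vx x * d⁻¹ * (d * vx y * d⁻¹) by group,
      bE.map_mul _ (hconjV (hvx x)) _ (hconjV (hvx y))] at h1
    simpa using h1.symm
  have hinj : Function.Injective A' := by
    intro x y hxy
    have h1 : d * ((vx x)⁻¹ * vx y) * d⁻¹ ∈ fx V E := by
      refine (bE.mem_fx_iff hqE (hconjV (mul_mem (inv_mem (hvx x)) (hvx y)))).2 ?_
      rw [show d * ((vx x)⁻¹ * vx y) * d⁻¹ = (d * vx x * d⁻¹)⁻¹ * (d * vx y * d⁻¹) by group,
        bE.map_mul _ (inv_mem (hconjV (hvx x))) _ (hconjV (hvx y)), bE.map_inv (hconjV (hvx x))]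
      show -A' x + A' y = 0
      rw [hxy, neg_add_cancel]
    have h2 := H75.conj_mem_of_mem_normalizer (inv_mem hfxn) h1
    rw [show d⁻¹ * (d * ((vx x)⁻¹ * vx y) * d⁻¹) * d⁻¹⁻¹ = (vx x)⁻¹ * vx y by group] at h2
    have h3 := (bE.mem_fx_iff hqE h2.1).1 h2
    rw [bE.map_mul _ (inv_mem (hvx x)) _ (hvx y), bE.map_inv (hvx x), hvxψ, hvxψ] at h3
    simpa [neg_add_eq_zero] using h3
  have hconjE : ∀ a : K, d * (bE.root a : G) * d⁻¹ ∈ E := fun a =>
    H75.conj_mem_of_mem_normalizer hn (bE.root_mem a)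
  set σ : K → K := fun a => bE.par (hconjE a) with hσdef
  set B : K → K := fun s => bE.ψ (d * ⁅(bE.root s : G), vx 1⁆ * d⁻¹) 0 with hB
  have hσ : ∀ a x, σ a * A' x = B (a * x) := by
    intro a x
    have h1 := bE.comm_root (hconjE a) (hconjV (hvx x))
    have h2 : ⁅d * (bE.root a : G) * d⁻¹, d * vx x * d⁻¹⁆ = d * ⁅(bE.root a : G), vx x⁆ * d⁻¹ := by
      simp only [commutatorElement_def]; group
    have h3 : ⁅(bE.root a : G), vx x⁆ = ⁅(bE.root (a * x) : G), vx 1⁆ := by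
      have hm1 := mem_brk (bE.root_mem a) (hvx x)
      have hm2 := mem_brk (bE.root_mem (a * x)) (hvx 1)
      refine inv_mul_eq_one.1 (bE.eq_one_of_brk hp hV hqE (mul_mem (inv_mem hm1) hm2) ?_)
      rw [bE.map_mul _ (inv_mem (brk_le hqE hm1).1) _ (brk_le hqE hm2).1,
        bE.map_inv (brk_le hqE hm1).1, bE.map_comm _ (hvx x), bE.map_comm _ (hvx 1), bE.root_spec,
        bE.root_spec, hvxψ, hvxψ]
      simp [H98.coe_uu, Matrix.mulVec, dotProduct, Fin.sum_univ_two, Matrix.vecHead, Matrix.vecTail,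
        mul_comm]
    rw [h2, h3] at h1
    have h4 := congrFun h1 0
    simp at h4
    exact h4.symm
  have hσ1 : σ 1 ≠ 0 := by
    refine bE.par_ne_zero _ fun h0 => ?_
    rw [conj_eq_one_iff] at h0
    have h1 := congrArg bE.ρ (show bE.root 1 = 1 from Subtype.ext h0)
    rw [bE.root_spec, _root_.map_one] at h1
    exact H98.uu_ne_one one_ne_zero h1
  have hcv : ∀ v ∈ V, bE.ψ ⁅d, v⁆ 1 = A' (bE.ψ v 1) - bE.ψ v 1 := by
    intro v hv
    rw [commutatorElement_def, bE.map_mul _ (hconjV hv) _ (inv_mem hv), Pi.add_apply, hA v hv,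
      bE.map_inv hv, Pi.neg_apply, sub_eq_add_neg]
  have hN : ∀ x, A' (A' x - x) = A' x - x := by
    intro x
    have hu := hqX d hd _ (hvx x)
    have h1 := hA _ hu.1
    have h4 : bE.ψ (vx x) 1 = x := by rw [hvxψ]; simp
    rw [fx_conj hu hd, hcv _ (hvx x), h4] at h1
    exact h1.symm
  have hA1 := semilinear_unipotent h2 A' B σ hadd hinj hσ1 hσ hN
  have hdC : ∀ v ∈ V, ⁅d, v⁆ ∈ fx V E := fun v hv => by
    refine (bE.mem_fx_iff hqE (hqX d hd v hv).1).2 ?_
    rw [hcv v hv, hA1, sub_self]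
  refine c.comm_of_le hE hX fun a ha v hv => ?_
  obtain ⟨w, hw, hwψ⟩ := bX.surj ![0, bX.par ha * bX.ψ v 1 / bX.par hd]
  have hm1 := mem_brk ha hv
  have hm2 := mem_brk hd hw
  suffices h : ⁅a, v⁆ = ⁅d, w⁆ by rw [h]; exact hdC w hw
  refine inv_mul_eq_one.1 (bX.eq_one_of_brk hp hV hqX (mul_mem (inv_mem hm1) hm2) ?_)
  rw [bX.map_mul _ (inv_mem (brk_le hqX hm1).1) _ (brk_le hqX hm2).1,
    bX.map_inv (brk_le hqX hm1).1, bX.comm_root ha hv, bX.comm_root hd hw, hwψ]
  simp [mul_div_cancel₀ _ (bX.par_ne_zero hd hd1)]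

end Ctx

end H78.PMin
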