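import Cfsg.Agent.H78.PMin.Points
import Cfsg.Agent.H78.PMin.Odd

/-!
Counting blocks: all conjugates of a member under the centraliser of the other members of its
Sylow subgroup lie in one block.
-/

set_option autoImplicit false
set_option linter.unusedSectionVars false
set_option linter.unusedSimpArgs false
set_option linter.style.haveILetI false

open Subgroup
open scoped commutatorElement MatrixGroups
open H70 (cj)

namespace H78.PMin

variable {G : Type*} [Group G] [Finite G] {p : ℕ} [Fact p.Prime]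

namespace Block

variable {V L A : Subgroup G} {F : Type} [Field F] (b : Block V L A F)
include b

/-- An element of the upper triangular group. -/
noncomputable def bor (x : F × Fˣ) : L := b.root x.1 * b.tor x.2

theorem bor_spec (x : F × Fˣ) : b.ρ (b.bor x) = H98.uu x.1 * H78.Nat2.hh x.2 := by
  rw [bor, _root_.map_mul, b.root_spec, show b.ρ (b.tor x.2) = _ from b.ρ.apply_symm_apply _]

theorem bor_mul (x y : F × Fˣ) :
    b.bor x * b.bor y = b.bor (x.1 + (x.2 : F) * (x.2 : F) * y.1, x.2 * y.2) := by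
  apply b.ρ.injective
  rw [_root_.map_mul, b.bor_spec, b.bor_spec, b.bor_spec]
  refine Subtype.ext ?_
  ext i j
  fin_cases i <;> fin_cases j <;>
    simp [H78.Nat2.coe_hh, H98.coe_uu, Matrix.mul_apply, Fin.sum_univ_two, mul_inv_rev] <;>
    field_simp <;> ring

theorem bor_norm (x : F × Fˣ) : cj (b.bor x : G) A = A := by
  refine b.borel_norm ?_
  rw [b.bor_spec]
  simp [H78.Nat2.coe_hh, H98.coe_uu, Matrix.mul_apply, Fin.sum_univ_two]

theorem root_par {a : G} (ha : a ∈ A) : (b.root (b.par ha) : G) = a := by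
  have : b.root (b.par ha) = ⟨a, b.le ha⟩ := b.ρ.injective (by rw [b.root_spec, b.par_spec ha])
  rw [this]

theorem bor_root (s : F) : b.bor (s, 1) = b.root s := by
  apply b.ρ.injective
  rw [b.bor_spec, b.root_spec]
  refine Subtype.ext ?_
  ext i j
  fin_cases i <;> fin_cases j <;>
    simp [H78.Nat2.coe_hh, H98.coe_uu, Matrix.mul_apply, Fin.sum_univ_two]

theorem two_eq_zero (hA : Cfsg.IsElementaryAbelian 2 A) : (2 : F) = 0 := by
  have hr : b.root 1 * b.root 1 = 1 := Subtype.ext (by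
    simpa [pow_two] using hA.2 _ (b.root_mem 1))
  have h1 := congrArg b.ρ hr
  rw [_root_.map_mul, b.root_spec, _root_.map_one] at h1
  have h2 := congrArg (fun m : SL(2, F) => (m : Matrix (Fin 2) (Fin 2) F) 0 1) h1
  simpa [H98.coe_uu, Matrix.mul_apply, Fin.sum_univ_two, one_add_one_eq_two] using h2

end Block

namespace Base

variable {V P T M A D : Subgroup G} (s : Base p V P T M A D)
include s

/-- A group generated by conjugates of `D` containing two at different points is a block. -/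
theorem main (K : Subgroup G) (hKH : K ≤ hc P A T D)
    (hgen : ∀ K₀ : Subgroup G, (∀ Z, Near P A T D Z → Z ≤ K → Z ≤ K₀) → K ≤ K₀)
    {X0 Y0 : Subgroup G} (hX0 : Near P A T D X0) (hY0 : Near P A T D Y0) (hX0K : X0 ≤ K)
    (hY0K : Y0 ≤ K) (hcr : ¬ Same P A T M D X0 Y0) : K = X0 ⊔ Y0 := by
  classical
  induction hn : Nat.card K using Nat.strong_induction_on generalizing K X0 Y0 with
  | _ n ih =>
  by_contra hne
  haveI : Fintype G := Fintype.ofFinite G
  haveI : Fintype (Subgroup G) := Fintype.ofFinite _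
  have hc' := s.ctx
  set q := Nat.card A with hqdef
  set C0 := fx V K with hC0
  have hqpos : 0 < q := Nat.card_pos
  have hblock : ∀ {X Y : Subgroup G}, Near P A T D X → Near P A T D Y → X ≤ K → Y ≤ K →
      ¬ Same P A T M D X Y → X ⊔ Y ≠ K := by
    intro X Y hX hY hXK hYK hns he
    apply hne
    rw [← he] at hX0K hY0K ⊢
    exact (s.gen_all hX hY hns hX0 hY0 hcr hX0K hY0K).symm
  have hsame : ∀ {X Y : Subgroup G}, Near P A T D X → Near P A T D Y → ¬ Same P A T M D X Y →
      Nat.card (fx V (X ⊔ Y)) = Nat.card (fx V (X0 ⊔ Y0)) := fun hX hY hns =>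
    Nat.eq_of_mul_eq_mul_left (Nat.mul_pos Nat.card_pos Nat.card_pos)
      ((s.card_pair hX hY hns).symm.trans (s.card_pair hX0 hY0 hcr))
  have hbig : Nat.card C0 < Nat.card (fx V (X0 ⊔ Y0)) := by
    refine lt_of_le_of_ne (Subgroup.card_le_of_le (fx_anti (sup_le hX0K hY0K))) fun he => ?_
    have heq : fx V (X0 ⊔ Y0) = C0 :=
      (Subgroup.eq_of_le_of_card_ge (fx_anti (sup_le hX0K hY0K)) he.ge).symm
    obtain ⟨F, iF, iFf, hcard, b, hcr'⟩ := s.exists_pair_block hX0 hY0 hcr
    refine hne (le_antisymm (hgen _ fun Z hZ hZK => ?_) (sup_le hX0K hY0K))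
    rcases s.absorb b hcard hX0 (sup_le (s.near_le hX0) (s.near_le hY0)) hcr' hZ
      (heq ▸ fx_anti hZK) with rfl | ⟨a, ha, rfl⟩
    · exact le_sup_left
    · exact cj_le (b.le ha) b.opp_le
  -- blocks through a member
  let Bl : Subgroup G → Finset (Subgroup G) := fun X =>
    Finset.univ.filter fun L => ∃ Y, Near P A T D Y ∧ Y ≤ K ∧ ¬ Same P A T M D X Y ∧ L = X ⊔ Y
  have hmemBl : ∀ {X L}, L ∈ Bl X ↔
      ∃ Y, Near P A T D Y ∧ Y ≤ K ∧ ¬ Same P A T M D X Y ∧ L = X ⊔ Y := fun {X L} => by simp [Bl]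
  let pts : Subgroup G → Finset G := fun L => Finset.univ.filter fun v => v ∈ fx V L
  have hpts : ∀ L, (pts L).card = Nat.card (fx V L) := fun L => by
    rw [Nat.card_eq_fintype_card, Fintype.card_subtype]
  have hTI : ∀ {X Y Y' : Subgroup G}, Near P A T D X → Near P A T D Y → Near P A T D Y' → X ≤ K →
      Y ≤ K → Y' ≤ K → ¬ Same P A T M D X Y → ¬ Same P A T M D X Y' → ∀ v, v ∈ fx V (X ⊔ Y) →
      v ∈ fx V (X ⊔ Y') → v ∉ C0 → X ⊔ Y = X ⊔ Y' := by
    intro X Y Y' hX hY hY' hXK hYK hY'K hns hns' v hv hv' hvC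
    set Kv := sSup {Z : Subgroup G | Near P A T D Z ∧ Z ≤ K ∧ v ∈ fx V Z}
    have hle : Kv ≤ K := sSup_le fun Z hZ => hZ.2.1
    have hmem : ∀ {Z}, Near P A T D Z → Z ≤ K → v ∈ fx V Z → Z ≤ Kv := fun h1 h2 h3 =>
      le_sSup (s := {Z : Subgroup G | Near P A T D Z ∧ Z ≤ K ∧ v ∈ fx V Z}) ⟨h1, h2, h3⟩
    have hne' : Kv ≠ K := fun he => hvC <| by
      have h1 : Kv ≤ centralizer ({v} : Set G) := sSup_le fun Z hZ z hz =>
        mem_centralizer_singleton_iff.2 (fx_comm hZ.2.2 hz)
      exact ⟨hv.1, mem_centralizer_iff.2 fun z hz =>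
        mem_centralizer_singleton_iff.1 (h1 (he.symm ▸ hz))⟩
    have hlt : Nat.card Kv < n := by
      rw [← hn]
      exact lt_of_le_of_ne (Subgroup.card_le_of_le hle) fun he =>
        hne' (Subgroup.eq_of_le_of_card_ge hle he.ge)
    have hg : ∀ K₀ : Subgroup G, (∀ Z, Near P A T D Z → Z ≤ Kv → Z ≤ K₀) → Kv ≤ K₀ :=
      fun K₀ h => sSup_le fun Z hZ => h Z hZ.1 (hmem hZ.1 hZ.2.1 hZ.2.2)
    have h1 := fx_anti (le_sup_left (a := X) (b := Y)) hv
    have e1 := ih _ hlt Kv (hle.trans hKH) hg hX hY (hmem hX hXK h1)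
      (hmem hY hYK (fx_anti le_sup_right hv)) hns rfl
    have e2 := ih _ hlt Kv (hle.trans hKH) hg hX hY' (hmem hX hXK h1)
      (hmem hY' hY'K (fx_anti le_sup_right hv')) hns' rfl
    rw [← e1, ← e2]
  have hr : ∀ {X : Subgroup G}, Near P A T D X → X ≤ K →
      (∃ Y, Near P A T D Y ∧ Y ≤ K ∧ ¬ Same P A T M D X Y) → (Bl X).card ≤ q := by
    intro X hX hXK ⟨Y, hY, hYK, hns⟩
    have hXm := s.near_mem hX
    have hcfX : Nat.card (fx V X) = q * Nat.card (fx V (X0 ⊔ Y0)) := by
      have h1 := hc'.card_fx hXm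
      rw [s.card_pair hX0 hY0 hcr, mul_assoc] at h1
      exact Nat.eq_of_mul_eq_mul_left hqpos h1
    have hmoves : ∀ {Y'}, Near P A T D Y' → ¬ Same P A T M D X Y' → ∀ a ∈ X, a ≠ 1 → ∀ v ∈ V,
        ⁅a, v⁆ ∈ fx V (X ⊔ Y') → v ∈ fx V X := by
      intro Y' hY' hns' a ha ha1 v hv hav
      obtain ⟨F, iF, iFf, -, b, -⟩ := s.exists_pair_block hX hY' hns'
      exact (b.mem_fx_iff (hc'.quad hXm) hv).2 (b.snd_zero_of_commute ha ha1 hv hav)
    set dn := Nat.card (fx V (X0 ⊔ Y0))
    obtain ⟨u, huV, huX⟩ : ∃ u ∈ V, u ∉ fx V X := by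
      by_contra hno
      push Not at hno
      have h1 : Nat.card V ≤ Nat.card (fx V X) := Subgroup.card_le_of_le hno
      rw [← hc'.card_fx hXm] at h1
      exact absurd h1 (not_le.2 (lt_mul_left Nat.card_pos (by have := s.two; omega)))
    have hC0P : ∀ {L}, L ∈ Bl X → C0 ≤ fx V L := fun hL => by
      obtain ⟨Y₁, -, hK₁, -, rfl⟩ := hmemBl.1 hL
      exact fx_anti (sup_le hXK hK₁)
    let S1 := (Bl X).biUnion fun L => pts L \ pts K
    let S2 := ((Finset.univ.filter fun a => a ∈ X ∧ a ≠ 1) ×ˢ pts K).image fun x => ⁅x.1, u⁆ * x.2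
    have hcard1 : S1.card = (Bl X).card * (dn - Nat.card C0) := by
      rw [Finset.card_biUnion]
      · rw [Finset.sum_const_nat]
        intro L hL
        rw [Finset.card_sdiff_of_subset, hpts, hpts]
        · obtain ⟨Y₁, hm₁, -, hns₁, rfl⟩ := hmemBl.1 hL
          rw [hsame hX hm₁ hns₁]
        · intro v hv
          simp only [pts, Finset.mem_filter, Finset.mem_univ, true_and] at hv ⊢
          exact hC0P hL hv
      · intro L hL L' hL' hLL
        rw [Function.onFun, Finset.disjoint_left]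
        intro v hv hv'
        simp only [pts, Finset.mem_sdiff, Finset.mem_filter, Finset.mem_univ, true_and] at hv hv'
        obtain ⟨P₁, hm₁, hK₁, hns₁, rfl⟩ := hmemBl.1 hL
        obtain ⟨P₂, hm₂, hK₂, hns₂, rfl⟩ := hmemBl.1 hL'
        exact hLL (hTI hX hm₁ hm₂ hXK hK₁ hK₂ hns₁ hns₂ v hv.1 hv'.1 hv.2)
    have hprop2 : ∀ a ∈ X, a ≠ 1 → ∀ {L}, L ∈ Bl X → ∀ y ∈ C0, ⁅a, u⁆ * y ∉ fx V L := by
      intro a ha ha1 L hL y hy hmem
      obtain ⟨P₁, hm₁, hK₁, hns₁, rfl⟩ := hmemBl.1 hL
      refine huX (hmoves hm₁ hns₁ a ha ha1 u huV ?_)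
      have := mul_mem hmem (inv_mem (hC0P hL hy))
      rwa [mul_inv_cancel_right] at this
    have hL0 : X ⊔ Y ∈ Bl X := hmemBl.2 ⟨Y, hY, hYK, hns, rfl⟩
    have hcard2 : S2.card = (q - 1) * Nat.card C0 := by
      rw [Finset.card_image_of_injOn, Finset.card_product, hpts]
      · congr 1
        have he : (Finset.univ.filter fun a => a ∈ X ∧ a ≠ 1) =
            (Finset.univ.filter fun a => a ∈ X).erase 1 := by
          ext a; simp [and_comm]
        rw [he, Finset.card_erase_of_mem (by simp [one_mem]), hqdef, ← hc'.card_mem hXm,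
          Nat.card_eq_fintype_card, Fintype.card_subtype]
      · rintro ⟨a, y⟩ hay ⟨b, z⟩ hbz he
        simp only [Finset.coe_product, Set.mem_prod, pts, Finset.coe_filter, Finset.mem_univ,
          true_and, Set.mem_setOf_eq] at hay hbz
        have he' : ⁅a, u⁆ * y = ⁅b, u⁆ * z := he
        suffices hab : a = b by
          subst hab
          rw [mul_left_cancel he']
        by_contra hab
        set g := b⁻¹ * a with hg
        have hgP : g ∈ X := mul_mem (inv_mem hbz.1.1) hay.1.1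
        have hg1 : g ≠ 1 := fun h1 => hab (inv_mul_eq_one.1 h1).symm
        have hquad := hc'.quad hXm
        have e1 : ⁅b, u⁆ * ⁅g, u⁆ = ⁅a, u⁆ := by
          have hfg := fx_conj (hquad g hgP u huV) hbz.1.1
          calc ⁅b, u⁆ * ⁅g, u⁆ = (b * ⁅g, u⁆ * b⁻¹) * ⁅b, u⁆ := by
                rw [hfg, H10.comm_of_elem hc'.env.elem (hquad b hbz.1.1 u huV).1
                  (hquad g hgP u huV).1]
            _ = ⁅a, u⁆ := by rw [hg]; simp only [commutatorElement_def]; group
        rw [← e1, mul_assoc] at he'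
        have h5 : ⁅g, u⁆ = z * y⁻¹ := by rw [eq_mul_inv_iff_mul_eq]; exact mul_left_cancel he'
        exact hprop2 g hgP hg1 hL0 1 (one_mem _)
          (by rw [mul_one, h5]; exact hC0P hL0 (mul_mem hbz.2 (inv_mem hay.2)))
    have hdisj : Disjoint S1 S2 := by
      rw [Finset.disjoint_left]
      intro v hv hv'
      simp only [S1, S2, pts, Finset.mem_biUnion, Finset.mem_sdiff, Finset.mem_filter,
        Finset.mem_univ, true_and, Finset.mem_image, Finset.mem_product] at hv hv'
      obtain ⟨L, hL, hvL, -⟩ := hv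
      obtain ⟨⟨a, y⟩, ⟨⟨ha, ha1⟩, hy⟩, rfl⟩ := hv'
      exact hprop2 a ha ha1 hL y hy hvL
    have hsub : S1 ∪ S2 ⊆ pts X \ pts K := by
      intro v hv
      simp only [S1, S2, pts, Finset.mem_union, Finset.mem_biUnion, Finset.mem_sdiff,
        Finset.mem_filter, Finset.mem_univ, true_and, Finset.mem_image, Finset.mem_product] at hv ⊢
      rcases hv with ⟨L, hL, hvL, hvK⟩ | ⟨⟨a, y⟩, ⟨⟨ha, ha1⟩, hy⟩, rfl⟩
      · obtain ⟨P₁, -, -, -, rfl⟩ := hmemBl.1 hL
        exact ⟨fx_anti le_sup_left hvL, hvK⟩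
      · refine ⟨mul_mem (hc'.quad hXm a ha u huV) (fx_anti hXK hy), fun hmem => ?_⟩
        exact hprop2 a ha ha1 hL0 y hy (hC0P hL0 hmem)
    have hle := Finset.card_le_card hsub
    rw [Finset.card_union_of_disjoint hdisj, hcard1, hcard2, Finset.card_sdiff_of_subset, hpts, hpts,
      hcfX] at hle
    swap
    · intro v hv
      simp only [pts, Finset.mem_filter, Finset.mem_univ, true_and] at hv ⊢
      exact fx_anti hXK hv
    obtain ⟨k, hk⟩ : ∃ k, dn = Nat.card C0 + (k + 1) := ⟨dn - Nat.card C0 - 1, by omega⟩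
    obtain ⟨q', hq'⟩ : ∃ q', q = q' + 1 := ⟨q - 1, by omega⟩
    rw [hk, hq', Nat.add_sub_cancel_left, Nat.add_sub_cancel] at hle
    have h6 : (q' + 1) * (Nat.card C0 + (k + 1)) - Nat.card C0
        = q' * Nat.card C0 + (q' + 1) * (k + 1) := by
      rw [show (q' + 1) * (Nat.card C0 + (k + 1)) =
        Nat.card C0 + (q' * Nat.card C0 + (q' + 1) * (k + 1)) by ring, Nat.add_sub_cancel_left]
    rw [h6] at hle
    have h7 : (Bl X).card * (k + 1) ≤ (q' + 1) * (k + 1) := by omega
    rw [hq']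
    exact Nat.le_of_mul_le_mul_right h7 (by omega)
  -- no member has `q + 1` blocks
  have hmany : ∀ {X : Subgroup G}, Near P A T D X → X ≤ K → ∀ {E : Subgroup G}, Near P A T D E →
      ∀ f : Option E → Subgroup G, Function.Injective f → (∀ i, f i ∈ Bl X) → False := by
    intro X hX hXK E hE f hinj hf
    obtain ⟨Y, hY, hYK, hns, -⟩ := hmemBl.1 (hf none)
    have h1 := hr hX hXK ⟨Y, hY, hYK, hns⟩
    haveI : Fintype E := Fintype.ofFinite _
    have h2 := Finset.card_le_card_of_injOn (s := (Finset.univ : Finset (Option E))) f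
      (fun i _ => hf i) (fun i _ j _ h => hinj h)
    rw [Finset.card_univ, Fintype.card_option, ← Nat.card_eq_fintype_card,
      hc'.card_mem (s.near_mem hE)] at h2
    omega
  -- every member has the point of a member of each block
  have hpoint : ∀ {X Y Z : Subgroup G}, Near P A T D X → Near P A T D Y → X ≤ K → Y ≤ K →
      ¬ Same P A T M D X Y → Near P A T D Z → Z ≤ K →
      ∃ E, Near P A T D E ∧ E ≤ X ⊔ Y ∧ Same P A T M D Z E := by
    intro X Y Z hX hY hXK hYK hns hZ hZK
    by_contra hno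
    push Not at hno
    obtain ⟨F, iF, iFf, hcard, b, hcr'⟩ := s.exists_pair_block hX hY hns
    have hL : X ⊔ Y ≤ hc P A T D := sup_le (s.near_le hX) (s.near_le hY)
    have hopp : Near P A T D b.opp := s.near_cj hX (hL b.weyl.2)
    let g : Option X → Subgroup G := fun i => i.elim X (fun a => cj (a : G) b.opp)
    have hg : ∀ i, Near P A T D (g i) ∧ g i ≤ X ⊔ Y := by
      rintro (_ | a)
      · exact ⟨hX, le_sup_left⟩
      · exact ⟨s.near_cj hopp (hL (b.le a.2)), cj_le (b.le a.2) b.opp_le⟩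
    have hgns : ∀ i j, Same P A T M D (g i) (g j) → i = j := by
      rintro (_ | a) (_ | a') h
      · rfl
      · exact absurd h (s.list_cross b hcard hX hL hcr' a'.2)
      · exact absurd (s.same_symm h) (s.list_cross b hcard hX hL hcr' a.2)
      · rw [Subtype.ext (s.list_inj b hcard hX hL hcr' a.2 a'.2 h)]
    refine hmany hZ hZK hX (fun i => Z ⊔ g i) (fun i j he => ?_) fun i => hmemBl.2
      ⟨g i, (hg i).1, (hg i).2.trans (sup_le hXK hYK), hno _ (hg i).1 (hg i).2, rfl⟩
    by_contra hij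
    have h12 : ¬ Same P A T M D (g i) (g j) := fun h => hij (hgns i j h)
    have he' : Z ⊔ g i = Z ⊔ g j := he
    have e1 := s.gen_all hX hY hns (hg i).1 (hg j).1 h12 (hg i).2 (hg j).2
    have e2 := s.gen_all hZ (hg i).1 (hno _ (hg i).1 (hg i).2) (hg i).1 (hg j).1 h12 le_sup_right
      (he' ▸ le_sup_right)
    exact hno Z hZ (by rw [← e1, e2]; exact le_sup_left) (s.same_refl hZ)
  -- the decisive pair
  obtain ⟨Z, hZ, hZK, hZL⟩ : ∃ Z, Near P A T D Z ∧ Z ≤ K ∧ ¬ Z ≤ X0 ⊔ Y0 := by
    by_contra hno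
    push Not at hno
    exact hne (le_antisymm (hgen _ hno) (sup_le hX0K hY0K))
  obtain ⟨X, hX, hXL, hs⟩ := hpoint hX0 hY0 hX0K hY0K hcr hZ hZK
  obtain ⟨Y, hY, hYL, hns⟩ : ∃ Y, Near P A T D Y ∧ Y ≤ X0 ⊔ Y0 ∧ ¬ Same P A T M D X Y := by
    by_cases h : Same P A T M D X X0
    · exact ⟨Y0, hY0, le_sup_right, fun h' => hcr (s.same_trans (s.same_symm h) h')⟩
    · exact ⟨X0, hX0, le_sup_left, h⟩
  have hXK : X ≤ K := hXL.trans (sup_le hX0K hY0K)
  have hYK : Y ≤ K := hYL.trans (sup_le hX0K hY0K)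
  have hZX : Z ≠ X := fun h => hZL (h ▸ hXL)
  have hZY : ¬ Same P A T M D Z Y := fun h => hns (s.same_trans (s.same_symm hs) h)
  -- members at the point of `X` give different blocks through `Y`
  have hinjY : ∀ {W W'}, Near P A T D W → Near P A T D W' → W ≤ K → W' ≤ K →
      Same P A T M D X W → Same P A T M D X W' → Y ⊔ W = Y ⊔ W' → W = W' := by
    intro W W' hW hW' hWK hW'K h h' he
    exact s.eq_of_same hY hW (fun h'' => hns (s.same_trans h (s.same_symm h''))) hW hW' le_sup_right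
      (he ▸ le_sup_right) (s.same_trans (s.same_symm h) h')
  obtain ⟨F, iF, iFf, hcard, b, hcr'⟩ := s.exists_pair_block hX hY hns
  have hLK : X ⊔ Y ≤ K := sup_le hXK hYK
  by_cases hfull : ∀ a ∈ X, cj a Z = Z
  · refine hZX (s.eq_of_pgroup hZ hX ((hc'.minOff (s.near_mem hX)).pgroup.to_sup_of_normal_right'
      (hc'.minOff (s.near_mem hZ)).pgroup fun a ha => mem_normalizer_iff_cj.2 (hfull a ha))
      le_sup_right le_sup_left)
  by_cases hfree : ∀ a ∈ X, cj a Z = Z → a = 1
  · let g : Option X → Subgroup G := fun i => i.elim X (fun a => cj (a : G) Z)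
    have hg : ∀ i, Near P A T D (g i) ∧ g i ≤ K ∧ Same P A T M D X (g i) := by
      rintro (_ | a)
      · exact ⟨hX, hXK, s.same_refl hX⟩
      · refine ⟨s.near_cj hZ (s.near_le hX a.2), cj_le (hXK a.2) hZK, ?_⟩
        have := s.same_cj (s.near_le hX a.2) (s.same_symm hs)
        rwa [s.cj_self a.2] at this
    refine hmany hY hYK hX (fun i => Y ⊔ g i) (fun i j he => ?_) fun i => hmemBl.2
      ⟨g i, (hg i).1, (hg i).2.1, fun h => hns (s.same_trans (hg i).2.2 (s.same_symm h)), rfl⟩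
    have h1 := hinjY (hg i).1 (hg j).1 (hg i).2.1 (hg j).2.1 (hg i).2.2 (hg j).2.2 he
    rcases i with _ | a <;> rcases j with _ | a'
    · rfl
    · refine absurd ?_ hZX
      have h3 : X = cj (a' : G) Z := h1
      have h2 := congrArg (cj (a' : G)⁻¹) h3
      rwa [cj_cancel', s.cj_self (inv_mem a'.2), eq_comm] at h2
    · refine absurd ?_ hZX
      have h3 : cj (a : G) Z = X := h1
      have h2 := congrArg (cj (a : G)⁻¹) h3
      rwa [cj_cancel', s.cj_self (inv_mem a.2)] at h2
    · have h3 : cj (a : G) Z = cj (a' : G) Z := h1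
      have h2 := congrArg (cj (a' : G)⁻¹) h3
      rw [cj_cancel', H70.cj_cj] at h2
      rw [← Subtype.ext (inv_mul_eq_one.1 (hfree _ (mul_mem (inv_mem a'.2) a.2) h2))]
  push Not at hfree hfull
  obtain ⟨d, hd, hdZ, hd1⟩ := hfree
  by_cases hp : p = 2
  swap
  · obtain ⟨LZ, -, -, -, -, -, K', iK, -, -, ⟨bZ⟩⟩ := hc'.exists_block (s.near_mem hZ)
    exact hZX (s.not_comm hZ hX (hc'.comm_of_norm_odd hp (s.near_mem hZ) (s.near_mem hX) bZ b hd hd1
      (mem_normalizer_iff_cj.2 hdZ)))
  -- characteristic two: the orbit under the upper triangular group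
  haveI : DecidableEq F := Classical.decEq F
  subst hp
  have h20 : (2 : F) = 0 := b.two_eq_zero (hc'.minOff (s.near_mem hX)).elem
  let orb : F × Fˣ → Subgroup G := fun x => cj (b.bor x : G) Z
  let O : Finset (Subgroup G) := Finset.univ.image orb
  have hO : ∀ W ∈ O, Near P A T D W ∧ W ≤ K ∧ Same P A T M D X W ∧ W ≠ X := by
    intro W hW
    obtain ⟨x, -, rfl⟩ := Finset.mem_image.1 hW
    have hb : (b.bor x : G) ∈ hc P A T D := (sup_le (s.near_le hX) (s.near_le hY)) (b.bor x).2
    refine ⟨s.near_cj hZ hb, cj_le (hLK (b.bor x).2) hZK, ?_, fun he => hZX ?_⟩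
    · have := s.same_cj hb (s.same_symm hs)
      rwa [b.bor_norm] at this
    · have h1 : cj (b.bor x : G) Z = cj (b.bor x : G) X := by rw [b.bor_norm]; exact he
      have h2 := congrArg (cj (b.bor x : G)⁻¹) h1
      rwa [cj_cancel', cj_cancel'] at h2
  have hOcard : O.card + 1 ≤ q := by
    rw [← Finset.card_insert_of_notMem (s := O) (a := X) fun h => (hO X h).2.2.2 rfl]
    refine le_trans ?_ (hr hY hYK ⟨X, hX, hXK, fun h => hns (s.same_symm h)⟩)
    have hall : ∀ W ∈ insert X O, Near P A T D W ∧ W ≤ K ∧ Same P A T M D X W := by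
      intro W hW
      rcases Finset.mem_insert.1 hW with rfl | h
      · exact ⟨hX, hXK, s.same_refl hX⟩
      · exact ⟨(hO W h).1, (hO W h).2.1, (hO W h).2.2.1⟩
    refine Finset.card_le_card_of_injOn (fun W => Y ⊔ W) (fun W hW => ?_) fun W hW W' hW' he =>
      hinjY (hall W hW).1 (hall W' hW').1 (hall W hW).2.1 (hall W' hW').2.1 (hall W hW).2.2
        (hall W' hW').2.2 he
    obtain ⟨h1, h2, h3⟩ := hall W hW
    exact hmemBl.2 ⟨W, h1, h2, fun h => hns (s.same_trans h3 (s.same_symm h)), rfl⟩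
  let St : Finset (F × Fˣ) := Finset.univ.filter fun x => orb x = Z
  let D0 : Finset F := Finset.univ.filter fun a => orb (a, 1) = Z
  let R0 : Finset F := Finset.univ.filter fun r => ∀ a ∈ D0, r * a ∈ D0
  have hstep : ∀ x y : F × Fˣ, orb (x.1 + (x.2 : F) * (x.2 : F) * y.1, x.2 * y.2) =
      cj (b.bor x : G) (orb y) := fun x y => by
    show cj _ Z = cj _ (cj _ Z)
    rw [H70.cj_cj, ← Subgroup.coe_mul, b.bor_mul]
  have hD0 : ∀ {a}, a ∈ D0 ↔ orb (a, 1) = Z := fun {a} => by simp [D0]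
  have hone : orb (0, 1) = Z := by
    have : b.bor (0, 1) = 1 := by
      rw [b.bor_root]; apply b.ρ.injective; rw [b.root_spec, H98.uu_zero, _root_.map_one]
    show cj (b.bor (0, 1) : G) Z = Z
    rw [this]
    exact H70.cj_of_mem (one_mem _)
  have hD0add : ∀ {a : F} (_ : a ∈ D0) (x : F × Fˣ), orb x = Z → orb (a + x.1, x.2) = Z := by
    intro a ha x hx
    have h1 := hstep (a, 1) x
    simp only [Units.val_one, one_mul] at h1
    rw [h1, hx]
    exact hD0.1 ha
  have hdiff : ∀ (a : F) (x : F × Fˣ), orb x = Z → orb (a + x.1, x.2) = Z → a ∈ D0 := by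
    intro a x hx hax
    have h1 := hstep (a, 1) x
    simp only [Units.val_one, one_mul] at h1
    rw [hax, hx] at h1
    exact hD0.2 h1.symm
  have hD0sub : ∀ {a a'}, a ∈ D0 → a' ∈ D0 → a - a' ∈ D0 := fun {a a'} ha ha' =>
    hdiff _ (a', 1) (hD0.1 ha') (by
      show orb (a - a' + a', 1) = Z
      rw [sub_add_cancel]
      exact hD0.1 ha)
  have hD00 : (0 : F) ∈ D0 := hD0.2 hone
  have hsq : ∀ x ∈ St, (x.2 : F) * (x.2 : F) ∈ R0 := by
    intro x hx
    simp only [St, Finset.mem_filter, Finset.mem_univ, true_and] at hx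
    simp only [R0, Finset.mem_filter, Finset.mem_univ, true_and]
    intro a ha
    have h1 := hstep x (a, 1)
    rw [hD0.1 ha, mul_one] at h1
    refine hdiff _ x hx ?_
    rw [add_comm, h1]
    exact hx
  have hStcard : St.card ≤ D0.card * (R0.erase 0).card := by
    refine le_trans (Finset.card_le_mul_card_image (f := Prod.snd) St D0.card fun t ht => ?_) ?_
    · obtain ⟨x₀, hx₀, rfl⟩ := Finset.mem_image.1 ht
      refine Finset.card_le_card_of_injOn (fun x => x.1 - x₀.1) (fun x hx => ?_) ?_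
      · simp only [Finset.coe_filter, Set.mem_setOf_eq, St, Finset.mem_filter, Finset.mem_univ,
          true_and] at hx hx₀
        refine hdiff _ x₀ hx₀ ?_
        rw [sub_add_cancel, ← hx.2]
        exact hx.1
      · intro x hx y hy hxy
        simp only [Finset.coe_filter, Set.mem_setOf_eq] at hx hy
        exact Prod.ext (sub_left_injective hxy) (hx.2.trans hy.2.symm)
    · refine Nat.mul_le_mul_left _ (Finset.card_le_card_of_injOn (fun t : Fˣ => (t : F) * (t : F))
        (fun t ht => ?_) fun t _ t' _ h => Units.ext ?_)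
      · obtain ⟨x, hx, rfl⟩ := Finset.mem_image.1 ht
        exact Finset.mem_erase.2 ⟨mul_ne_zero x.2.ne_zero x.2.ne_zero, hsq x hx⟩
      · have h' : (t : F) * t = (t' : F) * t' := h
        have : ((t : F) - t') * ((t : F) - t') = 0 := by
          linear_combination h' + ((t' : F) * t' - (t : F) * t') * h20
        exact sub_eq_zero.1 (mul_self_eq_zero.1 this)
  have hDR : D0.card * R0.card ≤ q := by
    obtain ⟨a, ha, haZ⟩ := hfull
    have hx0 : b.par ha ∉ D0 := fun h => haZ (by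
      have h1 := hD0.1 h
      show cj a Z = Z
      rw [← b.root_par ha, ← b.bor_root]
      exact h1)
    set x0 := b.par ha
    have hDneg : ∀ {a}, a ∈ D0 → -a ∈ D0 := fun {a} h => by simpa using hD0sub hD00 h
    rw [show q = Fintype.card F from hcard.symm, ← Finset.card_product, ← Finset.card_univ]
    refine Finset.card_le_card_of_injOn (fun x => x.1 + x.2 * x0) (fun _ _ => Finset.mem_univ _) ?_
    intro x hx y hy hxy
    simp only [Finset.coe_product, Set.mem_prod, Finset.mem_coe] at hx hy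
    have hR : ∀ {r}, r ∈ R0 → ∀ a ∈ D0, r * a ∈ D0 := fun hr => by
      simpa [R0] using hr
    have h2 : x.2 = y.2 := by
      by_contra hne'
      set r := x.2 - y.2 with hrdef
      have hr0 : r ≠ 0 := sub_ne_zero.2 hne'
      have hr : ∀ a ∈ D0, r * a ∈ D0 := fun a ha => by
        rw [hrdef, sub_mul]; exact hD0sub (hR hx.2 a ha) (hR hy.2 a ha)
      have hrx : r * x0 ∈ D0 := by
        rw [show r * x0 = y.1 - x.1 by
          have : x.1 + x.2 * x0 = y.1 + y.2 * x0 := hxy
          rw [hrdef]; linear_combination this]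
        exact hD0sub hy.1 hx.1
      have hpow : ∀ n : ℕ, r ^ n * (r * x0) ∈ D0 := by
        intro n
        induction n with
        | zero => simpa using hrx
        | succ n ihn => rw [pow_succ', mul_assoc]; exact hr _ ihn
      have h3 := hpow (Fintype.card F - 2)
      rw [← mul_assoc, ← pow_succ, show Fintype.card F - 2 + 1 = Fintype.card F - 1 by
        have := Fintype.one_lt_card (α := F); omega, FiniteField.pow_card_sub_one_eq_one r hr0,
        one_mul] at h3
      exact hx0 h3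
    refine Prod.ext ?_ h2
    have : x.1 + x.2 * x0 = y.1 + y.2 * x0 := hxy
    rw [h2] at this
    exact add_right_cancel this
  have hSt : St.card < q := by
    have h1 : 0 ∈ R0 := by simp [R0, hD00]
    rw [Finset.card_erase_of_mem h1, Nat.mul_sub, mul_one] at hStcard
    have h2 : 0 < D0.card := Finset.card_pos.2 ⟨0, hD00⟩
    have h3 : 0 < R0.card := Finset.card_pos.2 ⟨0, h1⟩
    have h4 : D0.card ≤ D0.card * R0.card := Nat.le_mul_of_pos_right _ h3
    omega
  have hfib : (Finset.univ : Finset (F × Fˣ)).card ≤ (q - 1) * O.card := by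
    refine Finset.card_le_mul_card_image (f := orb) _ _ fun W hW => ?_
    obtain ⟨x₀, -, rfl⟩ := Finset.mem_image.1 hW
    refine le_trans ?_ (Nat.le_sub_one_of_lt hSt)
    refine Finset.card_le_card_of_injOn (fun x => (((x₀.2 : F) * x₀.2)⁻¹ * (x.1 - x₀.1),
      x₀.2⁻¹ * x.2)) (fun x hx => ?_) ?_
    · simp only [Finset.coe_filter, Set.mem_setOf_eq, Finset.mem_univ, true_and] at hx
      simp only [St, Finset.coe_filter, Finset.mem_univ, true_and, Set.mem_setOf_eq]
      have h1 := hstep x₀ (((x₀.2 : F) * x₀.2)⁻¹ * (x.1 - x₀.1), x₀.2⁻¹ * x.2)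
      rw [mul_inv_cancel_left, ← mul_assoc,
        mul_inv_cancel₀ (mul_ne_zero x₀.2.ne_zero x₀.2.ne_zero), one_mul, add_sub_cancel, hx] at h1
      have h2 := congrArg (cj (b.bor x₀ : G)⁻¹) h1
      simp only [orb, cj_cancel'] at h2
      exact h2.symm
    · intro x _ y _ hxy
      simp only [Prod.mk.injEq] at hxy
      exact Prod.ext (sub_left_injective (mul_left_cancel₀
        (inv_ne_zero (mul_ne_zero x₀.2.ne_zero x₀.2.ne_zero)) hxy.1)) (mul_left_cancel hxy.2)
  rw [Finset.card_univ, Fintype.card_prod, Fintype.card_units, hcard] at hfib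
  have hq2 : 2 < q := s.two
  have hfib' : q * (q - 1) ≤ (q - 1) * O.card := hfib
  have h1 : (q - 1) * O.card ≤ (q - 1) * (q - 1) := Nat.mul_le_mul_left _ (by omega)
  have h2 : (q - 1) * (q - 1) < q * (q - 1) :=
    Nat.mul_lt_mul_of_pos_right (by omega) (by omega)
  exact absurd (hfib'.trans h1) (not_le.2 h2)

end Base

end H78.PMin
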