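import Cfsg.Agent.H78.PMin.Group
import Cfsg.Agent.H10.OffenderBasics

/-!
A `p`-minimal group which does not centralise the fixed points of its Sylow subgroup has no
over-offender.
-/

set_option autoImplicit false
set_option linter.unusedSectionVars false

open Subgroup
open scoped commutatorElement
open H70 (cj)

namespace H78.PMin

variable {G : Type*} [Group G]

/-- Fixed points on `V`. -/
abbrev fx (V D : Subgroup G) : Subgroup G := V ⊓ centralizer (D : Set G)

theorem fx_anti {V D E : Subgroup G} (h : D ≤ E) : fx V E ≤ fx V D :=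
  inf_le_inf_left _ (centralizer_le (SetLike.coe_subset_coe.2 h))

theorem fx_mem_sup {V D E : Subgroup G} {v : G} (hD : v ∈ fx V D) (hE : v ∈ fx V E) :
    v ∈ fx V (D ⊔ E) :=
  ⟨hD.1, by rw [H10.centralizer_sup]; exact ⟨hD.2, hE.2⟩⟩

theorem fx_comm {V D : Subgroup G} {v d : G} (hv : v ∈ fx V D) (hd : d ∈ D) : d * v = v * d :=
  mem_centralizer_iff.1 hv.2 d hd

theorem fx_conj {V D : Subgroup G} {v d : G} (hv : v ∈ fx V D) (hd : d ∈ D) :
    d * v * d⁻¹ = v := by rw [fx_comm hv hd, mul_inv_cancel_right]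

theorem cj_centralizer (g : G) (D : Subgroup G) :
    cj g (centralizer (D : Set G)) = centralizer ((cj g D : Subgroup G) : Set G) := by
  ext x
  simp only [H70.mem_cj, mem_centralizer_iff, SetLike.mem_coe]
  constructor
  · intro h y hy
    have h1 := h _ hy
    calc y * x = g * ((g⁻¹ * y * g) * (g⁻¹ * x * g)) * g⁻¹ := by group
      _ = g * ((g⁻¹ * x * g) * (g⁻¹ * y * g)) * g⁻¹ := by rw [h1]
      _ = x * y := by group
  · intro h y hy
    have h1 := h (g * y * g⁻¹) (by simpa [mul_assoc] using hy)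
    calc y * (g⁻¹ * x * g) = g⁻¹ * ((g * y * g⁻¹) * x) * g := by group
      _ = g⁻¹ * (x * (g * y * g⁻¹)) * g := by rw [h1]
      _ = _ := by group

theorem cj_fx {V : Subgroup G} {g : G} (hg : g ∈ normalizer (V : Set G)) (D : Subgroup G) :
    cj g (fx V D) = fx V (cj g D) := by
  rw [fx, fx, ← cj_centralizer, H70.cj, Subgroup.map_inf _ _ _ (MulAut.conj g).injective]
  congr 1
  exact Subgroup.mem_normalizer_iff_map_conj_eq.1 hg

variable [Finite G] {p : ℕ} [Fact p.Prime]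

theorem le_normalizer_of_le_elem {V H K : Subgroup G} (hV : Cfsg.IsElementaryAbelian p V)
    (hH : H ≤ V) (hK : K ≤ V) : H ≤ normalizer (K : Set G) :=
  le_trans (fun _ hx => mem_centralizer_iff.2 fun _ hy => H10.comm_of_elem hV (hK hy) (hH hx))
    (centralizer_le_normalizer _)

theorem card_prod_le {V H K X : Subgroup G} (hV : Cfsg.IsElementaryAbelian p V) (hXV : X ≤ V)
    (hH : H ≤ X) (hK : K ≤ X) :
    Nat.card H * Nat.card K ≤ Nat.card X * Nat.card ↥(H ⊓ K) := by
  rw [← H10.card_mul_card_inf (le_normalizer_of_le_elem hV (hH.trans hXV) (hK.trans hXV))]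
  exact Nat.mul_le_mul_right _ (Subgroup.card_le_of_le (sup_le hH hK))

theorem fx_card {V : Subgroup G} {g : G} (hg : g ∈ normalizer (V : Set G)) (D : Subgroup G) :
    Nat.card (fx V (cj g D)) = Nat.card (fx V D) := by rw [← cj_fx hg, H70.card_cj]

/-- A minimal offender acts quadratically. -/
theorem quad_of_strict {V A : Subgroup G} (hV : Cfsg.IsElementaryAbelian p V)
    (hAV : A ≤ normalizer (V : Set G)) (hA : Cfsg.IsElementaryAbelian p A)
    (hne : ¬ A ≤ centralizer (V : Set G)) (hoff : Nat.card V ≤ Nat.card A * Nat.card (fx V A))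
    (hstrict : ∀ B : Subgroup G, B ≤ A → B ≠ ⊥ → B ≠ A →
      Nat.card B * Nat.card (fx V B) < Nat.card A * Nat.card (fx V A)) :
    ∀ a ∈ A, ∀ v ∈ V, ⁅a, v⁆ ∈ fx V A := by
  have hAab : ⁅A, A⁆ ≤ centralizer (V : Set G) := by
    rw [Subgroup.commutator_eq_bot_iff_le_centralizer.2 (fun a ha => mem_centralizer_iff.2
      fun b hb => H10.comm_of_elem hA hb ha)]
    exact bot_le
  have hmax : ∀ B : Subgroup G, B ≤ A → H10.offWeight V B ≤ H10.offWeight V A := by
    intro B hB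
    by_cases h0 : B = ⊥
    · subst h0
      refine le_trans ?_ hoff
      rw [H10.offWeight, Subgroup.card_bot, one_mul]
      exact Subgroup.card_le_of_le inf_le_left
    by_cases h1 : B = A
    · subst h1; exact le_rfl
    exact (hstrict B hB h0 h1).le
  obtain ⟨hw, hfix⟩ := H10.replacement hV hAV hAab hmax V le_rfl
  set B := A ⊓ centralizer ((⁅V, A⁆ : Subgroup G) : Set G) with hB
  have hBA : B = A := by
    by_contra hne'
    rcases eq_or_ne B ⊥ with h0 | h0
    · rw [h0] at hfix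
      have hV' : V ≤ ⁅V, A⁆ ⊔ (V ⊓ centralizer (A : Set G)) := by
        rw [← hfix]
        refine le_inf le_rfl fun v _ => mem_centralizer_iff.2 fun b hb => ?_
        rw [SetLike.mem_coe, Subgroup.mem_bot] at hb
        simp [hb]
      have := H10.commutator_eq_bot_of_sup_eq hV hAV hAab
        (fun a ha => by rw [hA.2 a ha]; exact one_mem _) le_rfl hV'
      rw [Subgroup.commutator_eq_bot_iff_le_centralizer] at this
      exact hne (Subgroup.le_centralizer_iff.1 this)
    · exact (hstrict B inf_le_left h0 hne').ne hw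
  refine fun a ha v hv => Subgroup.mem_inf.2 ⟨?_, mem_centralizer_iff.2 fun b hb => ?_⟩
  · show a * v * a⁻¹ * v⁻¹ ∈ V
    exact mul_mem ((Subgroup.mem_normalizer_iff.1 (hAV ha) v).1 hv) (inv_mem hv)
  · have h1 : b ∈ centralizer ((⁅V, A⁆ : Subgroup G) : Set G) := (hBA.ge hb).2
    refine (mem_centralizer_iff.1 h1 _ ?_).symm
    rw [Subgroup.commutator_comm]
    exact Subgroup.commutator_mem_commutator ha hv

/-- Conjugation of `[a, ·]` relations. -/
theorem quad_cj {V A : Subgroup G} {g : G} (hg : g ∈ normalizer (V : Set G))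
    (hquad : ∀ a ∈ A, ∀ v ∈ V, ⁅a, v⁆ ∈ fx V A) :
    ∀ a ∈ cj g A, ∀ v ∈ V, ⁅a, v⁆ ∈ fx V (cj g A) := by
  intro a ha v hv
  have hv' : g⁻¹ * v * g ∈ V := by
    simpa using H75.conj_mem_of_mem_normalizer (inv_mem hg) hv
  rw [← cj_fx hg, H70.mem_cj]
  have e : g⁻¹ * ⁅a, v⁆ * g = ⁅g⁻¹ * a * g, g⁻¹ * v * g⁆ := by
    simp only [commutatorElement_def]; group
  rw [e]
  exact hquad _ (H70.mem_cj.1 ha) _ hv'

theorem comm_mul {V : Subgroup G} (hV : Cfsg.IsElementaryAbelian p V) {a u v : G}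
    (ha : a ∈ normalizer (V : Set G)) (hu : u ∈ V) (hv : v ∈ V) :
    ⁅a, u * v⁆ = ⁅a, u⁆ * ⁅a, v⁆ := by
  have h1 : ⁅a, v⁆ ∈ V := mul_mem (H75.conj_mem_of_mem_normalizer ha hv) (inv_mem hv)
  calc ⁅a, u * v⁆ = ⁅a, u⁆ * (u * ⁅a, v⁆ * u⁻¹) := by simp only [commutatorElement_def]; group
    _ = _ := by rw [H10.comm_of_elem hV hu h1, mul_inv_cancel_right]

/-- The counting when any two conjugates of `A` at different points generate `Q`. -/
theorem case_one {V Q T M A : Subgroup G} (hV : Cfsg.IsElementaryAbelian p V)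
    (hQV : Q ≤ normalizer (V : Set G)) (h : PM p Q T M) (hAT : A ≤ T)
    (hcore : A ⊓ Cfsg.pCoreOf p Q = ⊥)
    (hgen : ∀ g k, g ∈ Q → k ∈ Q → g⁻¹ * k ∉ M → cj g A ⊔ cj k A = Q)
    (hquad : ∀ a ∈ A, ∀ v ∈ V, ⁅a, v⁆ ∈ fx V A)
    (hT : ∃ z ∈ fx V T, z ∉ centralizer (Q : Set G))
    {x : G} (hx : x ∈ Q) (hxM : x ∉ M) :
    Nat.card A * Nat.card (fx V Q) ≤ Nat.card (fx V A) ∧
      Nat.card (fx V A) * Nat.card (fx V A) ≤ Nat.card V * Nat.card (fx V Q) := by
  have hAQ : A ≤ Q := hAT.trans h.T_le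
  set X := fx V A with hX
  set Y := fx V (cj x A) with hY
  set U0 := fx V Q with hU0
  have hgx : A ⊔ cj x A = Q := by
    have := hgen 1 x (one_mem _) hx (by simpa using hxM)
    rwa [H70.cj_of_mem (one_mem A)] at this
  have hXY : X ⊓ Y = U0 := le_antisymm (fun v hv => by rw [hU0, ← hgx]; exact fx_mem_sup hv.1 hv.2)
    (le_inf (fx_anti hAQ) (fx_anti (cj_le hx hAQ)))
  have hYc : Nat.card Y = Nat.card X := fx_card (hQV hx) A
  refine ⟨?_, ?_⟩
  swap
  · calc Nat.card X * Nat.card X = Nat.card X * Nat.card Y := by rw [hYc]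
      _ ≤ Nat.card V * Nat.card ↥(X ⊓ Y) := card_prod_le hV le_rfl inf_le_left inf_le_left
      _ = _ := by rw [hXY]
  set Z := X ⊔ Y with hZ
  have hZV : Z ≤ V := sup_le inf_le_left inf_le_left
  have hZQ : Q ≤ normalizer (Z : Set G) := by
    rw [← hgx, sup_le_iff]
    constructor
    · refine H75.le_normalizer_of_conj fun a ha z hz => ?_
      have := mul_mem ((le_sup_left : X ≤ Z) (hquad a ha z (hZV hz))) hz
      rwa [commutatorElement_def, inv_mul_cancel_right] at this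
    · refine H75.le_normalizer_of_conj fun a ha z hz => ?_
      have := mul_mem ((le_sup_right : Y ≤ Z) (quad_cj (hQV hx) hquad a ha z (hZV hz))) hz
      rwa [commutatorElement_def, inv_mul_cancel_right] at this
  -- a nontrivial element of `A` fixes only `X` in `Z`, modulo `U0`
  have hker : ∀ a ∈ A, a ≠ 1 → ∀ w ∈ Z, ⁅a, w⁆ ∈ U0 → w ∈ X := by
    intro a ha ha1
    obtain ⟨y, hy, hgood⟩ : ∃ y ∈ Q, y⁻¹ * a * y ∉ M := by
      by_contra hno
      push Not at hno
      exact ha1 (Subgroup.mem_bot.1 (hcore ▸ ⟨ha, h.mem_core_of_all (hAT ha) hno⟩))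
    have hay : a * y ∈ Q := mul_mem (hAQ ha) hy
    have hgy : cj y A ⊔ cj (a * y) A = Q := hgen y (a * y) hy hay (by rwa [← mul_assoc])
    set Yy := fx V (cj y A) with hYy
    have hYZ : Yy ≤ Z := by
      rw [hYy, ← cj_fx (hQV hy)]
      exact (H70.cj_mono y le_sup_left).trans (mem_normalizer_iff_cj.1 (hZQ hy)).le
    let D : Subgroup G :=
      { carrier := {w | w ∈ Z ∧ ⁅a, w⁆ ∈ U0}
        one_mem' := ⟨one_mem _, by rw [commutatorElement_one_right]; exact one_mem _⟩
        mul_mem' := fun {u v} hu hv => ⟨mul_mem hu.1 hv.1, by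
          rw [comm_mul hV (hQV (hAQ ha)) (hZV hu.1) (hZV hv.1)]; exact mul_mem hu.2 hv.2⟩
        inv_mem' := fun {u} hu => ⟨inv_mem hu.1, by
          have h1 := comm_mul hV (hQV (hAQ ha)) (hZV hu.1) (inv_mem (hZV hu.1))
          rw [mul_inv_cancel, commutatorElement_one_right] at h1
          rw [eq_inv_of_mul_eq_one_right h1.symm]
          exact inv_mem hu.2⟩ }
    have hXD : X ≤ D := fun v hv => ⟨le_sup_left (b := Y) hv, by
      rw [commutatorElement_eq_one_iff_mul_comm.2 (fx_comm hv ha)]; exact one_mem _⟩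
    have hDY : D ⊓ Yy ≤ U0 := by
      rintro w ⟨⟨-, hwD⟩, hwY⟩
      rw [hU0, ← hgy]
      refine fx_mem_sup hwY ?_
      have h1 : a * w * a⁻¹ ∈ fx V (cj (a * y) A) := by
        rw [← H70.cj_cj, ← cj_fx (hQV (hAQ ha)), H70.mem_cj,
          show a⁻¹ * (a * w * a⁻¹) * a = w by group]
        exact hwY
      have h2 : ⁅a, w⁆ ∈ fx V (cj (a * y) A) := fx_anti (cj_le hay hAQ) hwD
      have h3 := mul_mem (inv_mem h2) h1
      rwa [commutatorElement_def, show (a * w * a⁻¹ * w⁻¹)⁻¹ * (a * w * a⁻¹) = w by group] at h3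
    have h1 : Nat.card D * Nat.card X ≤ Nat.card X * Nat.card X := by
      calc Nat.card D * Nat.card X = Nat.card D * Nat.card Yy := by rw [fx_card (hQV hy)]
        _ ≤ Nat.card Z * Nat.card ↥(D ⊓ Yy) := card_prod_le hV hZV (fun w hw => hw.1) hYZ
        _ ≤ Nat.card Z * Nat.card U0 := Nat.mul_le_mul_left _ (Subgroup.card_le_of_le hDY)
        _ = Nat.card X * Nat.card Y := by
            rw [← hXY, hZ, H10.card_mul_card_inf (le_normalizer_of_le_elem hV inf_le_left inf_le_left)]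
        _ = _ := by rw [hYc]
    have hDX : X = D := Subgroup.eq_of_le_of_card_ge hXD (Nat.le_of_mul_le_mul_right h1 Nat.card_pos)
    exact fun w hw hwU => hDX ▸ (⟨hw, hwU⟩ : w ∈ D)
  obtain ⟨u, huY, huU⟩ : ∃ u ∈ Y, u ∉ U0 := by
    by_contra hno
    push Not at hno
    obtain ⟨z, hz, hzQ⟩ := hT
    have hXU : X = U0 := (Subgroup.eq_of_le_of_card_ge (fx_anti hAQ)
      (hYc ▸ Subgroup.card_le_of_le hno)).symm
    exact hzQ (hXU ▸ fx_anti hAT hz : z ∈ U0).2
  have huV : u ∈ V := huY.1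
  rw [← Nat.card_prod]
  refine Nat.card_le_card_of_injective (fun t : A × U0 => (⟨⁅(t.1 : G), u⁆ * t.2,
    mul_mem (hquad _ t.1.2 u huV) (fx_anti hAQ t.2.2)⟩ : X)) ?_
  rintro ⟨⟨a, ha⟩, ⟨c, hc⟩⟩ ⟨⟨b, hb⟩, ⟨d, hd⟩⟩ he
  have he' : ⁅a, u⁆ * c = ⁅b, u⁆ * d := congrArg Subtype.val he
  have hab : a = b := by
    by_contra hne
    have e : ⁅b, u⁆⁻¹ * ⁅a, u⁆ = ⁅b⁻¹ * a, u⁆ := by
      have h1 := fx_conj (hquad a ha u huV) (inv_mem hb)
      have h2 := fx_conj (hquad b hb u huV) (inv_mem hb)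
      calc ⁅b, u⁆⁻¹ * ⁅a, u⁆ = ⁅a, u⁆ * ⁅b, u⁆⁻¹ :=
            H10.comm_of_elem hV (inv_mem (hquad b hb u huV).1) (hquad a ha u huV).1
        _ = (b⁻¹ * ⁅a, u⁆ * b⁻¹⁻¹) * (b⁻¹ * ⁅b, u⁆ * b⁻¹⁻¹)⁻¹ := by rw [h1, h2]
        _ = _ := by simp only [commutatorElement_def]; group
    have h3 : ⁅b⁻¹ * a, u⁆ ∈ U0 := by
      rw [← e, show ⁅b, u⁆⁻¹ * ⁅a, u⁆ = d * c⁻¹ by
        rw [← mul_inv_cancel_right ⁅a, u⁆ c, he']; group]
      exact mul_mem hd (inv_mem hc)
    have h4 := hker _ (mul_mem (inv_mem hb) ha)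
      (fun h5 => hne (inv_mul_eq_one.1 h5).symm) u (le_sup_right (a := X) huY) h3
    exact huU (hXY ▸ ⟨h4, huY⟩)
  subst hab
  have := mul_left_cancel he'
  subst this
  rfl

/-- `p`-minimal data on a module whose Sylow fixed points are not all fixed. -/
structure Env (p : ℕ) (V P T M : Subgroup G) : Prop where
  elem : Cfsg.IsElementaryAbelian p V
  norm : P ≤ normalizer (V : Set G)
  pm : PM p P T M
  core_le : Cfsg.pCoreOf p P ≤ centralizer (V : Set G)
  hyp : P ⊓ centralizer ((fx V T : Subgroup G) : Set G) ≤ M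

namespace Env

variable {V P T M : Subgroup G}

theorem kernel_le (h : Env p V P T M) {R : Subgroup G} (hRP : R ≤ P) (hR : IsPGroup p R)
    (hRV : R ≤ centralizer (V : Set G)) : R ≤ Cfsg.pCoreOf p P := by
  refine h.pm.core (N := P ⊓ centralizer (V : Set G))
    ((inf_le_inf_left _ (centralizer_le (SetLike.coe_subset_coe.2 inf_le_left))).trans h.hyp)
    ?_ hR (le_inf hRP hRV)
  refine (le_inf le_normalizer ?_).trans (H75.normalizer_inf_le_normalizer_inf _ _)
  exact h.norm.trans (H75.normalizer_le_normalizer_centralizer V)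

theorem fixed_out (h : Env p V P T M) : ∃ z ∈ fx V T, z ∉ centralizer (P : Set G) := by
  by_contra hno
  push Not at hno
  refine h.pm.M_ne (le_antisymm h.pm.M_le fun g hg => h.hyp ⟨hg, mem_centralizer_iff.2 fun z hz => ?_⟩)
  exact (mem_centralizer_iff.1 (hno z hz) g hg).symm

theorem conj_of (h : Env p V P T M) {g : G} (hg : g ∈ P) : Env p V P (cj g T) (cj g M) := by
  refine ⟨h.elem, h.norm, h.pm.conj_mem hg, h.core_le,
    fun x hx => H70.mem_cj.2 (h.hyp (Subgroup.mem_inf.2 ⟨?_, ?_⟩))⟩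
  · exact mul_mem (mul_mem (inv_mem hg) hx.1) hg
  · refine mem_centralizer_iff.2 fun z hz => ?_
    have hz' : g * z * g⁻¹ ∈ fx V (cj g T) := by
      rw [← cj_fx (h.norm hg), H70.mem_cj]; simpa [mul_assoc] using hz
    have h3 := mem_centralizer_iff.1 hx.2 _ hz'
    calc z * (g⁻¹ * x * g) = g⁻¹ * ((g * z * g⁻¹) * x) * g := by group
      _ = g⁻¹ * (x * (g * z * g⁻¹)) * g := by rw [h3]
      _ = _ := by group

/-- The environment of a smaller `p`-minimal subgroup. -/
theorem sub_of {U : Subgroup G} (h : Env p U P T M) (hUV : U ≤ V)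
    (hV : Cfsg.IsElementaryAbelian p V) {Q T' M' : Subgroup G} (hQ : Q ≤ P) (hpm : PM p Q T' M') {g : G}
    (hg : g ∈ P) (hT' : T' ≤ cj g T) (hQM : ¬ Q ≤ cj g M) (hQV : Q ≤ normalizer (V : Set G)) :
    Env p (fx V (Cfsg.pCoreOf p Q)) Q T' M' := by
  refine ⟨H10.elementaryAbelian_of_le hV inf_le_left, ?_, hpm, ?_, ?_⟩
  · exact ((le_inf hQV ((H75.le_normalizer_pCoreOf Q).trans
      (H75.normalizer_le_normalizer_centralizer _))).trans (H75.normalizer_inf_le_normalizer_inf _ _))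
  · exact (Subgroup.le_centralizer_iff.1 inf_le_right)
  · intro x hx
    have h1 : fx V (cj g T) ≤ fx (fx V (Cfsg.pCoreOf p Q)) T' :=
      le_inf (fx_anti (hpm.pCore_le.trans hT')) ((fx_anti hT').trans inf_le_right)
    have hgV := h.norm hg
    have h2 : x ∈ cj g M := by
      refine H70.mem_cj.2 (h.hyp (Subgroup.mem_inf.2 ⟨?_, mem_centralizer_iff.2 fun z hz => ?_⟩))
      · exact mul_mem (mul_mem (inv_mem hg) (hQ hx.1)) hg
      · have hz' : g * z * g⁻¹ ∈ fx U (cj g T) := by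
          rw [← cj_fx hgV, H70.mem_cj]; simpa [mul_assoc] using hz
        have h3 := mem_centralizer_iff.1 hx.2 _ (h1 ⟨hUV hz'.1, hz'.2⟩)
        calc z * (g⁻¹ * x * g) = g⁻¹ * ((g * z * g⁻¹) * x) * g := by group
          _ = g⁻¹ * (x * (g * z * g⁻¹)) * g := by rw [h3]
          _ = _ := by group
    exact hpm.uniq (Q ⊓ cj g M) (le_inf hpm.T_le (hT'.trans (H70.cj_mono g h.pm.le_M))) inf_le_left
      (fun he => hQM (inf_eq_left.1 he)) ⟨hx.1, h2⟩

theorem sub (h : Env p V P T M) {Q T' M' : Subgroup G} (hQ : Q ≤ P) (hpm : PM p Q T' M') {g : G}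
    (hg : g ∈ P) (hT' : T' ≤ cj g T) (hQM : ¬ Q ≤ cj g M) :
    Env p (fx V (Cfsg.pCoreOf p Q)) Q T' M' :=
  h.sub_of le_rfl h.elem hQ hpm hg hT' hQM (hQ.trans h.norm)

/-- The fixed points in a smaller module. -/
theorem sub_weight (h : Env p V P T M) {Q B : Subgroup G} :
    Nat.card (fx V (Cfsg.pCoreOf p Q)) * Nat.card (fx V B) ≤
      Nat.card (fx V (B ⊓ centralizer ((fx V (Cfsg.pCoreOf p Q) : Subgroup G) : Set G))) *
        Nat.card (fx (fx V (Cfsg.pCoreOf p Q)) B) := by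
  set W := fx V (Cfsg.pCoreOf p Q)
  set B1 := B ⊓ centralizer (W : Set G)
  have h1 : W ≤ fx V B1 := le_inf inf_le_left (Subgroup.le_centralizer_iff.1 inf_le_right)
  refine (card_prod_le h.elem inf_le_left h1 (fx_anti inf_le_left)).trans (Nat.mul_le_mul_left _ ?_)
  exact Subgroup.card_le_of_le fun v hv => ⟨hv.1, hv.2.2⟩

/-- No over-offenders. -/
theorem exact (h : Env p V P T M) {B : Subgroup G} (hBP : B ≤ P)
    (hB : Cfsg.IsElementaryAbelian p B) :
    Nat.card B * Nat.card (fx V B) ≤ Nat.card ↥(B ⊓ centralizer (V : Set G)) * Nat.card V := by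
  induction hn : Nat.card P using Nat.strong_induction_on generalizing V P T M B with
  | _ n ih =>
  induction hm : Nat.card B using Nat.strong_induction_on generalizing B with
  | _ m ihB =>
  rw [← hm]
  set K := B ⊓ centralizer (V : Set G) with hK
  by_cases hK1 : K = ⊥
  swap
  · -- remove the kernel
    obtain ⟨b, hbK, hb1⟩ : ∃ b ∈ K, b ≠ 1 := by
      by_contra hno
      push Not at hno
      exact hK1 ((Subgroup.eq_bot_iff_forall _).2 hno)
    obtain ⟨B1, ⟨hB1B, hbB1⟩, hmax⟩ :=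
      H75.exists_max_card (P := fun C : Subgroup G => C ≤ B ∧ b ∉ C) ⟨⊥, bot_le, hb1⟩
    have hbB : b ∈ B := hbK.1
    have hsup : B1 ⊔ K = B := by
      refine le_antisymm (sup_le hB1B inf_le_left) fun y hy => ?_
      by_cases hyB1 : y ∈ B1
      · exact mem_sup_left hyB1
      have hC : b ∈ B1 ⊔ zpowers y := by
        by_contra hno
        have h1 := hmax _ ⟨sup_le hB1B (zpowers_le.2 hy), hno⟩
        exact hyB1 ((Subgroup.eq_of_le_of_card_ge le_sup_left h1).ge (mem_sup_right (mem_zpowers y)))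
      obtain ⟨c, hc, d, ⟨i, rfl⟩, hbe⟩ := H10.exists_mul_of_mem_sup
        (le_normalizer_of_le_elem hB hB1B (zpowers_le.2 hy)) hC
      have hi : ¬ (p : ℤ) ∣ i := by
        rintro ⟨j, rfl⟩
        refine hbB1 ?_
        rw [hbe]
        simp only [zpow_mul, zpow_natCast, hB.2 y hy, one_zpow, mul_one]
        exact hc
      obtain ⟨r, s, hrs⟩ := (((Nat.prime_iff_prime_int.1 Fact.out).coprime_iff_not_dvd.2 hi).symm :
        IsCoprime i (p : ℤ))
      have hy' : (y ^ i) ^ r = y := by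
        have h1 : i * r = 1 - (p : ℤ) * s := by linarith [hrs, mul_comm r i, mul_comm s (p : ℤ)]
        rw [← zpow_mul, h1, zpow_sub, zpow_one, zpow_mul, zpow_natCast, hB.2 y hy, one_zpow,
          inv_one, mul_one]
      rw [← hy']
      refine zpow_mem ?_ r
      rw [show y ^ i = c⁻¹ * b by rw [hbe]; group]
      exact mul_mem (mem_sup_left (inv_mem hc)) (mem_sup_right hbK)
    have hlt : Nat.card B1 < m := by
      rw [← hm]
      exact lt_of_le_of_ne (Subgroup.card_le_of_le hB1B) fun he =>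
        hbB1 ((Subgroup.eq_of_le_of_card_ge hB1B he.ge).ge hbB)
    have h1 := ihB _ hlt (hB1B.trans hBP) (H10.elementaryAbelian_of_le hB hB1B) rfl
    have hfx : fx V B ≤ fx V B1 := fx_anti hB1B
    have hc := H10.card_mul_card_inf (le_normalizer_of_le_elem hB hB1B (inf_le_left : K ≤ B))
    rw [hsup, show B1 ⊓ K = B1 ⊓ centralizer (V : Set G) by
      rw [hK, ← inf_assoc, inf_of_le_left hB1B]] at hc
    refine Nat.le_of_mul_le_mul_right ?_
      (Nat.card_pos : 0 < Nat.card ↥(B1 ⊓ centralizer (V : Set G)))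
    calc Nat.card B * Nat.card (fx V B) * Nat.card ↥(B1 ⊓ centralizer (V : Set G))
        = Nat.card B1 * Nat.card K * Nat.card (fx V B) := by rw [← hc]; ring
      _ ≤ Nat.card B1 * Nat.card K * Nat.card (fx V B1) :=
          Nat.mul_le_mul_left _ (Subgroup.card_le_of_le hfx)
      _ = Nat.card K * (Nat.card B1 * Nat.card (fx V B1)) := by ring
      _ ≤ Nat.card K * (Nat.card ↥(B1 ⊓ centralizer (V : Set G)) * Nat.card V) :=
          Nat.mul_le_mul_left _ h1
      _ = _ := by ring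
  rw [hK1, Subgroup.card_bot, one_mul]
  by_contra hover
  rw [not_le] at hover
  -- `B` is a strict over-offender
  have hBne : ¬ B ≤ centralizer (V : Set G) := by
    intro hle
    rw [hK, inf_of_le_left hle] at hK1
    subst hK1
    rw [Subgroup.card_bot, one_mul] at hover
    exact hover.not_ge (Subgroup.card_le_of_le inf_le_left)
  have hstrict : ∀ C : Subgroup G, C ≤ B → C ≠ B →
      Nat.card C * Nat.card (fx V C) ≤ Nat.card V := by
    intro C hC hne
    have hlt : Nat.card C < m := hm ▸ lt_of_le_of_ne (Subgroup.card_le_of_le hC)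
      fun he => hne (Subgroup.eq_of_le_of_card_ge hC he.ge)
    have h1 := ihB _ hlt (hC.trans hBP) (H10.elementaryAbelian_of_le hB hC) rfl
    rwa [show C ⊓ centralizer (V : Set G) = ⊥ from le_bot_iff.1
      (hK1 ▸ inf_le_inf_right _ hC), Subgroup.card_bot, one_mul] at h1
  have hquad := quad_of_strict h.elem (hBP.trans h.norm) hB hBne hover.le
    fun C hC _ hne => (hstrict C hC hne).trans_lt hover
  have hBp : IsPGroup p B := fun b => ⟨1, Subtype.ext (by simpa using hB.2 _ b.2)⟩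
  obtain ⟨g₀, hg₀, hBT⟩ := exists_conj_into h.pm.sylow hBP hBp
  have hpm := h.pm.conj_mem hg₀
  have hnc : ¬ B ≤ Cfsg.pCoreOf p P := fun hle => hBne (hle.trans h.core_le)
  rcases hpm.descent hBT hnc with hgen | ⟨Q, T', M', g, k, hQP, hQne, hpm', hg, hT', hQM, hk, hkT,
    hkO⟩
  · obtain ⟨x, hx, hxM⟩ := SetLike.exists_of_lt (lt_of_le_of_ne hpm.M_le hpm.M_ne)
    obtain ⟨z, hz, hzP⟩ := h.fixed_out
    have hfix : ∃ z ∈ fx V (cj g₀ T), z ∉ centralizer (P : Set G) := by
      refine ⟨g₀ * z * g₀⁻¹, ?_, fun hc => hzP ?_⟩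
      · rw [← cj_fx (h.norm hg₀), H70.mem_cj]; simpa [mul_assoc] using hz
      · have h1 := H75.conj_mem_of_mem_normalizer
          ((le_normalizer.trans (H75.normalizer_le_normalizer_centralizer P)) (inv_mem hg₀)) hc
        simpa [mul_assoc] using h1
    obtain ⟨h1, h2⟩ := case_one h.elem h.norm hpm hBT
      (le_bot_iff.1 (hK1 ▸ inf_le_inf_left _ h.core_le)) hgen hquad hfix hx hxM
    refine hover.not_ge (Nat.le_of_mul_le_mul_right ?_ (Nat.card_pos : 0 < Nat.card (fx V P)))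
    calc Nat.card B * Nat.card (fx V B) * Nat.card (fx V P)
        = Nat.card B * Nat.card (fx V P) * Nat.card (fx V B) := by ring
      _ ≤ Nat.card (fx V B) * Nat.card (fx V B) := Nat.mul_le_mul_right _ h1
      _ ≤ _ := h2
  -- descend
  set B' := cj k B with hB'
  have hkV := h.norm hk
  have hcV : cj k (centralizer (V : Set G)) = centralizer (V : Set G) := by
    rw [cj_centralizer, mem_normalizer_iff_cj.1 hkV]
  have hsub := (h.conj_of hg₀).sub hQP hpm' hg hT' hQM
  set W := fx V (Cfsg.pCoreOf p Q) with hW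
  have hlt : Nat.card Q < n := hn ▸ lt_of_le_of_ne (Subgroup.card_le_of_le hQP) fun he =>
    hQne (Subgroup.eq_of_le_of_card_ge hQP he.ge)
  have hB'el : Cfsg.IsElementaryAbelian p B' := by
    refine ⟨⟨⟨fun a c => Subtype.ext ?_⟩⟩, fun a ha => ?_⟩
    · have h1 := H10.comm_of_elem hB (H70.mem_cj.1 a.2) (H70.mem_cj.1 c.2)
      show (a : G) * c = c * a
      calc (a : G) * c = k * ((k⁻¹ * a * k) * (k⁻¹ * c * k)) * k⁻¹ := by group
        _ = k * ((k⁻¹ * c * k) * (k⁻¹ * a * k)) * k⁻¹ := by rw [h1]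
        _ = _ := by group
    · have h1 := hB.2 _ (H70.mem_cj.1 ha)
      rw [show k⁻¹ * a * k = k⁻¹ * a * k⁻¹⁻¹ by group, conj_pow] at h1
      rwa [conj_eq_one_iff] at h1
  have hkQ : B' ≤ Q := hkT.trans hpm'.T_le
  have h1 := ih _ hlt hsub hkQ hB'el rfl
  set B1 := B' ⊓ centralizer (W : Set G) with hB1
  have hB1O : B1 ≤ Cfsg.pCoreOf p Q :=
    hsub.kernel_le (inf_le_left.trans hkQ) ((hBp.map _).to_inf_left) inf_le_right
  have hne : cj k⁻¹ B1 ≠ B := fun he => hkO (le_trans (by rw [hB', ← he, cj_cancel]) hB1O)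
  have h2 := hstrict (cj k⁻¹ B1) (le_trans (H70.cj_mono _ inf_le_left) (cj_cancel' k B).le) hne
  rw [H70.card_cj, fx_card (inv_mem hkV)] at h2
  have h3 := h.sub_weight (Q := Q) (B := B')
  rw [← hW, ← hB1, fx_card hkV] at h3
  have hc : Nat.card B' = Nat.card B := H70.card_cj k B
  rw [hc] at h1
  have h4 : Nat.card B * Nat.card (fx V B) * (Nat.card B1 * Nat.card W) ≤
      Nat.card V * (Nat.card B1 * Nat.card W) := by
    calc Nat.card B * Nat.card (fx V B) * (Nat.card B1 * Nat.card W)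
        = Nat.card B * Nat.card B1 * (Nat.card W * Nat.card (fx V B)) := by ring
      _ ≤ Nat.card B * Nat.card B1 * (Nat.card (fx V B1) * Nat.card (fx W B')) :=
          Nat.mul_le_mul_left _ h3
      _ = Nat.card B1 * Nat.card (fx V B1) * (Nat.card B * Nat.card (fx W B')) := by ring
      _ ≤ Nat.card V * (Nat.card B1 * Nat.card W) := Nat.mul_le_mul h2 h1
  exact hover.not_ge (Nat.le_of_mul_le_mul_right h4 (Nat.mul_pos Nat.card_pos Nat.card_pos))

end Env

end H78.PMin
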