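import Cfsg.Agent.H74.McBride
import Cfsg.Agent.H74.Kieler
import Cfsg.Agent.H76.SPE
import Cfsg.Agent.H70.Conj

/-!
`p`-minimal subgroups: maximal subgroups over Sylow subgroups and the descent to smaller
`p`-minimal subgroups containing a given kind of `p`-subgroup.
-/

set_option autoImplicit false
set_option linter.unusedSectionVars false

open Subgroup
open H70 (cj)

namespace H78.PMin

variable {G : Type*} [Group G] [Finite G] {p : ℕ} [Fact p.Prime]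

theorem exists_sylIn_ge {R Q : Subgroup G} (hRQ : R ≤ Q) (hR : IsPGroup p R) :
    ∃ T, H74.IsSylIn p T Q ∧ R ≤ T := by
  obtain ⟨S, hS⟩ := (IsPGroup.comap_subtype (K := Q) hR).exists_le_sylow
  exact ⟨_, H74.isSylIn_of_sylow S, fun x hx => ⟨⟨x, hRQ hx⟩, hS hx, rfl⟩⟩

theorem exists_conj_into {T R Q : Subgroup G} (hT : H74.IsSylIn p T Q) (hRQ : R ≤ Q)
    (hR : IsPGroup p R) : ∃ g ∈ Q, R ≤ cj g T := by
  obtain ⟨S, hS⟩ := hT.exists_sylow
  obtain ⟨h, hh, hin⟩ := H76.exists_conj_mem_sylow S hRQ hR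
  refine ⟨h⁻¹, inv_mem hh, fun x hx => H70.mem_cj.2 ?_⟩
  rw [inv_inv, ← hS]
  exact hin x hx

theorem cj_le {g : G} {D Q : Subgroup G} (hg : g ∈ Q) (hD : D ≤ Q) : cj g D ≤ Q := fun x hx => by
  have h1 := mul_mem (mul_mem hg (hD (H70.mem_cj.1 hx))) (inv_mem hg)
  simpa [mul_assoc] using h1

theorem cj_eq_of_mem {g : G} {Q : Subgroup G} (hg : g ∈ Q) : cj g Q = Q :=
  H70.cj_of_mem hg

theorem isSylIn_cj {T Q : Subgroup G} (h : H74.IsSylIn p T Q) (g : G) :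
    H74.IsSylIn p (cj g T) (cj g Q) :=
  h.map _ (MulAut.conj g).injective

theorem mem_normalizer_iff_cj {g : G} {R : Subgroup G} :
    g ∈ normalizer (R : Set G) ↔ cj g R = R := H70.cj_eq_self_iff.symm

theorem cj_cancel (g : G) (R : Subgroup G) : cj g (cj g⁻¹ R) = R := by
  rw [H70.cj_cj, mul_inv_cancel, H70.cj_of_mem (one_mem R)]

theorem cj_cancel' (g : G) (R : Subgroup G) : cj g⁻¹ (cj g R) = R := by
  rw [H70.cj_cj, inv_mul_cancel, H70.cj_of_mem (one_mem R)]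

/-- `Q` is `p`-minimal, `T` a Sylow subgroup and `M` the maximal subgroup over it. -/
structure PM (p : ℕ) (Q T M : Subgroup G) : Prop where
  sylow : H74.IsSylIn p T Q
  le_M : T ≤ M
  M_le : M ≤ Q
  M_ne : M ≠ Q
  uniq : ∀ K, T ≤ K → K ≤ Q → K ≠ Q → K ≤ M
  not_norm : ¬ Q ≤ normalizer (T : Set G)

namespace PM

variable {Q T M : Subgroup G}

theorem T_le (h : PM p Q T M) : T ≤ Q := h.le_M.trans h.M_le

theorem pgroup (h : PM p Q T M) : IsPGroup p T := h.sylow.isPGroup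

theorem conj (h : PM p Q T M) (g : G) : PM p (cj g Q) (cj g T) (cj g M) where
  sylow := isSylIn_cj h.sylow g
  le_M := H70.cj_mono g h.le_M
  M_le := H70.cj_mono g h.M_le
  M_ne := fun he => h.M_ne (by rw [← cj_cancel' g M, he, cj_cancel'])
  uniq := fun K hTK hKQ hne => by
    have h1 := h.uniq (cj g⁻¹ K) ((cj_cancel' g T).ge.trans (H70.cj_mono _ hTK))
      ((H70.cj_mono _ hKQ).trans (cj_cancel' g Q).le) (fun he => hne (by rw [← he, cj_cancel]))
    exact (cj_cancel g K).ge.trans (H70.cj_mono _ h1)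
  not_norm := fun hn => h.not_norm fun x hx => mem_normalizer_iff_cj.2 <| by
    have h1 := mem_normalizer_iff_cj.1 (hn (show g * x * g⁻¹ ∈ cj g Q by
      rw [H70.mem_cj]; simpa [mul_assoc] using hx))
    rw [H70.cj_cj, show g * x * g⁻¹ * g = g * x by group, ← H70.cj_cj] at h1
    rw [← cj_cancel' g (cj x T), h1, cj_cancel']

theorem conj_mem (h : PM p Q T M) {g : G} (hg : g ∈ Q) : PM p Q (cj g T) (cj g M) := by
  have h1 := h.conj g
  rwa [cj_eq_of_mem hg] at h1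

/-- A subgroup normalised by `Q` and contained in `M` has all its `p`-subgroups in `O_p(Q)`. -/
theorem core (h : PM p Q T M) {N : Subgroup G} (hNM : N ≤ M)
    (hN : Q ≤ normalizer (N : Set G)) {R : Subgroup G} (hR : IsPGroup p R) (hRN : R ≤ N) :
    R ≤ Cfsg.pCoreOf p Q := by
  have hNQ : N ≤ Q := hNM.trans h.M_le
  have hsyl := H74.Kieler.sylIn_inf hNQ hN h.sylow
  have hTN : T ≤ normalizer ((T ⊓ N : Subgroup G) : Set G) :=
    (le_inf le_normalizer (h.T_le.trans hN)).trans (H75.normalizer_inf_le_normalizer_inf _ _)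
  have hQn : Q ≤ normalizer ((T ⊓ N : Subgroup G) : Set G) := by
    by_contra hne
    have h1 := h.uniq (Q ⊓ normalizer ((T ⊓ N : Subgroup G) : Set G)) (le_inf h.T_le hTN)
      inf_le_left (fun he => hne (inf_eq_left.1 he))
    refine h.M_ne (le_antisymm h.M_le fun g hg => ?_)
    obtain ⟨o, ho, hx, hs⟩ : ∃ o ∈ N, o⁻¹ * g ∈ Q ∧
        o⁻¹ * g ∈ normalizer ((T ⊓ N : Subgroup G) : Set G) := by
      have h2 := isSylIn_cj hsyl g
      rw [show cj g N = N from mem_normalizer_iff_cj.1 (hN hg)] at h2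
      obtain ⟨o, ho, hoe⟩ := hsyl.conj h2
      refine ⟨o, ho, mul_mem (inv_mem (hNQ ho)) hg, mem_normalizer_iff_cj.2 ?_⟩
      rw [← H70.cj_cj, show cj g (T ⊓ N) = cj o (T ⊓ N) from hoe, cj_cancel']
    have h3 := mul_mem (hNM ho) (h1 ⟨hx, hs⟩)
    rwa [mul_inv_cancel_left] at h3
  have hle := H75.le_pCoreOf (inf_le_left.trans h.T_le) hQn (h.pgroup.to_inf_left (K := N))
  obtain ⟨g, hg, hRg⟩ := exists_conj_into hsyl hRN hR
  refine le_trans ?_ hle
  rwa [mem_normalizer_iff_cj.1 (hQn (hNQ hg))] at hRg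

/-- An element of `T` all of whose conjugates lie in `M` lies in `O_p(Q)`. -/
theorem mem_core_of_all (h : PM p Q T M) {a : G} (ha : a ∈ T)
    (hall : ∀ y ∈ Q, y⁻¹ * a * y ∈ M) : a ∈ Cfsg.pCoreOf p Q := by
  let N : Subgroup G :=
    { carrier := {g | g ∈ M ∧ ∀ y ∈ Q, y⁻¹ * g * y ∈ M}
      one_mem' := ⟨one_mem _, fun y _ => by simp [one_mem]⟩
      mul_mem' := fun {g k} hg hk => ⟨mul_mem hg.1 hk.1, fun y hy => by
        have := mul_mem (hg.2 y hy) (hk.2 y hy)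
        rwa [show y⁻¹ * g * y * (y⁻¹ * k * y) = y⁻¹ * (g * k) * y by group] at this⟩
      inv_mem' := fun {g} hg => ⟨inv_mem hg.1, fun y hy => by
        have := inv_mem (hg.2 y hy)
        rwa [show (y⁻¹ * g * y)⁻¹ = y⁻¹ * g⁻¹ * y by group] at this⟩ }
  have hN : Q ≤ normalizer (N : Set G) := by
    refine H75.le_normalizer_of_conj fun k hk g hg => ⟨?_, fun y hy => ?_⟩
    · simpa using hg.2 k⁻¹ (inv_mem hk)
    · have := hg.2 (k⁻¹ * y) (mul_mem (inv_mem hk) hy)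
      rwa [show (k⁻¹ * y)⁻¹ * g * (k⁻¹ * y) = y⁻¹ * (k * g * k⁻¹) * y by group] at this
  exact h.core (N := N) (fun g hg => hg.1) hN (h.pgroup.to_le (zpowers_le.2 ha))
    (zpowers_le.2 ⟨h.le_M ha, hall⟩) (mem_zpowers a)

theorem pCore_le (h : PM p Q T M) : Cfsg.pCoreOf p Q ≤ T := H74.pCoreOf_le_sylIn h.sylow

theorem norm_M (h : PM p Q T M) {g : G} (hg : g ∈ Q) (hgM : cj g M = M) : g ∈ M := by
  by_contra hno
  have hK : Q ⊓ normalizer (M : Set G) = Q := by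
    by_contra hne
    exact hno (h.uniq _ (h.le_M.trans (le_inf h.M_le le_normalizer)) inf_le_left hne
      ⟨hg, mem_normalizer_iff_cj.2 hgM⟩)
  have hMn : Q ≤ normalizer (M : Set G) := inf_eq_left.1 hK
  refine h.not_norm ?_
  have hT : T = Cfsg.pCoreOf p Q := le_antisymm (h.core le_rfl hMn h.pgroup h.le_M) h.pCore_le
  rw [hT]
  exact H75.le_normalizer_pCoreOf Q

theorem cj_M_eq_iff (h : PM p Q T M) {g k : G} (hg : g ∈ Q) (hk : k ∈ Q) :
    cj g M = cj k M ↔ g⁻¹ * k ∈ M := by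
  constructor
  · intro he
    refine h.norm_M (mul_mem (inv_mem hg) hk) ?_
    rw [← H70.cj_cj, ← he, cj_cancel']
  · intro hm
    conv_rhs => rw [show k = g * (g⁻¹ * k) by group, ← H70.cj_cj, cj_eq_of_mem hm]

/-- A proper overgroup of a Sylow subgroup lies in its maximal subgroup, for conjugates. -/
theorem cj_M_unique (h : PM p Q T M) {g k : G} (hg : g ∈ Q) (hk : k ∈ Q)
    (hle : cj g T ≤ cj k M) : cj g M = cj k M := by
  have h1 := (h.conj_mem hk).M_ne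
  have h2 := (h.conj_mem hg).uniq _ hle ((h.conj_mem hk).M_le) h1
  refine (Subgroup.eq_of_le_of_card_ge h2 ?_).symm
  rw [H70.card_cj, H70.card_cj]

/-- A `p`-subgroup of a conjugate of `M` lies in a Sylow subgroup having that maximal subgroup. -/
theorem exists_sylow_le (h : PM p Q T M) {g : G} (hg : g ∈ Q) {R : Subgroup G}
    (hR : IsPGroup p R) (hRM : R ≤ cj g M) :
    ∃ k ∈ Q, R ≤ cj k T ∧ cj k M = cj g M := by
  have hg' := h.conj_mem hg
  obtain ⟨m, hm, hRm⟩ := exists_conj_into (hg'.sylow.of_le hg'.le_M hg'.M_le) hRM hR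
  refine ⟨m * g, mul_mem (hg'.M_le hm) hg, by rwa [← H70.cj_cj], ?_⟩
  rw [← H70.cj_cj, cj_eq_of_mem hm]

/-- A `p`-subgroup in the core of a `p`-minimal subgroup is in all conjugates of a subgroup
containing its Sylow subgroup. -/
theorem exists_two (h : PM p Q T M) {M1 : Subgroup G} (hTM : T ≤ M1) (hQM : ¬ Q ≤ M1) :
    ∃ q ∈ Q, q ∉ M1 ∧ Cfsg.pCoreOf p Q ≤ M1 ∧ Cfsg.pCoreOf p Q ≤ cj q M1 := by
  obtain ⟨q, hq, hqM⟩ := SetLike.not_le_iff_exists.1 hQM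
  refine ⟨q, hq, hqM, h.pCore_le.trans hTM, ?_⟩
  have h1 := H70.cj_mono q (h.pCore_le.trans hTM)
  rwa [mem_normalizer_iff_cj.1 (H75.le_normalizer_pCoreOf Q hq)] at h1

end PM

/-- The data of a `p`-minimal group. -/
theorem pm_of_isPMinimal {Q : Subgroup G} (hQ : Cfsg.IsPMinimal p ↥Q) (S : Sylow p ↥Q)
    {M : Subgroup ↥Q} (hM : IsCoatom M) (hSM : (S : Subgroup ↥Q) ≤ M) :
    PM p Q ((S : Subgroup ↥Q).map Q.subtype) (M.map Q.subtype) := by
  obtain ⟨hn, M', -, huniq⟩ := hQ S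
  obtain rfl := huniq M ⟨hM, hSM⟩
  refine ⟨H74.isSylIn_of_sylow S, map_mono hSM, map_subtype_le _, fun he => hM.1 ?_,
    fun K hTK hKQ hne => ?_, fun hle => hn ?_⟩
  · exact map_injective Q.subtype_injective (by rw [he, ← MonoidHom.range_eq_map, range_subtype])
  · have h1 : K.subgroupOf Q ≠ ⊤ := fun he => hne (le_antisymm hKQ (subgroupOf_eq_top.1 he))
    obtain ⟨M₁, hM₁, hle⟩ := H75.exists_coatom_ge h1
    have hSK : (S : Subgroup ↥Q) ≤ K.subgroupOf Q := fun x hx =>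
      mem_subgroupOf.2 (hTK ⟨x, hx, rfl⟩)
    obtain rfl := huniq M₁ ⟨hM₁, hSK.trans hle⟩
    exact fun x hx => ⟨⟨x, hKQ hx⟩, hle (mem_subgroupOf.2 hx), rfl⟩
  · have := normal_subgroupOf_of_le_normalizer hle
    rwa [Subgroup.subgroupOf, comap_map_eq_self_of_injective Q.subtype_injective] at this

/-- McBride: some `p`-minimal subgroup over a Sylow subgroup leaves any given subgroup that does
not contain all `p`-elements. -/
theorem exists_pm_over {K T M' : Subgroup G} (hT : H74.IsSylIn p T K) (hTM : T ≤ M')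
    {R : Subgroup G} (hR : IsPGroup p R) (hRK : R ≤ K) (hRM : ¬ R ≤ M') :
    ∃ Q MQ, Q ≤ K ∧ PM p Q T MQ ∧ ¬ Q ≤ M' := by
  by_contra hno
  push Not at hno
  obtain ⟨S, hS⟩ := hT.exists_sylow
  refine hRM fun x hx => ?_
  have hxK : (⟨x, hRK hx⟩ : K) ∈ H74.pMinClosure S := by
    rw [(H74.mcBride S).1]
    refine Subgroup.subset_closure ⟨mem_top _, ?_⟩
    obtain ⟨k, hk⟩ := IsPGroup.iff_orderOf.mp hR ⟨x, hx⟩
    exact ⟨k, by rw [← hk, Subgroup.orderOf_mk, Subgroup.orderOf_mk]⟩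
  have hle : H74.pMinClosure S ≤ M'.subgroupOf K := by
    refine sup_le (fun y hy => mem_subgroupOf.2 (hTM (hS ▸ ⟨y, hy, rfl⟩))) (iSup_le ?_)
    rintro ⟨P, hSP, hP⟩ y hy
    set Q := P.map K.subtype
    have hQ : Cfsg.IsPMinimal p ↥Q :=
      H74.isPMinimal_congr (P.equivMapOfInjective _ K.subtype_injective) hP
    have hTQ : T ≤ Q := hS ▸ map_mono hSP
    obtain ⟨SQ, hSQ⟩ := (hT.of_le hTQ (map_subtype_le _)).exists_sylow
    obtain ⟨-, MQ, ⟨hMQ, hle⟩, -⟩ := hQ SQ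
    have hpm := pm_of_isPMinimal hQ SQ hMQ hle
    rw [hSQ] at hpm
    exact mem_subgroupOf.2 (hno Q _ (map_subtype_le _) hpm ⟨y, hy, rfl⟩)
  exact mem_subgroupOf.1 (hle hxK)

/-- A conjugate of `B` by an element of `Q`. -/
def Cnjs (Q B X : Subgroup G) : Prop := ∃ g ∈ Q, cj g B = X

/-- The subgroup generated by the conjugates of `B` inside `R`. -/
def gen (Q B R : Subgroup G) : Subgroup G := sSup {X | Cnjs Q B X ∧ X ≤ R}

theorem gen_le {Q B R : Subgroup G} : gen Q B R ≤ R := sSup_le fun _ h => h.2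

theorem le_gen {Q B R X : Subgroup G} (h : Cnjs Q B X) (hX : X ≤ R) : X ≤ gen Q B R :=
  le_sSup ⟨h, hX⟩

theorem cj_gen {Q B R : Subgroup G} {g : G} (hg : g ∈ Q) :
    cj g (gen Q B R) ≤ gen Q B (cj g R) := by
  unfold H70.cj gen
  rw [Subgroup.map_le_iff_le_comap]
  refine sSup_le fun X ⟨⟨k, hk, hX⟩, hXR⟩ => ?_
  rw [← Subgroup.map_le_iff_le_comap]
  refine le_sSup ⟨⟨g * k, mul_mem hg hk, ?_⟩, map_mono hXR⟩
  rw [← H70.cj_cj, hX]

theorem normalizer_le_normalizer_gen {Q B R : Subgroup G} :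
    Q ⊓ normalizer (R : Set G) ≤ normalizer ((gen Q B R : Subgroup G) : Set G) := by
  rintro g ⟨hg, hgR⟩
  refine mem_normalizer_iff_cj.2 (H70.eq_of_cj_le ?_)
  exact (cj_gen hg).trans (by rw [mem_normalizer_iff_cj.1 hgR])

theorem Cnjs.pgroup {Q B X : Subgroup G} (h : Cnjs Q B X) (hB : IsPGroup p B) : IsPGroup p X := by
  obtain ⟨g, -, rfl⟩ := h
  exact hB.map _

/-- A member normalising `R` and outside it, inside a bigger `p`-group generated by members. -/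
theorem exists_member_out {Q B T R : Subgroup G} (hT : IsPGroup p T) (hTQ : T ≤ Q)
    (hR : gen Q B R = R) (hRT : R ≤ T) (hne : gen Q B T ≠ R) :
    ∃ X, Cnjs Q B X ∧ X ≤ T ∧ X ≤ normalizer (R : Set G) ∧ ¬ X ≤ R := by
  by_contra hno
  push Not at hno
  set J := gen Q B T
  have hRJ : R ≤ J := by
    conv_lhs => rw [← hR]
    exact sSup_le fun X hX => le_gen hX.1 (hX.2.trans hRT)
  set N := J ⊓ normalizer (R : Set G) with hN
  have hgN : gen Q B N = R := by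
    refine le_antisymm (sSup_le fun X hX => hno X hX.1 ((hX.2.trans inf_le_left).trans gen_le)
      (hX.2.trans inf_le_right)) ?_
    conv_lhs => rw [← hR]
    exact sSup_le fun X hX => le_gen hX.1 (hX.2.trans (le_inf hRJ le_normalizer))
  have hNJ : N ≠ J := fun he => hne (by
    refine le_antisymm (sSup_le fun X hX => ?_) hRJ
    rw [← hgN, he]
    exact le_gen hX.1 (le_gen hX.1 hX.2))
  have hlt := H75.lt_inf_normalizer (hT.to_le gen_le) (lt_of_le_of_ne inf_le_left hNJ : N < J)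
  refine hlt.not_ge fun g hg => ⟨hg.1, ?_⟩
  have h1 := normalizer_le_normalizer_gen (B := B) (R := N) ⟨hTQ (gen_le hg.1), hg.2⟩
  rwa [hgN] at h1

/-- Descent: unless any two conjugates of `B` attached to different conjugates of `M` generate
`Q`, some conjugate of `B` is outside the `p`-core of a smaller `p`-minimal subgroup. -/
theorem PM.descent {Q T M : Subgroup G} (h : PM p Q T M) {B : Subgroup G} (hBT : B ≤ T)
    (hB : ¬ B ≤ Cfsg.pCoreOf p Q) :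
    (∀ g k, g ∈ Q → k ∈ Q → g⁻¹ * k ∉ M → cj g B ⊔ cj k B = Q) ∨
    ∃ Q' T' M' g k, Q' ≤ Q ∧ Q' ≠ Q ∧ PM p Q' T' M' ∧ g ∈ Q ∧ T' ≤ cj g T ∧ ¬ Q' ≤ cj g M ∧
      k ∈ Q ∧ cj k B ≤ T' ∧ ¬ cj k B ≤ Cfsg.pCoreOf p Q' := by
  have hBp : IsPGroup p B := h.pgroup.to_le hBT
  have hBQ : B ≤ Q := hBT.trans h.T_le
  have hXQ : ∀ {X}, Cnjs Q B X → X ≤ Q := by
    rintro _ ⟨g, hg, rfl⟩; exact cj_le hg hBQ
  have hnc : ∀ {X}, Cnjs Q B X → ¬ X ≤ Cfsg.pCoreOf p Q := by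
    rintro _ ⟨g, hg, rfl⟩ hle
    refine hB ?_
    have h1 := H70.cj_mono g⁻¹ hle
    rwa [cj_cancel', mem_normalizer_iff_cj.1 (H75.le_normalizer_pCoreOf Q (inv_mem hg))] at h1
  -- a member-generated group in two conjugates of `M`
  let Two : Subgroup G → Prop := fun R => IsPGroup p R ∧ gen Q B R = R ∧ (∃ X, Cnjs Q B X ∧ X ≤ R) ∧
    ∃ g k, g ∈ Q ∧ k ∈ Q ∧ cj g M ≠ cj k M ∧ R ≤ cj g M ∧ R ≤ cj k M
  -- the end of the descent
  have finish : ∀ {Q' T' M' X : Subgroup G} {g : G}, Q' ≤ Q → Q' ≠ Q → PM p Q' T' M' → g ∈ Q →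
      T' ≤ cj g M → ¬ Q' ≤ cj g M → Cnjs Q B X → X ≤ T' →
      (∀ k ∈ Q, T' ≤ cj k M → cj k M = cj g M) →
      (∀ q ∈ Q, Cfsg.pCoreOf p Q' ≤ cj g M → Cfsg.pCoreOf p Q' ≤ cj q M →
        X ≤ Cfsg.pCoreOf p Q' → cj q M = cj g M) →
      ∃ Q' T' M' g k, Q' ≤ Q ∧ Q' ≠ Q ∧ PM p Q' T' M' ∧ g ∈ Q ∧ T' ≤ cj g T ∧ ¬ Q' ≤ cj g M ∧
        k ∈ Q ∧ cj k B ≤ T' ∧ ¬ cj k B ≤ Cfsg.pCoreOf p Q' := by
    rintro Q' T' M' X g hQ' hne hpm hg hTg hQg ⟨k, hk, rfl⟩ hXT huT hu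
    obtain ⟨g', hg', hTg'⟩ := exists_conj_into h.sylow (hpm.T_le.trans hQ') hpm.pgroup
    have he := huT g' hg' (hTg'.trans (H70.cj_mono _ h.le_M))
    refine ⟨Q', T', M', g', k, hQ', hne, hpm, hg', hTg', by rwa [he], hk, hXT, fun hXO => ?_⟩
    obtain ⟨q, hq, hqM, h1, h2⟩ := hpm.exists_two hTg hQg
    rw [H70.cj_cj] at h2
    have := hu _ (mul_mem (hQ' hq) hg) h1 h2 hXO
    rw [← H70.cj_cj] at this
    refine hqM ((h.conj_mem hg).norm_M (hQ' hq) this)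
  by_cases hR : ∃ R, Two R
  swap
  · push Not at hR
    by_cases hall : ∀ g k, g ∈ Q → k ∈ Q → g⁻¹ * k ∉ M → cj g B ⊔ cj k B = Q
    · exact Or.inl hall
    refine Or.inr ?_
    push Not at hall
    obtain ⟨g, k, hg, hk, hgk, hne⟩ := hall
    set K := cj g B ⊔ cj k B
    have hKQ : K ≤ Q := sup_le (cj_le hg hBQ) (cj_le hk hBQ)
    have hBgM : ∀ {x}, x ∈ Q → cj x B ≤ cj x M := fun _ => H70.cj_mono _ (hBT.trans h.le_M)
    -- a conjugate of `B` lies in one conjugate of `M`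
    have huniq : ∀ {x y z}, x ∈ Q → y ∈ Q → z ∈ Q → cj x B ≤ cj y M → cj x B ≤ cj z M →
        cj y M = cj z M := by
      intro x y z hx hy hz h1 h2
      by_contra hne'
      have hgen : gen Q B (cj x B) = cj x B :=
        le_antisymm gen_le (le_gen ⟨x, hx, rfl⟩ le_rfl)
      exact hR (cj x B) ⟨hBp.map _, hgen, ⟨_, ⟨x, hx, rfl⟩, le_rfl⟩, y, z, hy, hz, hne', h1, h2⟩
    obtain ⟨TK, hTK, hgTK⟩ := exists_sylIn_ge (p := p) (le_sup_left : cj g B ≤ K) (hBp.map _)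
    obtain ⟨g', hg', hTg⟩ := exists_conj_into h.sylow (hTK.le.trans hKQ) hTK.isPGroup
    have hTM : TK ≤ cj g M := by
      rw [huniq hg hg hg' (hBgM hg) ((hgTK.trans hTg).trans (H70.cj_mono _ h.le_M))]
      exact hTg.trans (H70.cj_mono _ h.le_M)
    have hkM : ¬ cj k B ≤ cj g M := fun hle => hgk <|
      (h.cj_M_eq_iff hg hk).1 (huniq hk hg hk hle (hBgM hk))
    obtain ⟨Q', MQ, hQK, hpm, hQM⟩ := exists_pm_over hTK hTM (hBp.map _) le_sup_right hkM
    refine finish (hQK.trans hKQ) (fun he => hne (le_antisymm hKQ (he.ge.trans hQK))) hpm hg hTM hQM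
      ⟨g, hg, rfl⟩ hgTK (fun x hx hle => (huniq hg hx hg (hgTK.trans hle) (hBgM hg)))
      fun q hq _ h2 hX => huniq hg hq hg (hX.trans h2) (hBgM hg)
  refine Or.inr ?_
  obtain ⟨R, ⟨hRp, hRg, ⟨X₀, hX₀, hX₀R⟩, g₁, g₂, hg₁, hg₂, hne₁, hR₁, hR₂⟩, hRmax⟩ :=
    H75.exists_max_card hR
  obtain ⟨k₁, hk₁, hRT₁, hkM₁⟩ := h.exists_sylow_le hg₁ hRp hR₁
  obtain ⟨k₂, hk₂, hRT₂, hkM₂⟩ := h.exists_sylow_le hg₂ hRp hR₂
  rw [← hkM₁, ← hkM₂] at hne₁
  -- members outside `R`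
  have step : ∀ {a b : G}, a ∈ Q → b ∈ Q → R ≤ cj a T → R ≤ cj b T → cj a M ≠ cj b M →
      gen Q B (cj a T) ≠ R →
      ∃ Q' T' M' g k, Q' ≤ Q ∧ Q' ≠ Q ∧ PM p Q' T' M' ∧ g ∈ Q ∧ T' ≤ cj g T ∧ ¬ Q' ≤ cj g M ∧
        k ∈ Q ∧ cj k B ≤ T' ∧ ¬ cj k B ≤ Cfsg.pCoreOf p Q' := by
    intro a b ha hb hRa hRb hab hJ
    have hab' : ∀ {x}, x ∈ Q → cj x T ≤ cj x M := fun _ => H70.cj_mono _ h.le_M
    obtain ⟨X, hX, hXT, hXN, hXR⟩ :=
      exists_member_out ((h.conj_mem ha).pgroup) (h.conj_mem ha).T_le hRg hRa hJ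
    -- a bigger group lies in one conjugate of `M`
    have huniq : ∀ {Y : Subgroup G}, Cnjs Q B Y → ¬ Y ≤ R → IsPGroup p ↥(R ⊔ Y) → ∀ {x y},
        x ∈ Q → y ∈ Q → R ⊔ Y ≤ cj x M → R ⊔ Y ≤ cj y M → cj x M = cj y M := by
      intro Y hY hYR hp x y hx hy h1 h2
      by_contra hne'
      have hgen : gen Q B (R ⊔ Y) = R ⊔ Y := by
        refine le_antisymm gen_le (sup_le ?_ (le_gen hY le_sup_right))
        conv_lhs => rw [← hRg]
        exact sSup_le fun Z hZ => le_gen hZ.1 (hZ.2.trans le_sup_left)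
      have := hRmax (R ⊔ Y) ⟨hp, hgen, ⟨Y, hY, le_sup_right⟩, x, y, hx, hy, hne', h1, h2⟩
      exact hYR (le_sup_right.trans (Subgroup.eq_of_le_of_card_ge le_sup_left this).ge)
    set N := Q ⊓ normalizer (R : Set G) with hN
    have hNQ : N ≠ Q := fun he => hnc hX₀ (hX₀R.trans
      (H75.le_pCoreOf (hRa.trans (h.conj_mem ha).T_le) (inf_eq_left.1 he) hRp))
    have hR'p : IsPGroup p ↥(R ⊔ X) := (h.conj_mem ha).pgroup.to_le (sup_le hRa hXT)
    have hR'a : R ⊔ X ≤ cj a M := (sup_le hRa hXT).trans (hab' ha)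
    have hR'N : R ⊔ X ≤ N :=
      le_inf ((sup_le hRa hXT).trans (h.conj_mem ha).T_le) (sup_le le_normalizer hXN)
    obtain ⟨TN, hTN, hR'TN⟩ := exists_sylIn_ge hR'N hR'p
    obtain ⟨a', ha', hTa'⟩ := exists_conj_into h.sylow (hTN.le.trans inf_le_left) hTN.isPGroup
    have hTM : TN ≤ cj a M := by
      rw [huniq hX hXR hR'p ha ha' hR'a ((hR'TN.trans hTa').trans (hab' ha'))]
      exact hTa'.trans (hab' ha')
    -- something in `N` outside `cj a M`
    obtain ⟨Z, hZ, hZN, hZM⟩ : ∃ Z : Subgroup G, IsPGroup p Z ∧ Z ≤ N ∧ ¬ Z ≤ cj a M := by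
      by_cases hJb : gen Q B (cj b T) = R
      · refine ⟨cj b T, (h.conj_mem hb).pgroup, le_inf (h.conj_mem hb).T_le ?_, fun hle =>
          hab (h.cj_M_unique hb ha hle).symm⟩
        calc cj b T ≤ Q ⊓ normalizer ((cj b T : Subgroup G) : Set G) :=
              le_inf (h.conj_mem hb).T_le le_normalizer
          _ ≤ normalizer ((gen Q B (cj b T) : Subgroup G) : Set G) := normalizer_le_normalizer_gen
          _ = _ := by rw [hJb]
      · obtain ⟨Y, hY, hYT, hYN, hYR⟩ :=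
          exists_member_out ((h.conj_mem hb).pgroup) (h.conj_mem hb).T_le hRg hRb hJb
        refine ⟨Y, hY.pgroup hBp, le_inf (hXQ hY) hYN, fun hle => hab ?_⟩
        exact huniq hY hYR ((h.conj_mem hb).pgroup.to_le (sup_le hRb hYT)) ha hb
          (sup_le (hRa.trans (hab' ha)) hle) ((sup_le hRb hYT).trans (hab' hb))
    obtain ⟨Q', MQ, hQN, hpm, hQM⟩ := exists_pm_over hTN hTM hZ hZN hZM
    have hQQ : Q' ≤ Q := hQN.trans inf_le_left
    refine finish hQQ (fun he => hNQ (le_antisymm inf_le_left (he.ge.trans hQN))) hpm ha hTM hQM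
      hX (le_sup_right.trans hR'TN)
      (fun x hx hle => huniq hX hXR hR'p hx ha (hR'TN.trans hle) hR'a) fun q hq h1 h2 hXO => ?_
    have hRO : R ≤ Cfsg.pCoreOf p Q' :=
      H75.le_pCoreOf ((le_sup_left.trans hR'TN).trans hpm.T_le) (hQN.trans inf_le_right) hRp
    exact huniq hX hXR hR'p hq ha ((sup_le hRO hXO).trans h2) hR'a
  by_cases hJ₁ : gen Q B (cj k₁ T) = R
  · by_cases hJ₂ : gen Q B (cj k₂ T) = R
    · exfalso
      set N := Q ⊓ normalizer (R : Set G)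
      have hTN : ∀ {a}, a ∈ Q → gen Q B (cj a T) = R → cj a T ≤ N := fun {a} ha he =>
        le_inf (h.conj_mem ha).T_le <| calc
          cj a T ≤ Q ⊓ normalizer ((cj a T : Subgroup G) : Set G) :=
              le_inf (h.conj_mem ha).T_le le_normalizer
          _ ≤ normalizer ((gen Q B (cj a T) : Subgroup G) : Set G) := normalizer_le_normalizer_gen
          _ = _ := by rw [he]
      by_cases hNQ : N = Q
      · exact hnc hX₀ (hX₀R.trans (H75.le_pCoreOf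
          (hRT₁.trans (h.conj_mem hk₁).T_le) (inf_eq_left.1 hNQ) hRp))
      · have hle := (h.conj_mem hk₁).uniq N (hTN hk₁ hJ₁) inf_le_left hNQ
        exact hne₁ (h.cj_M_unique hk₂ hk₁ ((hTN hk₂ hJ₂).trans hle)).symm
    · exact step hk₂ hk₁ hRT₂ hRT₁ hne₁.symm hJ₂
  · exact step hk₁ hk₂ hRT₁ hRT₂ hne₁ hJ₁

end H78.PMin
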