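import Cfsg.Agent.H78.PMin.Block

/-!
The conjugates of a minimal offender (members) in a `p`-minimal group.
-/

set_option autoImplicit false
set_option linter.unusedSectionVars false
set_option linter.style.haveILetI false

open Subgroup
open scoped commutatorElement MatrixGroups
open H70 (cj)

namespace H78.PMin

variable {G : Type*} [Group G] [Finite G] {p : ℕ} [Fact p.Prime]

namespace Block

variable {V L A : Subgroup G} {F : Type} [Field F] (b : Block V L A F)
include b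

theorem conj_mem {g v : G} (hg : g ∈ L) (hv : v ∈ V) : g * v * g⁻¹ ∈ V :=
  H75.conj_mem_of_mem_normalizer (b.norm hg) hv

theorem map_one : b.ψ 1 = 0 := (b.zero_iff 1 (one_mem _)).2 (one_mem _)

theorem map_inv {v : G} (hv : v ∈ V) : b.ψ v⁻¹ = -b.ψ v := by
  rw [eq_neg_iff_add_eq_zero, ← b.map_mul _ (inv_mem hv) _ hv, inv_mul_cancel, b.map_one]

theorem map_comm (g : L) {v : G} (hv : v ∈ V) :
    b.ψ ⁅(g : G), v⁆ = (b.ρ g : Matrix (Fin 2) (Fin 2) F).mulVec (b.ψ v) - b.ψ v := by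
  rw [commutatorElement_def, b.map_mul _ (b.conj_mem g.2 hv) _ (inv_mem hv), b.equiv g v hv,
    b.map_inv hv, sub_eq_add_neg]

theorem eq_of_map_eq {u v : G} (hu : u ∈ V) (hv : v ∈ V) (h : b.ψ u = b.ψ v) :
    u⁻¹ * v ∈ fx V L := by
  refine (b.zero_iff _ (mul_mem (inv_mem hu) hv)).1 ?_
  rw [b.map_mul _ (inv_mem hu) _ hv, b.map_inv hu, h, neg_add_cancel]

/-- The parameter of an element of the root group. -/
noncomputable def par {a : G} (ha : a ∈ A) : F :=
  Classical.choose ((b.upper ⟨a, b.le ha⟩).1 ha)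

theorem par_spec {a : G} (ha : a ∈ A) : b.ρ ⟨a, b.le ha⟩ = H98.uu (b.par ha) :=
  Classical.choose_spec ((b.upper ⟨a, b.le ha⟩).1 ha)

theorem par_ne_zero {a : G} (ha : a ∈ A) (h1 : a ≠ 1) : b.par ha ≠ 0 := by
  intro h0
  have h2 := b.par_spec ha
  rw [h0, H98.uu_zero, ← b.ρ.map_one] at h2
  exact h1 (congrArg Subtype.val (b.ρ.injective h2))

/-- The root element with a given parameter. -/
noncomputable def root (s : F) : L := b.ρ.symm (H98.uu s)

theorem root_mem (s : F) : (b.root s : G) ∈ A :=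
  (b.upper _).2 ⟨s, b.ρ.apply_symm_apply _⟩

theorem root_spec (s : F) : b.ρ (b.root s) = H98.uu s := b.ρ.apply_symm_apply _

theorem comm_root {a : G} (ha : a ∈ A) {v : G} (hv : v ∈ V) :
    b.ψ ⁅a, v⁆ = ![b.par ha * b.ψ v 1, 0] := by
  rw [show b.ψ ⁅a, v⁆ = _ from b.map_comm ⟨a, b.le ha⟩ hv, b.par_spec ha]
  funext i
  fin_cases i <;> simp [H98.coe_uu, Matrix.mulVec, dotProduct, Fin.sum_univ_two]

theorem snd_zero_of_commute {a : G} (ha : a ∈ A) (h1 : a ≠ 1) {v : G} (hv : v ∈ V)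
    (h : ⁅a, v⁆ ∈ fx V L) : b.ψ v 1 = 0 := by
  have h2 := congrFun ((b.comm_root ha hv).symm.trans ((b.zero_iff _ h.1).2 h)) 0
  simpa [b.par_ne_zero ha h1] using h2

theorem fx_le {v : G} (hv : v ∈ fx V L) : v ∈ fx V A := fx_anti b.le hv

theorem mem_fx_iff (hquad : ∀ a ∈ A, ∀ v ∈ V, ⁅a, v⁆ ∈ fx V A) {v : G} (hv : v ∈ V) :
    v ∈ fx V A ↔ b.ψ v 1 = 0 := by
  constructor
  · intro hvA
    have ha : (b.root 1 : G) ∈ A := b.root_mem 1
    refine b.snd_zero_of_commute ha (fun h0 => ?_) hv ?_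
    · have h2 := b.root_spec 1
      rw [show b.root 1 = 1 from Subtype.ext h0, b.ρ.map_one] at h2
      exact H98.uu_ne_one one_ne_zero h2.symm
    · rw [commutatorElement_eq_one_iff_mul_comm.2 (fx_comm hvA ha)]
      exact one_mem _
  · intro h0
    obtain ⟨w, hw, hwe⟩ := b.surj ![0, 1]
    have ha : (b.root (b.ψ v 0) : G) ∈ A := b.root_mem _
    have h1 : b.ψ ⁅(b.root (b.ψ v 0) : G), w⁆ = b.ψ v := by
      rw [b.map_comm _ hw, b.root_spec, hwe]
      funext i
      fin_cases i <;> simp [H98.coe_uu, Matrix.mulVec, dotProduct, Fin.sum_univ_two, h0]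
    have h2 := mul_mem (hquad _ ha w hw) (b.fx_le (b.eq_of_map_eq (hquad _ ha w hw).1 hv h1))
    rwa [mul_inv_cancel_left] at h2

end Block

/-- The configuration: a faithful `p`-minimal group and a minimal offender. -/
structure Ctx (p : ℕ) (V P T M A : Subgroup G) : Prop where
  env : Env p V P T M
  faith : P ⊓ centralizer (V : Set G) = ⊥
  mem : MinOff p V P A

variable {V P T M A : Subgroup G}

/-- The elements fixing `Z` and moving `V` into `Z`. -/
def ser (_hV : Cfsg.IsElementaryAbelian p V) (_hP : P ≤ normalizer (V : Set G)) (Z : Subgroup G) :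
    Subgroup G where
  carrier := {g | g ∈ P ∧ (∀ z ∈ Z, g * z * g⁻¹ = z) ∧ ∀ v ∈ V, ⁅g, v⁆ ∈ Z}
  one_mem' := ⟨one_mem _, fun z _ => by simp, fun v _ => by simp [one_mem]⟩
  mul_mem' := by
    rintro g k ⟨hg, hgf, hgc⟩ ⟨hk, hkf, hkc⟩
    refine ⟨mul_mem hg hk, fun z hz => ?_, fun v hv => ?_⟩
    · rw [show g * k * z * (g * k)⁻¹ = g * (k * z * k⁻¹) * g⁻¹ by group, hkf z hz, hgf z hz]
    · rw [show ⁅g * k, v⁆ = g * ⁅k, v⁆ * g⁻¹ * ⁅g, v⁆ by simp only [commutatorElement_def]; group,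
        hgf _ (hkc v hv)]
      exact mul_mem (hkc v hv) (hgc v hv)
  inv_mem' := by
    rintro g ⟨hg, hgf, hgc⟩
    have hf : ∀ z ∈ Z, g⁻¹ * z * g = z := fun z hz => by
      conv_lhs => rw [← hgf z hz]
      group
    refine ⟨inv_mem hg, fun z hz => by rw [inv_inv]; exact hf z hz, fun v hv => ?_⟩
    rw [show ⁅g⁻¹, v⁆ = g⁻¹ * ⁅g, v⁆⁻¹ * g by simp only [commutatorElement_def]; group,
      hf _ (inv_mem (hgc v hv))]
    exact inv_mem (hgc v hv)

/-- A conjugate of the offender. -/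
abbrev Mem (P A D : Subgroup G) : Prop := Cnjs P A D

namespace Ctx

variable (c : Ctx p V P T M A)
include c

theorem core_bot : Cfsg.pCoreOf p P = ⊥ :=
  le_bot_iff.1 ((le_inf (H75.pCoreOf_le P) c.env.core_le).trans c.faith.le)

theorem norm_mem {g : G} (hg : g ∈ P) : g ∈ normalizer (V : Set G) := c.env.norm hg

theorem conj_V {g v : G} (hg : g ∈ P) (hv : v ∈ V) : g * v * g⁻¹ ∈ V :=
  H75.conj_mem_of_mem_normalizer (c.norm_mem hg) hv

theorem minOff {D : Subgroup G} (hD : Mem P A D) : MinOff p V P D := by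
  obtain ⟨g, hg, rfl⟩ := hD
  exact c.mem.conj c.env.norm hg

theorem self_mem : Mem P A A := ⟨1, one_mem _, H70.cj_of_mem (one_mem A)⟩

theorem cj_mem {D : Subgroup G} (hD : Mem P A D) {g : G} (hg : g ∈ P) : Mem P A (cj g D) := by
  obtain ⟨k, hk, rfl⟩ := hD
  exact ⟨g * k, mul_mem hg hk, (H70.cj_cj g k A).symm⟩

theorem card_mem {D : Subgroup G} (hD : Mem P A D) : Nat.card D = Nat.card A := by
  obtain ⟨g, -, rfl⟩ := hD
  exact H70.card_cj g A

theorem card_fx {D : Subgroup G} (hD : Mem P A D) :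
    Nat.card A * Nat.card (fx V D) = Nat.card V := by
  rw [← c.card_mem hD]
  exact (c.minOff hD).card_eq c.env c.faith

theorem quad {D : Subgroup G} (hD : Mem P A D) : ∀ a ∈ D, ∀ v ∈ V, ⁅a, v⁆ ∈ fx V D :=
  (c.minOff hD).quad c.env.elem c.env.norm c.faith

theorem commute_of_fix {g k : G} (hg : g ∈ P) (hk : k ∈ P)
    (h : ∀ v ∈ V, g * k * v * (g * k)⁻¹ = k * g * v * (k * g)⁻¹) : g * k = k * g := by
  have h1 : (k * g)⁻¹ * (g * k) ∈ (P ⊓ centralizer (V : Set G) : Subgroup G) := by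
    refine Subgroup.mem_inf.2 ⟨mul_mem (inv_mem (mul_mem hk hg)) (mul_mem hg hk),
      mem_centralizer_iff.2 fun v hv => ?_⟩
    calc v * ((k * g)⁻¹ * (g * k))
        = (k * g)⁻¹ * (k * g * v * (k * g)⁻¹) * (g * k) := by group
      _ = (k * g)⁻¹ * (g * k * v * (g * k)⁻¹) * (g * k) := by rw [h v hv]
      _ = _ := by group
  rw [c.faith, Subgroup.mem_bot, inv_mul_eq_one] at h1
  exact h1.symm

/-- The series group is elementary abelian and small. -/
theorem card_ser {Z : Subgroup G} (hZV : Z ≤ V) :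
    Nat.card (ser c.env.elem c.env.norm Z) * Nat.card Z ≤ Nat.card V := by
  set S := ser c.env.elem c.env.norm Z with hS
  have hcomm : ∀ g ∈ S, ∀ k ∈ S, g * k = k * g := by
    rintro g ⟨hg, hgf, hgc⟩ k ⟨hk, hkf, hkc⟩
    refine c.commute_of_fix hg hk fun v hv => ?_
    have e : ∀ a b : G, a * b * v * (a * b)⁻¹ = a * ⁅b, v⁆ * a⁻¹ * (⁅a, v⁆ * v) := fun a b => by
      simp only [commutatorElement_def]; group
    rw [e, e, hgf _ (hkc v hv), hkf _ (hgc v hv), ← mul_assoc, ← mul_assoc,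
      H10.comm_of_elem c.env.elem (hZV (hkc v hv)) (hZV (hgc v hv))]
  have hel : Cfsg.IsElementaryAbelian p S := by
    refine ⟨⟨⟨fun a b => Subtype.ext (hcomm a a.2 b b.2)⟩⟩, ?_⟩
    rintro g ⟨hg, hgf, hgc⟩
    have key : ∀ v ∈ V, ∀ n : ℕ, g ^ n * v * (g ^ n)⁻¹ = ⁅g, v⁆ ^ n * v := by
      intro v hv n
      induction n with
      | zero => simp
      | succ n ih =>
        have hfix := hgf _ (hgc v hv)
        calc g ^ (n + 1) * v * (g ^ (n + 1))⁻¹ = g * (g ^ n * v * (g ^ n)⁻¹) * g⁻¹ := by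
              rw [pow_succ']; group
          _ = (g * ⁅g, v⁆ ^ n * g⁻¹) * (g * v * g⁻¹) := by rw [ih]; group
          _ = ⁅g, v⁆ ^ n * (⁅g, v⁆ * v) := by
            rw [← conj_pow, hfix, commutatorElement_def]; group
          _ = _ := by rw [pow_succ, mul_assoc]
    have h1 : g ^ p ∈ (P ⊓ centralizer (V : Set G) : Subgroup G) := by
      refine Subgroup.mem_inf.2 ⟨pow_mem hg p, mem_centralizer_iff.2 fun v hv => ?_⟩
      have h2 := key v hv p
      rw [c.env.elem.2 _ (hZV (hgc v hv)), one_mul] at h2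
      exact (mul_inv_eq_iff_eq_mul.1 h2).symm
    rwa [c.faith, Subgroup.mem_bot] at h1
  have hSP : S ≤ P := fun g hg => hg.1
  have hle : Z ≤ fx V S := le_inf hZV fun z hz => mem_centralizer_iff.2 fun g hg => by
    have := hg.2.1 z hz
    rwa [mul_inv_eq_iff_eq_mul] at this
  refine (Nat.mul_le_mul_left _ (Subgroup.card_le_of_le hle)).trans ?_
  have h1 := c.env.exact hSP hel
  rwa [show S ⊓ centralizer (V : Set G) = ⊥ from le_bot_iff.1
    ((inf_le_inf_right _ hSP).trans c.faith.le), Subgroup.card_bot, one_mul] at h1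

theorem mem_ser_of_mem {D : Subgroup G} (hD : Mem P A D) {Z : Subgroup G} (hZ : Z ≤ fx V D)
    {d : G} (hd : d ∈ D) (h : ∀ v ∈ V, ⁅d, v⁆ ∈ Z) : d ∈ ser c.env.elem c.env.norm Z :=
  ⟨(c.minOff hD).le hd, fun _ hz => fx_conj (hZ hz) hd, h⟩

theorem le_ser {D : Subgroup G} (hD : Mem P A D) :
    D ≤ ser c.env.elem c.env.norm (fx V D) := fun _ hd =>
  c.mem_ser_of_mem hD le_rfl hd fun v hv => c.quad hD _ hd v hv

/-- The axis determines the member. -/
theorem eq_of_fx {D F : Subgroup G} (hD : Mem P A D) (hF : Mem P A F)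
    (h : fx V D = fx V F) : D = F := by
  have hS : ser c.env.elem c.env.norm (fx V D) = D := by
    refine (Subgroup.eq_of_le_of_card_ge (c.le_ser hD) ?_).symm
    have h1 := c.card_ser (Z := fx V D) inf_le_left
    rw [← c.card_fx hD] at h1
    rw [c.card_mem hD]
    exact Nat.le_of_mul_le_mul_right h1 Nat.card_pos
  refine Subgroup.eq_of_le_of_card_ge ?_ (by rw [c.card_mem hD, c.card_mem hF]) |>.symm
  rw [← hS, h]
  exact c.le_ser hF

theorem ser_eq {D : Subgroup G} (hD : Mem P A D) {g : G} (hg : g ∈ P)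
    (hfix : ∀ z ∈ fx V D, g * z * g⁻¹ = z) (hcomm : ∀ v ∈ V, ⁅g, v⁆ ∈ fx V D) : g ∈ D := by
  have h1 := c.card_ser (Z := fx V D) inf_le_left
  rw [← c.card_fx hD, ← c.card_mem hD] at h1
  have hS := Subgroup.eq_of_le_of_card_ge (c.le_ser hD)
    (Nat.le_of_mul_le_mul_right h1 Nat.card_pos)
  rw [hS]
  exact ⟨hg, hfix, hcomm⟩

/-- An element normalising the axis normalises the member. -/
theorem norm_of_fx {D : Subgroup G} (hD : Mem P A D) {g : G} (hg : g ∈ P)
    (h : g ∈ normalizer ((fx V D : Subgroup G) : Set G)) : g ∈ normalizer (D : Set G) := by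
  refine mem_normalizer_iff_cj.2 (c.eq_of_fx (c.cj_mem hD hg) hD ?_)
  rw [← cj_fx (c.norm_mem hg), mem_normalizer_iff_cj.1 h]

theorem fx_norm {D : Subgroup G} {g : G} (hg : g ∈ P) (h : g ∈ normalizer (D : Set G)) :
    g ∈ normalizer ((fx V D : Subgroup G) : Set G) := by
  refine mem_normalizer_iff_cj.2 ?_
  rw [cj_fx (c.norm_mem hg), mem_normalizer_iff_cj.1 h]

theorem exists_block {D : Subgroup G} (hD : Mem P A D) :
    ∃ L g, g ∈ P ∧ D ≤ cj g T ∧ ¬ L ≤ cj g M ∧ L ≤ P ∧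
      ∃ (F : Type) (_ : Field F) (_ : Fintype F),
        Fintype.card F = Nat.card A ∧ Nonempty (Block V L D F) := by
  obtain ⟨g₀, hg₀, hDT⟩ := exists_conj_into c.env.pm.sylow (c.minOff hD).le (c.minOff hD).pgroup
  have hnc : ¬ D ≤ Cfsg.pCoreOf p P := fun hle =>
    (c.minOff hD).ne (le_bot_iff.1 (hle.trans c.core_bot.le))
  have hU : Env p (fx V (Cfsg.pCoreOf p P)) P (cj g₀ T) (cj g₀ M) := by
    rw [c.core_bot, show fx V (⊥ : Subgroup G) = V from inf_eq_left.2 fun v _ =>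
      mem_centralizer_iff.2 fun b hb => by
        rw [SetLike.mem_coe, Subgroup.mem_bot] at hb; simp [hb]]
    exact c.env.conj_of hg₀
  obtain ⟨L, TL, ML, g, k, hL, hpm, hg, hTL, hLM, hk, hkTL, F, iF, iFf, hcard, ⟨b⟩⟩ :=
    H78.PMin.exists_block c.env c.faith le_rfl hU (c.minOff hD) hDT hnc
  -- carry everything back by `k⁻¹`
  refine ⟨cj k⁻¹ L, k⁻¹ * (g * g₀), mul_mem (inv_mem hk) (mul_mem hg hg₀), ?_, ?_,
    cj_le (inv_mem hk) hL, F, iF, iFf, hcard.trans (c.card_mem hD), ⟨?_⟩⟩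
  · rw [← H70.cj_cj, ← H70.cj_cj]
    exact (cj_cancel' k D).ge.trans (H70.cj_mono _ (hkTL.trans hTL))
  · intro hle
    refine hLM ?_
    have h1 := H70.cj_mono k hle
    rwa [cj_cancel, ← H70.cj_cj, cj_cancel, ← H70.cj_cj] at h1
  have hkV := c.norm_mem hk
  have hmem : ∀ x : ↥(cj k⁻¹ L), k * (x : G) * k⁻¹ ∈ L := fun x => by
    simpa using H70.mem_cj.1 x.2
  let e : ↥(cj k⁻¹ L) ≃* ↥L :=
    { toFun := fun x => ⟨k * (x : G) * k⁻¹, hmem x⟩
      invFun := fun y => ⟨k⁻¹ * (y : G) * k, H70.mem_cj.2 (by simp [mul_assoc])⟩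
      left_inv := fun x => Subtype.ext (by simp [mul_assoc])
      right_inv := fun y => Subtype.ext (by simp [mul_assoc])
      map_mul' := fun x y => Subtype.ext (by simp [mul_assoc]) }
  exact
    { ψ := fun v => b.ψ (k * v * k⁻¹)
      ρ := e.trans b.ρ
      norm := (cj_le (inv_mem hk) hL).trans c.env.norm
      map_mul := fun u hu v hv => by
        rw [show k * (u * v) * k⁻¹ = k * u * k⁻¹ * (k * v * k⁻¹) by group]
        exact b.map_mul _ (c.conj_V hk hu) _ (c.conj_V hk hv)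
      surj := fun t => by
        obtain ⟨v, hv, he⟩ := b.surj t
        refine ⟨k⁻¹ * v * k, by simpa using c.conj_V (inv_mem hk) hv, ?_⟩
        rwa [show k * (k⁻¹ * v * k) * k⁻¹ = v by group]
      zero_iff := fun v hv => by
        rw [b.zero_iff _ (c.conj_V hk hv), ← cj_fx (inv_mem hkV), H70.mem_cj]
        simp
      equiv := fun x v hv => by
        have h1 := b.equiv (e x) _ (c.conj_V hk hv)
        rw [show k * ((x : G) * v * (x : G)⁻¹) * k⁻¹ =
          (k * (x : G) * k⁻¹) * (k * v * k⁻¹) * (k * (x : G) * k⁻¹)⁻¹ by group]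
        exact h1
      upper := fun x => by
        show _ ↔ ∃ s, b.ρ (e x) = H98.uu s
        rw [← b.upper, H70.mem_cj]
        show _ ↔ k⁻¹ * (k * (x : G) * k⁻¹) * k ∈ D
        simp [mul_assoc]
      le := (cj_cancel' k D).ge.trans (H70.cj_mono _ b.le) }

/-- An element fixing a vector fixes it with the whole member. -/
theorem mem_fx_of_comm {D : Subgroup G} (hD : Mem P A D) {d : G} (hd : d ∈ D) (h1 : d ≠ 1)
    {v : G} (hv : v ∈ V) (h : d * v = v * d) : v ∈ fx V D := by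
  obtain ⟨L, g, -, -, -, -, F, iF, iFf, -, ⟨b⟩⟩ := c.exists_block hD
  refine (b.mem_fx_iff (c.quad hD) hv).2 (b.snd_zero_of_commute hd h1 hv ?_)
  rw [commutatorElement_eq_one_iff_mul_comm.2 h]
  exact one_mem _

theorem eq_of_common {D F : Subgroup G} (hD : Mem P A D) (hF : Mem P A F) {d : G} (hdD : d ∈ D)
    (hdF : d ∈ F) (h1 : d ≠ 1) : D = F :=
  c.eq_of_fx hD hF <| le_antisymm
    (fun v hv => c.mem_fx_of_comm hF hdF h1 hv.1 (fx_comm hv hdD))
    (fun v hv => c.mem_fx_of_comm hD hdD h1 hv.1 (fx_comm hv hdF))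

omit c in
/-- Two members commute. -/
def Comm (D F : Subgroup G) : Prop := ∀ d ∈ D, ∀ f ∈ F, d * f = f * d

theorem norm_of_comm {D F : Subgroup G} (h : Comm D F) {f : G} (hf : f ∈ F) :
    f ∈ normalizer (D : Set G) :=
  centralizer_le_normalizer _ (mem_centralizer_iff.2 fun d hd => h d hd f hf)

/-- Commuting members. -/
theorem comm_facts {D F : Subgroup G} (hD : Mem P A D) (hF : Mem P A F) (hne : D ≠ F)
    (h : Comm D F) : D ⊓ F = ⊥ ∧ Nat.card A * Nat.card A * Nat.card (fx V (D ⊔ F)) = Nat.card V ∧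
      Nat.card ↥(D ⊔ F) = Nat.card A * Nat.card A ∧ fx V D ⊔ fx V F = V ∧
      ∀ f ∈ F, ∀ v ∈ V, ⁅f, v⁆ ∈ fx V D := by
  have hV := c.env.elem
  have hdis : D ⊓ F = ⊥ := by
    rw [Subgroup.eq_bot_iff_forall]
    rintro d ⟨hdD, hdF⟩
    by_contra h1
    exact hne (c.eq_of_common hD hF hdD hdF h1)
  have hel := H10.elementaryAbelian_sup (c.minOff hD).elem (c.minOff hF).elem h
  have hcard : Nat.card ↥(D ⊔ F) = Nat.card A * Nat.card A := by
    have h1 := H10.card_mul_card_inf (K := F) (H := D)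
      (fun d hd => c.norm_of_comm (fun f hf d' hd' => (h d' hd' f hf).symm) hd)
    rw [hdis, Subgroup.card_bot, mul_one, c.card_mem hD, c.card_mem hF] at h1
    exact h1
  have hPle : D ⊔ F ≤ P := sup_le (c.minOff hD).le (c.minOff hF).le
  have hE := c.env.exact hPle hel
  rw [show (D ⊔ F) ⊓ centralizer (V : Set G) = ⊥ from le_bot_iff.1
    ((inf_le_inf_right _ hPle).trans c.faith.le), Subgroup.card_bot, one_mul, hcard] at hE
  have hinf : fx V D ⊓ fx V F = fx V (D ⊔ F) := le_antisymm (fun v hv => fx_mem_sup hv.1 hv.2)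
    (le_inf (fx_anti le_sup_left) (fx_anti le_sup_right))
  have hsup := H10.card_mul_card_inf
    (le_normalizer_of_le_elem hV (inf_le_left : fx V D ≤ V) (inf_le_left : fx V F ≤ V))
  rw [hinf] at hsup
  have hle : fx V D ⊔ fx V F ≤ V := sup_le inf_le_left inf_le_left
  have h5 : Nat.card V * Nat.card V =
      Nat.card ↥(fx V D ⊔ fx V F) * (Nat.card A * Nat.card A * Nat.card (fx V (D ⊔ F))) := by
    calc Nat.card V * Nat.card V
        = (Nat.card A * Nat.card (fx V D)) * (Nat.card A * Nat.card (fx V F)) := by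
          rw [c.card_fx hD, c.card_fx hF]
      _ = Nat.card A * Nat.card A * (Nat.card (fx V D) * Nat.card (fx V F)) := by ring
      _ = _ := by rw [← hsup]; ring
  have hsupV : fx V D ⊔ fx V F = V := by
    refine Subgroup.eq_of_le_of_card_ge hle
      (Nat.le_of_mul_le_mul_right ?_ (Nat.card_pos : 0 < Nat.card V))
    rw [h5]
    exact Nat.mul_le_mul_left _ hE
  refine ⟨hdis, ?_, hcard, hsupV, fun f hf v hv => ?_⟩
  · rw [hsupV] at h5
    exact (Nat.eq_of_mul_eq_mul_left Nat.card_pos h5).symm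
  · have hfN : f ∈ normalizer ((fx V D : Subgroup G) : Set G) :=
      c.fx_norm ((c.minOff hF).le hf) (c.norm_of_comm h hf)
    rw [← hsupV] at hv
    obtain ⟨x, hx, y, hy, rfl⟩ := H10.exists_mul_of_mem_sup
      (le_normalizer_of_le_elem hV inf_le_left inf_le_left) hv
    rw [comm_mul hV (c.norm_mem ((c.minOff hF).le hf)) hx.1 hy.1,
      commutatorElement_eq_one_iff_mul_comm.2 (fx_comm hy hf), mul_one, commutatorElement_def]
    exact mul_mem (H75.conj_mem_of_mem_normalizer hfN hx) (inv_mem hx)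

/-- Members in a common `p`-subgroup commute. -/
theorem comm_of_pgroup {D F : Subgroup G} (hD : Mem P A D) (hF : Mem P A F) {R : Subgroup G}
    (hR : IsPGroup p R) (hDR : D ≤ R) (hFR : F ≤ R) : Comm D F := by
  induction hn : Nat.card R using Nat.strong_induction_on generalizing D F R with
  | _ n ih =>
  have hDab : Comm D D := fun d hd d' hd' => H10.comm_of_elem (c.minOff hD).elem hd hd'
  by_cases hDF : D = F
  · exact hDF ▸ hDab
  have hRp : IsPGroup p ↥(D ⊔ F) := hR.to_le (sup_le hDR hFR)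
  -- conjugates commute
  have hconj : ∀ {D F : Subgroup G}, Mem P A D → Mem P A F → D ≠ F → D ⊔ F ≤ R → ∀ r ∈ D ⊔ F,
      Comm D (cj r D) := by
    intro D F hD hF hne hle r hr
    have hlt : (D.subgroupOf (D ⊔ F)) ≠ ⊤ := by
      intro he
      rw [subgroupOf_eq_top] at he
      exact hne (Subgroup.eq_of_le_of_card_ge (le_sup_right.trans he)
        (by rw [c.card_mem hD, c.card_mem hF])).symm
    obtain ⟨N, hN, hDN⟩ := H75.exists_coatom_ge hlt
    haveI := (hR.to_le hle).isNilpotent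
    have hNn : N.Normal := Group.normalizerCondition_of_isNilpotent.normal_of_coatom N hN
    have hle' : N.map (D ⊔ F).subtype ≤ D ⊔ F := map_subtype_le _
    have hNlt : Nat.card ↥(N.map (D ⊔ F).subtype) < n := by
      rw [← hn, card_map_of_injective (D ⊔ F).subtype_injective]
      refine lt_of_lt_of_le ?_ (Subgroup.card_le_of_le hle)
      exact lt_of_le_of_ne (Subgroup.card_le_card_group N)
        fun he => hN.1 (Subgroup.eq_top_of_card_eq N he)
    refine ih _ hNlt hD (c.cj_mem hD ((sup_le (c.minOff hD).le (c.minOff hF).le) hr))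
      ((hR.to_le hle).to_le hle') (fun d hd => ⟨⟨d, mem_sup_left hd⟩, hDN (mem_subgroupOf.2 hd), rfl⟩)
      ?_ rfl
    intro x hx
    rw [H70.mem_cj] at hx
    have h1 := hNn.conj_mem ⟨r⁻¹ * x * r, mem_sup_left hx⟩ (hDN (mem_subgroupOf.2 hx)) ⟨r, hr⟩
    exact ⟨_, h1, by simp [mul_assoc]⟩
  -- one moving, one fixing
  have hone : ∀ {D F : Subgroup G}, Mem P A D → Mem P A F → D ≠ F → D ⊔ F ≤ R →
      F ≤ normalizer (D : Set G) → Comm D F := by
    intro D F hD hF hne hle hFN d hd f hf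
    have hsupc := H10.card_mul_card_inf hFN
    have hd' : d ∈ normalizer (F : Set G) := by
      by_contra hdN
      have hF' := c.cj_mem hF ((c.minOff hD).le hd)
      have hneF : F ≠ cj d F := fun he => hdN (mem_normalizer_iff_cj.2 he.symm)
      have hcF := hconj hF hD hne.symm (by rwa [sup_comm]) d (mem_sup_right hd)
      obtain ⟨-, -, hcard, -, -⟩ := c.comm_facts hF hF' hneF hcF
      have hsub : F ⊔ cj d F ≤ F ⊔ D :=
        sup_le le_sup_left (cj_le (mem_sup_right hd) le_sup_left)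
      have heq : F ⊔ cj d F = F ⊔ D := by
        refine Subgroup.eq_of_le_of_card_ge hsub ?_
        rw [hcard]
        calc Nat.card ↥(F ⊔ D) ≤ Nat.card ↥(F ⊔ D) * Nat.card ↥(F ⊓ D) :=
              Nat.le_mul_of_pos_right _ Nat.card_pos
          _ = _ := by rw [hsupc, c.card_mem hF, c.card_mem hD]
      have hab := H10.elementaryAbelian_sup (c.minOff hF).elem (c.minOff hF').elem hcF
      rw [heq] at hab
      exact hdN (centralizer_le_normalizer _ (mem_centralizer_iff.2 fun x hx =>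
        H10.comm_of_elem hab (mem_sup_left hx) (mem_sup_right hd)))
    have hfN := hFN hf
    have h1 : ⁅d, f⁆ ∈ D ⊓ F := by
      refine Subgroup.mem_inf.2 ⟨?_, ?_⟩
      · rw [show ⁅d, f⁆ = d * (f * d⁻¹ * f⁻¹) by simp only [commutatorElement_def]; group]
        exact mul_mem hd (H75.conj_mem_of_mem_normalizer hfN (inv_mem hd))
      · rw [commutatorElement_def]
        exact mul_mem (H75.conj_mem_of_mem_normalizer hd' hf) (inv_mem hf)
    by_contra hno
    obtain ⟨h1D, h1F⟩ := Subgroup.mem_inf.1 h1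
    exact hne (c.eq_of_common hD hF h1D h1F fun h2 => hno
      (commutatorElement_eq_one_iff_mul_comm.1 h2))
  have hle : D ⊔ F ≤ R := sup_le hDR hFR
  by_cases h1 : F ≤ normalizer (D : Set G)
  · exact hone hD hF hDF hle h1
  by_cases h2 : D ≤ normalizer (F : Set G)
  · exact fun d hd f hf => (hone hF hD (Ne.symm hDF) (by rwa [sup_comm]) h2 f hf d hd).symm
  exfalso
  obtain ⟨f, hf, hfN⟩ := SetLike.not_le_iff_exists.1 h1
  obtain ⟨d, hd, hdN⟩ := SetLike.not_le_iff_exists.1 h2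
  have hfP := (c.minOff hF).le hf
  have hdP := (c.minOff hD).le hd
  have hneD : D ≠ cj f D := fun he => hfN (mem_normalizer_iff_cj.2 he.symm)
  have hneF : F ≠ cj d⁻¹ F := fun he => hdN (by
    have := inv_mem (mem_normalizer_iff_cj.2 he.symm : d⁻¹ ∈ normalizer (F : Set G))
    rwa [inv_inv] at this)
  have hcD := hconj hD hF hDF hle f (mem_sup_right hf)
  have hcF := hconj hF hD (Ne.symm hDF) (by rwa [sup_comm]) d⁻¹ (mem_sup_right (inv_mem hd))
  obtain ⟨-, -, -, hsupV, -⟩ := c.comm_facts hD (c.cj_mem hD hfP) hneD hcD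
  obtain ⟨-, -, -, -, hUF⟩ := c.comm_facts (c.cj_mem hF (inv_mem hdP)) hF hneF.symm
    fun x hx y hy => (hcF y hy x hx).symm
  refine hdN (c.norm_of_fx hF hdP ?_)
  have key : ∀ v ∈ V, ⁅d, v⁆ ∈ fx V F := by
    intro v hv
    rw [← hsupV] at hv
    obtain ⟨x, hx, y, hy, rfl⟩ := H10.exists_mul_of_mem_sup
      (le_normalizer_of_le_elem c.env.elem inf_le_left inf_le_left) hv
    have hy' : f⁻¹ * y * f ∈ fx V D := by
      exact H70.mem_cj.1 ((cj_fx (c.norm_mem hfP) D).ge hy)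
    set y' := f⁻¹ * y * f with hy'def
    have hye : y = ⁅f, y'⁆ * y' := by rw [hy'def, commutatorElement_def]; group
    have hu := c.quad hF f hf y' hy'.1
    rw [comm_mul c.env.elem (c.norm_mem hdP) hx.1 hy.1, hye,
      comm_mul c.env.elem (c.norm_mem hdP) hu.1 hy'.1,
      commutatorElement_eq_one_iff_mul_comm.2 (fx_comm hx hd),
      commutatorElement_eq_one_iff_mul_comm.2 (fx_comm hy' hd), one_mul, mul_one,
      commutatorElement_def]
    refine mul_mem ?_ (inv_mem hu)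
    have h3 := hUF f hf y' hy'.1
    have h4 := H70.mem_cj.1 ((cj_fx (c.norm_mem (inv_mem hdP)) F).ge h3)
    rwa [inv_inv] at h4
  refine mem_normalizer_iff_cj.2 (H70.eq_of_cj_le fun x hx => ?_)
  rw [H70.mem_cj] at hx
  have h4 := mul_mem (key _ hx.1) hx
  rwa [show ⁅d, d⁻¹ * x * d⁆ * (d⁻¹ * x * d) = x by simp only [commutatorElement_def]; group] at h4

/-- If `[V,F]` is fixed by `D` then the two commute. -/
theorem comm_of_le {D F : Subgroup G} (hD : Mem P A D) (hF : Mem P A F)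
    (h : ∀ f ∈ F, ∀ v ∈ V, ⁅f, v⁆ ∈ fx V D) : Comm D F := by
  have hn : F ≤ normalizer (D : Set G) := fun f hf => by
    refine c.norm_of_fx hD ((c.minOff hF).le hf) (mem_normalizer_iff_cj.2 (H70.eq_of_cj_le ?_))
    intro x hx
    rw [H70.mem_cj] at hx
    have h4 := mul_mem (h f hf _ hx.1) hx
    rwa [show ⁅f, f⁻¹ * x * f⁆ * (f⁻¹ * x * f) = x by simp only [commutatorElement_def]; group] at h4
  have hR : IsPGroup p ↥(F ⊔ D) :=
    (c.minOff hF).pgroup.to_sup_of_normal_right' (c.minOff hD).pgroup hn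
  exact c.comm_of_pgroup hD hF hR le_sup_right le_sup_left

end Ctx

end H78.PMin
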