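import Cfsg.Agent.H78.PMin.Members
import Cfsg.Agent.H78.SL2Natural

/-!
Elements of a block and the commutator subgroup of a member.
-/

set_option autoImplicit false
set_option linter.unusedSectionVars false
set_option linter.unusedSimpArgs false
set_option linter.style.haveILetI false

open Subgroup
open scoped commutatorElement MatrixGroups
open H70 (cj)

namespace H78.PMin

variable {G : Type*} [Group G]

/-- `[V,D]`. -/
def brk (V D : Subgroup G) : Subgroup G :=
  closure {x | ∃ d ∈ D, ∃ v ∈ V, ⁅d, v⁆ = x}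

theorem mem_brk {V D : Subgroup G} {d v : G} (hd : d ∈ D) (hv : v ∈ V) : ⁅d, v⁆ ∈ brk V D :=
  subset_closure ⟨d, hd, v, hv, rfl⟩

theorem cj_brk {V D : Subgroup G} {g : G} (hg : g ∈ normalizer (V : Set G)) :
    cj g (brk V D) = brk V (cj g D) := by
  rw [H70.cj, brk, MonoidHom.map_closure, brk]
  congr 1
  ext x
  constructor
  · rintro ⟨_, ⟨d, hd, v, hv, rfl⟩, rfl⟩
    refine ⟨g * d * g⁻¹, ⟨d, hd, rfl⟩, g * v * g⁻¹, H75.conj_mem_of_mem_normalizer hg hv, ?_⟩
    simp only [commutatorElement_def, MulEquiv.coe_toMonoidHom, MulAut.conj_apply]; group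
  · rintro ⟨_, ⟨d, hd, rfl⟩, v, hv, rfl⟩
    refine ⟨⁅d, g⁻¹ * v * g⁆, ⟨d, hd, g⁻¹ * v * g,
      by simpa using H75.conj_mem_of_mem_normalizer (inv_mem hg) hv, rfl⟩, ?_⟩
    simp only [commutatorElement_def, MulEquiv.coe_toMonoidHom, MulAut.conj_apply]; group

theorem brk_le {V D X : Subgroup G} (h : ∀ d ∈ D, ∀ v ∈ V, ⁅d, v⁆ ∈ X) : brk V D ≤ X :=
  (closure_le X).2 fun _ ⟨d, hd, v, hv, he⟩ => he ▸ h d hd v hv

variable [Finite G] {p : ℕ} [Fact p.Prime]

namespace Block

variable {V L A : Subgroup G} {F : Type} [Field F] (b : Block V L A F)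
include b

/-- A torus element. -/
noncomputable def tor (t : Fˣ) : L := b.ρ.symm (H78.Nat2.hh t)

theorem map_tor (t : Fˣ) {v : G} (hv : v ∈ V) :
    b.ψ ((b.tor t : G) * v * (b.tor t : G)⁻¹) = ![(t : F) * b.ψ v 0, (t : F)⁻¹ * b.ψ v 1] := by
  rw [b.equiv _ v hv, show b.ρ (b.tor t) = _ from b.ρ.apply_symm_apply _]
  funext i
  fin_cases i <;> simp [H78.Nat2.coe_hh, Matrix.mulVec, dotProduct, Fin.sum_univ_two]

theorem tor_norm (t : Fˣ) {a : G} (ha : a ∈ A) :
    (b.tor t : G) * a * (b.tor t : G)⁻¹ ∈ A := by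
  refine (b.upper (b.tor t * ⟨a, b.le ha⟩ * (b.tor t)⁻¹)).2
    ⟨(t : F) * (t : F) * b.par ha, ?_⟩
  rw [_root_.map_mul, _root_.map_mul, _root_.map_inv, b.par_spec ha,
    show b.ρ (b.tor t) = _ from b.ρ.apply_symm_apply _, mul_inv_eq_iff_eq_mul]
  refine Subtype.ext ?_
  ext i j
  fin_cases i <;> fin_cases j <;>
    simp [H78.Nat2.coe_hh, H98.coe_uu, Matrix.mul_apply, Fin.sum_univ_two] <;> field_simp

/-- The Weyl element. -/
noncomputable def weyl : L := b.ρ.symm H78.Nat2.ww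

/-- The opposite root group. -/
noncomputable def opp : Subgroup G := cj (b.weyl : G) A

theorem opp_le : b.opp ≤ L := cj_le b.weyl.2 b.le

theorem map_weyl {v : G} (hv : v ∈ V) :
    b.ψ ((b.weyl : G) * v * (b.weyl : G)⁻¹) = ![b.ψ v 1, -b.ψ v 0] := by
  rw [b.equiv _ v hv, show b.ρ b.weyl = _ from b.ρ.apply_symm_apply _]
  funext i
  fin_cases i <;> simp [H78.Nat2.coe_ww, Matrix.mulVec, dotProduct, Fin.sum_univ_two]

theorem weyl_pre {v : G} (hv : v ∈ V) :
    (b.weyl : G)⁻¹ * v * (b.weyl : G) ∈ V ∧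
      b.ψ ((b.weyl : G)⁻¹ * v * (b.weyl : G)) 1 = b.ψ v 0 := by
  have hw : (b.weyl : G)⁻¹ * v * (b.weyl : G) ∈ V := by
    simpa using b.conj_mem (inv_mem b.weyl.2) hv
  refine ⟨hw, ?_⟩
  have h1 := congrFun (b.map_weyl hw) 0
  rw [show (b.weyl : G) * ((b.weyl : G)⁻¹ * v * (b.weyl : G)) * (b.weyl : G)⁻¹ = v by group] at h1
  simpa using h1.symm

theorem sup_opp : A ⊔ b.opp = L := by
  refine le_antisymm (sup_le b.le b.opp_le) ?_
  set K := ((A ⊔ b.opp).subgroupOf L).map b.ρ.toMonoidHom with hK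
  have hu : ∀ s, H98.uu s ∈ K := fun s =>
    ⟨b.root s, mem_subgroupOf.2 (mem_sup_left (b.root_mem s)), b.root_spec s⟩
  have hl : ∀ s, H98.ll s ∈ K := by
    intro s
    refine ⟨b.weyl * b.root (-s) * b.weyl⁻¹, mem_subgroupOf.2 (mem_sup_right ?_), ?_⟩
    · rw [opp, H70.mem_cj]
      simpa [mul_assoc] using b.root_mem (-s)
    · show b.ρ _ = _
      rw [_root_.map_mul, _root_.map_mul, _root_.map_inv, b.root_spec,
        show b.ρ b.weyl = _ from b.ρ.apply_symm_apply _, mul_inv_eq_iff_eq_mul]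
      refine Subtype.ext ?_
      ext i j
      fin_cases i <;> fin_cases j <;>
        simp [H78.Nat2.coe_ww, H98.coe_uu, H98.coe_ll, Matrix.mul_apply, Fin.sum_univ_two]
  have htop : K = ⊤ := by
    rw [eq_top_iff, ← H98.upper_sup_lower, sup_le_iff]
    constructor <;> intro x hx
    · obtain ⟨s, rfl⟩ := H98.mem_upperUnipotentSL2.1 hx; exact hu s
    · obtain ⟨s, rfl⟩ := H98.mem_lowerUnipotentSL2.1 hx; exact hl s
  intro g hg
  obtain ⟨x, hx, he⟩ := (htop ▸ mem_top (b.ρ ⟨g, hg⟩) : b.ρ ⟨g, hg⟩ ∈ K)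
  rw [show x = (⟨g, hg⟩ : L) from b.ρ.injective he] at hx
  exact hx

theorem fx_eq : fx V L = fx V A ⊓ fx V b.opp :=
  le_antisymm (le_inf (fx_anti b.le) (fx_anti b.opp_le))
    fun v hv => by rw [← b.sup_opp]; exact fx_mem_sup hv.1 hv.2

theorem mem_fx_opp_iff (hquad : ∀ a ∈ A, ∀ v ∈ V, ⁅a, v⁆ ∈ fx V A) {v : G} (hv : v ∈ V) :
    v ∈ fx V b.opp ↔ b.ψ v 0 = 0 := by
  rw [opp, ← cj_fx (b.norm b.weyl.2), H70.mem_cj, b.mem_fx_iff hquad (b.weyl_pre hv).1,
    (b.weyl_pre hv).2]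

/-- Every vector fixed by `A` is a commutator times a vector fixed by `L`. -/
theorem fx_decomp (hquad : ∀ a ∈ A, ∀ v ∈ V, ⁅a, v⁆ ∈ fx V A) {v : G} (hv : v ∈ fx V A) :
    ∃ a ∈ A, ∃ w ∈ V, ∃ c ∈ fx V L, v = ⁅a, w⁆ * c := by
  obtain ⟨w, hw, hwe⟩ := b.surj ![0, 1]
  refine ⟨_, b.root_mem (b.ψ v 0), w, hw, ⁅(b.root (b.ψ v 0) : G), w⁆⁻¹ * v, ?_, by group⟩
  refine b.eq_of_map_eq (hquad _ (b.root_mem _) w hw).1 hv.1 ?_
  rw [b.map_comm _ hw, b.root_spec, hwe]
  have h0 := (b.mem_fx_iff hquad hv.1).1 hv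
  funext i
  fin_cases i <;> simp [H98.coe_uu, Matrix.mulVec, dotProduct, Fin.sum_univ_two, h0]

end Block

namespace Ctx

variable {V P T M A : Subgroup G} (c : Ctx p V P T M A)
include c

theorem brk_fx {D : Subgroup G} (hD : Mem P A D) : brk V D ≤ fx V D :=
  brk_le fun d hd v hv => c.quad hD d hd v hv

theorem opp_mem {D L : Subgroup G} {F : Type} [Field F] (b : Block V L D F) (hLP : L ≤ P)
    (hD : Mem P A D) : Mem P A b.opp :=
  c.cj_mem hD (hLP b.weyl.2)

theorem card_brk {D E : Subgroup G} (hD : Mem P A D) (hE : Mem P A E) :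
    Nat.card (brk V D) = Nat.card (brk V E) := by
  obtain ⟨g, hg, rfl⟩ := hD
  obtain ⟨k, hk, rfl⟩ := hE
  rw [← cj_brk (c.norm_mem hg), ← cj_brk (c.norm_mem hk), H70.card_cj, H70.card_cj]

/-- An element killing `[V,L]` whose commutators lie in one point. -/
theorem kill_absurd {D L : Subgroup G} (hD : Mem P A D) (hLP : L ≤ P) {F : Type} [Field F]
    [Fintype F] (b : Block V L D F) (hq : Fintype.card F = Nat.card A) {U : Subgroup G}
    (hU : U ≤ fx V D) (hUD : brk V D ≤ U) (hU0 : U ⊓ fx V L = ⊥) {e : G} (he : e ∈ P) (he1 : e ≠ 1)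
    (hfix : ∀ u ∈ U ⊔ cj (b.weyl : G) U, e * u * e⁻¹ = u) {Z0 : Subgroup G} (hZ0 : Z0 ≤ fx V L)
    (hfix0 : ∀ z ∈ Z0, e * z * e⁻¹ = z)
    (hindex : Nat.card (fx V L) ≤ Nat.card A * Nat.card Z0)
    (hmove : ∀ v ∈ V, ⁅e, v⁆ ∈ U) : False := by
  classical
  have hV := c.env.elem
  have hquad := c.quad hD
  set w : G := (b.weyl : G) with hw
  set UY := cj w U with hUY
  have hUV : U ≤ V := hU.trans inf_le_left
  have hUYV : UY ≤ V := fun x hx => by
    have := c.conj_V (hLP b.weyl.2) (hUV (H70.mem_cj.1 hx))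
    simpa [hw, mul_assoc] using this
  set W := U ⊔ UY with hW
  have hWV : W ≤ V := sup_le hUV hUYV
  have hbrkY : brk V b.opp ≤ UY := by
    rw [Block.opp, ← cj_brk (c.norm_mem (hLP b.weyl.2))]
    exact H70.cj_mono _ hUD
  have hWL : L ≤ normalizer (W : Set G) := by
    refine b.sup_opp.ge.trans (sup_le ?_ ?_) <;>
      refine H75.le_normalizer_of_conj fun a ha z hz => ?_
    · have := mul_mem (mem_sup_left (T := UY) (hUD (mem_brk ha (hWV hz)))) hz
      rwa [commutatorElement_def, inv_mul_cancel_right] at this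
    · have := mul_mem (mem_sup_right (S := U) (hbrkY (mem_brk ha (hWV hz)))) hz
      rwa [commutatorElement_def, inv_mul_cancel_right] at this
  have hψU : ∀ u ∈ U, b.ψ u 1 = 0 := fun u hu => (b.mem_fx_iff hquad (hUV hu)).1 (hU hu)
  have hψY : ∀ u ∈ UY, b.ψ u 0 = 0 := fun u hu => by
    rw [← (b.weyl_pre (hUYV hu)).2]
    exact hψU _ (H70.mem_cj.1 hu)
  have hU1 : ∀ u ∈ U, b.ψ u = 0 → u = 1 := fun u hu h0 =>
    Subgroup.mem_bot.1 (hU0 ▸ ⟨hu, (b.zero_iff u (hUV hu)).1 h0⟩)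
  have hY1 : ∀ u ∈ UY, b.ψ u = 0 → u = 1 := fun u hu h0 => by
    have h1 := H70.mem_cj.1 hu
    have h2 : b.ψ (w⁻¹ * u * w) = 0 := by
      rw [b.zero_iff _ (hUV h1)]
      have h3 := (b.zero_iff u (hUYV hu)).1 h0
      have h4 : w⁻¹ * u * w = u := by
        rw [mul_assoc, ← fx_comm h3 b.weyl.2, inv_mul_cancel_left]
      rw [h4]; exact h3
    have := hU1 _ h1 h2
    calc u = w * (w⁻¹ * u * w) * w⁻¹ := by group
      _ = 1 := by rw [this]; group
  have hWC : W ⊓ fx V L = ⊥ := by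
    rw [Subgroup.eq_bot_iff_forall]
    rintro x ⟨hxW, hxC⟩
    obtain ⟨u, hu, u', hu', rfl⟩ := H10.exists_mul_of_mem_sup
      (le_normalizer_of_le_elem hV hUV hUYV) hxW
    have h0 := (b.zero_iff _ hxC.1).2 hxC
    rw [b.map_mul u (hUV hu) u' (hUYV hu')] at h0
    have e0 := congrFun h0 0
    have e1 := congrFun h0 1
    simp only [Pi.add_apply, Pi.zero_apply, hψY u' hu', hψU u hu, add_zero, zero_add] at e0 e1
    rw [hU1 u hu (by funext i; fin_cases i <;> simp [e0, hψU u hu]),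
      hY1 u' hu' (by funext i; fin_cases i <;> simp [e1, hψY u' hu']), mul_one]
  set Z := W ⊔ Z0 with hZ
  have hZV : Z ≤ V := sup_le hWV (hZ0.trans inf_le_left)
  -- the index of `Z`
  let π : V → (Fin 2 → F) := fun v => b.ψ v
  have hVcard : Nat.card V ≤ Nat.card (Fin 2 → F) * Nat.card (fx V L) := by
    let sec : (Fin 2 → F) → G := fun t => Classical.choose (b.surj t)
    have hsec : ∀ t, sec t ∈ V ∧ b.ψ (sec t) = t := fun t => Classical.choose_spec (b.surj t)
    rw [← Nat.card_prod]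
    refine Nat.card_le_card_of_injective
      (fun v : V => (b.ψ v, (⟨(sec (b.ψ v))⁻¹ * v,
        b.eq_of_map_eq (hsec _).1 v.2 (hsec _).2⟩ : fx V L))) ?_
    intro u v huv
    simp only [Prod.mk.injEq, Subtype.mk.injEq] at huv
    obtain ⟨h1, h2⟩ := huv
    rw [h1] at h2
    exact Subtype.ext (mul_left_cancel h2)
  have hWcard : Nat.card A * Nat.card A ≤ Nat.card W := by
    have h1 : Nat.card U * Nat.card UY = Nat.card W := by
      have h2 := H10.card_mul_card_inf (le_normalizer_of_le_elem hV hUV hUYV)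
      rw [show U ⊓ UY = ⊥ from (Subgroup.eq_bot_iff_forall _).2 fun x hx => hU1 x hx.1 (by
        funext i; fin_cases i <;> simp [hψY x hx.2, hψU x hx.1]), Subgroup.card_bot, mul_one] at h2
      exact h2.symm
    rw [← h1, hUY, H70.card_cj]
    suffices Nat.card A ≤ Nat.card U from Nat.mul_le_mul this this
    obtain ⟨v, hv, hve⟩ := b.surj ![0, 1]
    have hinj : Function.Injective (fun s : F => (⟨⁅(b.root s : G), v⁆,
        hUD (mem_brk (b.root_mem s) hv)⟩ : U)) := by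
      intro s t hst
      have h2 : b.ψ ⁅(b.root s : G), v⁆ 0 = b.ψ ⁅(b.root t : G), v⁆ 0 :=
        congrFun (congrArg (fun x : U => b.ψ (x : G)) hst) 0
      rw [b.map_comm _ hv, b.map_comm _ hv, b.root_spec, b.root_spec, hve] at h2
      simpa [H98.coe_uu, Matrix.mulVec, dotProduct, Fin.sum_univ_two] using h2
    have := Nat.card_le_card_of_injective _ hinj
    rwa [Nat.card_eq_fintype_card (α := F), hq] at this
  have hZcard : Nat.card V ≤ Nat.card A * Nat.card Z := by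
    have h2 := H10.card_mul_card_inf (le_normalizer_of_le_elem hV hWV (hZ0.trans inf_le_left))
    rw [show W ⊓ Z0 = ⊥ from le_bot_iff.1 ((inf_le_inf_left _ hZ0).trans hWC.le),
      Subgroup.card_bot, mul_one] at h2
    rw [← hZ] at h2
    rw [Nat.card_fun, Nat.card_eq_fintype_card (α := Fin 2), Fintype.card_fin,
      Nat.card_eq_fintype_card (α := F), hq, sq] at hVcard
    calc Nat.card V ≤ Nat.card A * Nat.card A * Nat.card (fx V L) := hVcard
      _ ≤ Nat.card A * Nat.card A * (Nat.card A * Nat.card Z0) := Nat.mul_le_mul_left _ hindex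
      _ = Nat.card A * (Nat.card A * Nat.card A * Nat.card Z0) := by ring
      _ ≤ Nat.card A * (Nat.card W * Nat.card Z0) :=
          Nat.mul_le_mul_left _ (Nat.mul_le_mul_right _ hWcard)
      _ = _ := by rw [h2]
  -- conjugates of `e`
  set S := ser c.env.elem c.env.norm Z with hS
  have hSle : Nat.card S ≤ Nat.card A :=
    Nat.le_of_mul_le_mul_right ((c.card_ser hZV).trans hZcard) Nat.card_pos
  have hLZ : ∀ l ∈ L, ∀ z ∈ Z, l * z * l⁻¹ ∈ Z := by
    intro l hl z hz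
    obtain ⟨x, hx, z0, hz0, rfl⟩ := H10.exists_mul_of_mem_sup
      (le_normalizer_of_le_elem hV hWV (hZ0.trans inf_le_left)) hz
    rw [show l * (x * z0) * l⁻¹ = (l * x * l⁻¹) * (l * z0 * l⁻¹) by group, fx_conj (hZ0 hz0) hl]
    exact mul_mem (mem_sup_left (H75.conj_mem_of_mem_normalizer (hWL hl) hx)) (mem_sup_right hz0)
  have heS : ∀ l ∈ L, l * e * l⁻¹ ∈ S := by
    intro l hl
    have hlP := hLP hl
    have hfx : ∀ z ∈ Z, e * z * e⁻¹ = z := by
      intro z hz
      obtain ⟨x, hx, z0, hz0, rfl⟩ := H10.exists_mul_of_mem_sup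
        (le_normalizer_of_le_elem hV hWV (hZ0.trans inf_le_left)) hz
      rw [show e * (x * z0) * e⁻¹ = (e * x * e⁻¹) * (e * z0 * e⁻¹) by group, hfix x hx,
        hfix0 z0 hz0]
    refine ⟨mul_mem (mul_mem hlP he) (inv_mem hlP), fun z hz => ?_, fun v hv => ?_⟩
    · have h1 := hfx _ (hLZ l⁻¹ (inv_mem hl) z hz)
      calc l * e * l⁻¹ * z * (l * e * l⁻¹)⁻¹ = l * (e * (l⁻¹ * z * l⁻¹⁻¹) * e⁻¹) * l⁻¹ := by group
        _ = l * (l⁻¹ * z * l⁻¹⁻¹) * l⁻¹ := by rw [h1]
        _ = z := by group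
    · have h1 := hLZ l hl _ (mem_sup_left (mem_sup_left (hmove _ (c.conj_V (inv_mem hlP) hv))))
      rwa [show l * ⁅e, l⁻¹ * v * l⁻¹⁻¹⁆ * l⁻¹ = ⁅l * e * l⁻¹, v⁆ by
        simp only [commutatorElement_def]; group] at h1
  -- one conjugate for each line
  let l : Option F → L := fun i => i.elim b.weyl (fun s => b.ρ.symm (H98.ll s))
  let vec : Option F → (Fin 2 → F) := fun i => i.elim ![0, 1] (fun s => ![1, s])
  have hline : ∀ i, ∀ v ∈ V, ∃ x : F, b.ψ ⁅(l i : G) * e * (l i : G)⁻¹, v⁆ = x • vec i := by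
    intro i v hv
    have hv' : (l i : G)⁻¹ * v * (l i : G) ∈ V := by simpa using b.conj_mem (inv_mem (l i).2) hv
    have hu := hmove _ hv'
    rw [show ⁅(l i : G) * e * (l i : G)⁻¹, v⁆ =
      (l i : G) * ⁅e, (l i : G)⁻¹ * v * (l i : G)⁆ * (l i : G)⁻¹ by
        simp only [commutatorElement_def]; group]
    set u := ⁅e, (l i : G)⁻¹ * v * (l i : G)⁆
    rcases i with _ | s
    · refine ⟨-b.ψ u 0, ?_⟩
      show b.ψ ((b.weyl : G) * u * (b.weyl : G)⁻¹) = _
      rw [b.map_weyl (hUV hu), hψU u hu]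
      funext j
      fin_cases j <;> simp [vec]
    · refine ⟨b.ψ u 0, ?_⟩
      show b.ψ ((b.ρ.symm (H98.ll s) : G) * u * (b.ρ.symm (H98.ll s) : G)⁻¹) = _
      rw [b.equiv _ _ (hUV hu), b.ρ.apply_symm_apply]
      funext j
      fin_cases j <;> simp [vec, H98.coe_ll, Matrix.mulVec, dotProduct, Fin.sum_univ_two, hψU u hu,
        mul_comm]
  let f : Option (Option F) → S := fun i => i.elim 1 (fun j => ⟨_, heS _ (l j).2⟩)
  have hne : ∀ j, (l j : G) * e * (l j : G)⁻¹ ≠ 1 := fun j h1 => he1 (by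
    calc e = (l j : G)⁻¹ * ((l j : G) * e * (l j : G)⁻¹) * (l j : G) := by group
      _ = 1 := by rw [h1]; group)
  have hf : Function.Injective f := by
    rintro (_ | i) (_ | j) hij
    · rfl
    · exact absurd (congrArg Subtype.val hij).symm (hne j)
    · exact absurd (congrArg Subtype.val hij) (hne i)
    · by_contra hne'
      have hij' : (l i : G) * e * (l i : G)⁻¹ = (l j : G) * e * (l j : G)⁻¹ :=
        congrArg Subtype.val hij
      have hzero : ∀ v ∈ V, ⁅(l i : G) * e * (l i : G)⁻¹, v⁆ = 1 := by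
        intro v hv
        obtain ⟨x, hx⟩ := hline i v hv
        obtain ⟨y, hy⟩ := hline j v hv
        rw [← hij', hx] at hy
        have hx0 : x = 0 := by
          have e0 := congrFun hy 0
          have e1 := congrFun hy 1
          rcases i with _ | s <;> rcases j with _ | t <;>
            simp only [vec, Option.elim, Pi.smul_apply, smul_eq_mul, Matrix.cons_val_zero,
              Matrix.cons_val_one, mul_zero, mul_one] at e0 e1
          · exact absurd rfl hne'
          · rw [← e0, zero_mul] at e1; exact e1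
          · exact e0
          · by_contra hx1
            rw [← e0] at e1
            exact hne' (congrArg (fun z => some (some z)) (mul_left_cancel₀ hx1 e1))
        rw [hx0, zero_smul] at hx
        have hv' : (l i : G)⁻¹ * v * (l i : G) ∈ V := by simpa using b.conj_mem (inv_mem (l i).2) hv
        set u := ⁅e, (l i : G)⁻¹ * v * (l i : G)⁆ with hu
        have hcu : ⁅(l i : G) * e * (l i : G)⁻¹, v⁆ = (l i : G) * u * (l i : G)⁻¹ := by
          rw [hu]; simp only [commutatorElement_def]; group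
        have h3 : (l i : G) * u * (l i : G)⁻¹ ∈ fx V L := by
          rw [← hcu]
          refine (b.zero_iff _ ?_).1 hx
          rw [hcu]; exact b.conj_mem (l i).2 (hUV (hmove _ hv'))
        have h4 : u ∈ fx V L := by
          have := fx_conj h3 (inv_mem (l i).2)
          rw [show (l i : G)⁻¹ * ((l i : G) * u * (l i : G)⁻¹) * (l i : G)⁻¹⁻¹ = u by group] at this
          rwa [← this] at h3
        have h5 : u = 1 := Subgroup.mem_bot.1 (hU0 ▸ ⟨hmove _ hv', h4⟩)
        rw [hcu, h5]; group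
      refine hne i ?_
      have h1 : (l i : G) * e * (l i : G)⁻¹ ∈ (P ⊓ centralizer (V : Set G) : Subgroup G) :=
        Subgroup.mem_inf.2 ⟨(heS _ (l i).2).1, mem_centralizer_iff.2 fun v hv =>
          (commutatorElement_eq_one_iff_mul_comm.1 (hzero v hv)).symm⟩
      rwa [c.faith, Subgroup.mem_bot] at h1
  have hcount := Nat.card_le_card_of_injective f hf
  rw [Finite.card_option, Finite.card_option, Nat.card_eq_fintype_card (α := F), hq] at hcount
  omega

end Ctx

end H78.PMin
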