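import Cfsg.Agent.H78.PMin.Members
import Cfsg.Agent.H78.PMin.Torus
import Cfsg.Agent.H78.PermStar

/-!
Members of order two: transvections. Pairwise commuting ones have independent centres.
-/

set_option autoImplicit false
set_option linter.unusedSectionVars false
set_option linter.unusedSimpArgs false
set_option linter.style.haveILetI false

open Subgroup
open scoped commutatorElement IsMulCommutative
open H70 (cj)

namespace H78.PMin

variable {G : Type*} [Group G] [Finite G]

/-- The involutions of the members. -/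
abbrev Tv (P A : Subgroup G) : Type _ := {d : G // Mem P A (zpowers d)}

/-- The indicator of the vectors moved by `d`. -/
noncomputable def phi (d v : G) : ZMod 2 := by
  classical exact if d * v = v * d then 0 else 1

theorem phi_eq_zero {d v : G} : phi d v = 0 ↔ d * v = v * d := by
  classical
  unfold phi
  by_cases h : d * v = v * d <;> simp [h]

theorem phi_zero_or_one (d v : G) : phi d v = 0 ∨ phi d v = 1 :=
  H78.PermStar.zero_or_one _

theorem phi_cj (g d v : G) : phi (g * d * g⁻¹) (g * v * g⁻¹) = phi d v := by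
  classical
  unfold phi
  rw [show g * d * g⁻¹ * (g * v * g⁻¹) = g * (d * v) * g⁻¹ by group,
    show g * v * g⁻¹ * (g * d * g⁻¹) = g * (v * d) * g⁻¹ by group]
  simp

namespace Ctx

variable [Fact (Nat.Prime 2)] {V P T M A : Subgroup G} (c : Ctx 2 V P T M A)
  (hA : Nat.card A = 2)
include c hA

theorem tv_mem_iff {D : Subgroup G} (hD : Mem P A D) {d : G} (hd : d ∈ D) (h1 : d ≠ 1) :
    zpowers d = D := by
  refine Subgroup.eq_of_le_of_card_ge (zpowers_le.2 hd) ?_
  rw [c.card_mem hD, hA, Nat.card_zpowers]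
  by_contra hlt
  have h2 := (isOfFinOrder_of_finite d).orderOf_pos
  exact h1 (orderOf_eq_one_iff.1 (by omega))

theorem tv_of_mem {D : Subgroup G} (hD : Mem P A D) : ∃ x : Tv P A, zpowers (x : G) = D := by
  obtain ⟨d, hd, h1⟩ : ∃ d ∈ D, d ≠ 1 := by
    by_contra hno
    push Not at hno
    exact (c.minOff hD).ne ((Subgroup.eq_bot_iff_forall _).2 hno)
  have he := c.tv_mem_iff hA hD hd h1
  exact ⟨⟨d, he ▸ hD⟩, he⟩

theorem tv_P (x : Tv P A) : (x : G) ∈ P := (c.minOff x.2).le (mem_zpowers _)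

theorem tv_ne_one (x : Tv P A) : (x : G) ≠ 1 := fun h =>
  (c.minOff x.2).ne (by rw [h, zpowers_one_eq_bot])

theorem tv_sq (x : Tv P A) : (x : G) * x = 1 := by
  have := (c.minOff x.2).elem.2 _ (mem_zpowers (x : G))
  rwa [pow_two] at this

theorem tv_inv (x : Tv P A) : (x : G)⁻¹ = x := inv_eq_of_mul_eq_one_right (c.tv_sq hA x)

theorem tv_inj {x y : Tv P A} (h : zpowers (x : G) = zpowers (y : G)) : x = y := by
  refine Subtype.ext ?_
  by_contra hne
  have hx : (x : G) ∈ zpowers (y : G) := h ▸ mem_zpowers _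
  obtain ⟨k, hk⟩ := mem_zpowers_iff.1 hx
  have h2 : (y : G) ^ (2 : ℤ) = 1 := by rw [zpow_two, c.tv_sq hA y]
  rcases Int.even_or_odd k with ⟨m, hm⟩ | ⟨m, hm⟩
  · refine c.tv_ne_one hA x ?_
    rw [← hk, hm, ← two_mul, zpow_mul, h2, one_zpow]
  · refine hne ?_
    rw [← hk, hm, zpow_add, zpow_mul, h2, one_zpow, one_mul, zpow_one]

theorem mem_cj_zpowers {g : G} (hg : g ∈ P) (x : Tv P A) : Mem P A (zpowers (g * x * g⁻¹)) := by
  have := c.cj_mem x.2 hg
  rwa [H70.cj, MonoidHom.map_zpowers] at this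

/-- A conjugate. -/
noncomputable def tvConj {g : G} (hg : g ∈ P) (x : Tv P A) : Tv P A :=
  ⟨g * x * g⁻¹, c.mem_cj_zpowers hA hg x⟩

theorem mem_ax {x : Tv P A} {v : G} : v ∈ fx V (zpowers (x : G)) ↔ v ∈ V ∧ phi (x : G) v = 0 := by
  rw [phi_eq_zero, fx, Subgroup.mem_inf]
  refine and_congr_right fun _ => ⟨fun h => mem_centralizer_iff.1 h _ (mem_zpowers _), fun h => ?_⟩
  refine mem_centralizer_iff.2 fun y hy => ?_
  have hle : zpowers (x : G) ≤ centralizer ({v} : Set G) :=
    zpowers_le.2 (mem_centralizer_singleton_iff.2 h)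
  exact mem_centralizer_singleton_iff.1 (hle hy)

theorem ax_index (x : Tv P A) : ((fx V (zpowers (x : G))).subgroupOf V).index = 2 := by
  have h1 := Subgroup.card_mul_index ((fx V (zpowers (x : G))).subgroupOf V)
  rw [Nat.card_congr (subgroupOfEquivOfLe (inf_le_left : fx V (zpowers (x : G)) ≤ V)).toEquiv,
    ← c.card_fx x.2, hA, mul_comm 2] at h1
  exact Nat.eq_of_mul_eq_mul_left Nat.card_pos h1

theorem phi_mul (x : Tv P A) {u v : G} (hu : u ∈ V) (hv : v ∈ V) :
    phi (x : G) (u * v) = phi (x : G) u + phi (x : G) v := by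
  have h := Subgroup.mul_mem_iff_of_index_two (c.ax_index hA x) (a := ⟨u, hu⟩) (b := ⟨v, hv⟩)
  simp only [mem_subgroupOf, Subgroup.coe_mul, c.mem_ax hA, hu, hv, mul_mem hu hv, true_and] at h
  rcases phi_zero_or_one (x : G) (u * v) with h1 | h1 <;>
    rcases phi_zero_or_one (x : G) u with h2 | h2 <;>
    rcases phi_zero_or_one (x : G) v with h3 | h3 <;> simp [h1, h2, h3] at h ⊢ <;> rfl

theorem phi_one (d : G) : phi d 1 = 0 := phi_eq_zero.2 (by rw [mul_one, one_mul])

theorem exists_moved (x : Tv P A) : ∃ v ∈ V, phi (x : G) v = 1 := by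
  by_contra hno
  push Not at hno
  have h1 : V ≤ fx V (zpowers (x : G)) := fun v hv =>
    (c.mem_ax hA).2 ⟨hv, (phi_zero_or_one _ _).resolve_right (hno v hv)⟩
  have h2 := c.ax_index hA x
  rw [subgroupOf_eq_top.2 h1, Subgroup.index_top] at h2
  omega

/-- The centre. -/
noncomputable def ctr (x : Tv P A) : G := ⁅(x : G), (c.exists_moved hA x).choose⁆

theorem comm_eq (x : Tv P A) {v : G} (hv : v ∈ V) :
    ⁅(x : G), v⁆ = if phi (x : G) v = 0 then 1 else c.ctr hA x := by
  obtain ⟨h0, h1⟩ := (c.exists_moved hA x).choose_spec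
  split
  next h => exact commutatorElement_eq_one_iff_mul_comm.2 (phi_eq_zero.1 h)
  next h =>
    set v₀ := (c.exists_moved hA x).choose
    have hz : phi (x : G) (v₀⁻¹ * v) = 0 := by
      have h3 := c.phi_mul hA x h0 (mul_mem (inv_mem h0) hv)
      rw [mul_inv_cancel_left, h1, (phi_zero_or_one _ _).resolve_left h] at h3
      exact (add_eq_left.1 h3.symm)
    show _ = ⁅(x : G), v₀⁆
    conv_lhs => rw [show v = v₀ * (v₀⁻¹ * v) by group]
    rw [comm_mul c.env.elem (c.norm_mem (c.tv_P hA x)) h0 (mul_mem (inv_mem h0) hv),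
      commutatorElement_eq_one_iff_mul_comm.2 (phi_eq_zero.1 hz), mul_one]

theorem ctr_ax (x : Tv P A) : c.ctr hA x ∈ fx V (zpowers (x : G)) :=
  c.quad x.2 _ (mem_zpowers _) _ (c.exists_moved hA x).choose_spec.1

theorem ctr_V (x : Tv P A) : c.ctr hA x ∈ V := (c.ctr_ax hA x).1

theorem phi_self (x : Tv P A) : phi (x : G) (c.ctr hA x) = 0 :=
  ((c.mem_ax hA).1 (c.ctr_ax hA x)).2

theorem ctr_ne_one (x : Tv P A) : c.ctr hA x ≠ 1 := fun h => by
  have h1 := commutatorElement_eq_one_iff_mul_comm.1 h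
  rw [← phi_eq_zero, (c.exists_moved hA x).choose_spec.2] at h1
  exact one_ne_zero h1

theorem conj_eq (x : Tv P A) {v : G} (hv : v ∈ V) :
    (x : G) * v * (x : G)⁻¹ = (if phi (x : G) v = 0 then 1 else c.ctr hA x) * v := by
  rw [← c.comm_eq hA x hv, commutatorElement_def, inv_mul_cancel_right]

theorem ctr_conj {g : G} (hg : g ∈ P) (x : Tv P A) :
    c.ctr hA (c.tvConj hA hg x) = g * c.ctr hA x * g⁻¹ := by
  obtain ⟨h0, h1⟩ := (c.exists_moved hA x).choose_spec
  set v₀ := (c.exists_moved hA x).choose with hv₀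
  have h3 : phi (c.tvConj hA hg x : G) (g * v₀ * g⁻¹) = 1 := by
    show phi (g * (x : G) * g⁻¹) _ = 1
    rw [phi_cj, h1]
  have h2 := c.comm_eq hA (c.tvConj hA hg x) (c.conj_V hg h0)
  rw [if_neg (by rw [h3]; exact one_ne_zero)] at h2
  rw [← h2]
  show ⁅g * (x : G) * g⁻¹, g * v₀ * g⁻¹⁆ = g * ⁅(x : G), v₀⁆ * g⁻¹
  simp only [commutatorElement_def]
  group

theorem phi_of_comm {x y : Tv P A} (h : (x : G) * y = y * x) : phi (x : G) (c.ctr hA y) = 0 := by
  have he : c.tvConj hA (c.tv_P hA x) y = y := Subtype.ext (by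
    show (x : G) * y * (x : G)⁻¹ = y
    rw [h, mul_inv_cancel_right])
  have h1 := c.ctr_conj hA (c.tv_P hA x) y
  rw [he] at h1
  exact phi_eq_zero.2 (eq_mul_inv_iff_mul_eq.1 h1).symm

theorem comm_of_phi {x y : Tv P A} (h : phi (x : G) (c.ctr hA y) = 0) : (x : G) * y = y * x := by
  refine c.comm_of_le x.2 y.2 (fun f hf v hv => ?_) _ (mem_zpowers _) _ (mem_zpowers _)
  by_cases h1 : f = 1
  · rw [h1, commutatorElement_one_left]; exact one_mem _
  obtain ⟨k, rfl⟩ := mem_zpowers_iff.1 hf
  have hfy : (y : G) ^ k = y := by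
    have h2 : (y : G) ^ (2 : ℤ) = 1 := by rw [zpow_two, c.tv_sq hA y]
    rcases Int.even_or_odd k with ⟨m, hm⟩ | ⟨m, hm⟩
    · exact absurd (by rw [hm, ← two_mul, zpow_mul, h2, one_zpow]) h1
    · rw [hm, zpow_add, zpow_mul, h2, one_zpow, one_mul, zpow_one]
  rw [hfy, c.comm_eq hA y hv]
  split
  · exact one_mem _
  · exact (c.mem_ax hA).2 ⟨c.ctr_V hA y, h⟩

theorem phi_symm (x y : Tv P A) : phi (x : G) (c.ctr hA y) = phi (y : G) (c.ctr hA x) := by
  rcases phi_zero_or_one (x : G) (c.ctr hA y) with h | h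
  · rw [h, c.phi_of_comm hA (c.comm_of_phi hA h).symm]
  · rcases phi_zero_or_one (y : G) (c.ctr hA x) with h' | h'
    · rw [c.phi_of_comm hA (c.comm_of_phi hA h').symm] at h
      exact absurd h zero_ne_one
    · rw [h, h']

/-- The member between two crossing ones. -/
theorem exists_between {x y : Tv P A} (h : phi (x : G) (c.ctr hA y) = 1) :
    ∃ z : Tv P A, (z : G) = (y : G) * x * (y : G)⁻¹ ∧ c.ctr hA z = c.ctr hA x * c.ctr hA y ∧
      ∀ v ∈ V, phi (z : G) v = phi (x : G) v + phi (y : G) v := by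
  refine ⟨c.tvConj hA (c.tv_P hA y) x, rfl, ?_, fun v hv => ?_⟩
  · rw [c.ctr_conj hA, c.conj_eq hA y (c.ctr_V hA x),
      if_neg (by rw [c.phi_symm hA y x, h]; exact one_ne_zero),
      H10.comm_of_elem c.env.elem (c.ctr_V hA x) (c.ctr_V hA y)]
  · show phi ((y : G) * x * (y : G)⁻¹) v = _
    have h1 : v = (y : G) * ((y : G)⁻¹ * v * y) * (y : G)⁻¹ := by group
    have h2 := c.conj_eq hA y hv
    rw [c.tv_inv hA] at h2
    conv_lhs => rw [h1, phi_cj, c.tv_inv hA, h2]
    split
    next h3 => rw [one_mul, h3, add_zero]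
    next h3 =>
      rw [c.phi_mul hA x (c.ctr_V hA y) hv, h, (phi_zero_or_one _ _).resolve_left h3, add_comm]

theorem tv_eq_of_phi {x y : Tv P A} (h : ∀ v ∈ V, phi (x : G) v = phi (y : G) v) : x = y := by
  refine c.tv_inj hA (c.eq_of_fx x.2 y.2 ?_)
  ext v
  rw [c.mem_ax hA, c.mem_ax hA]
  exact ⟨fun ⟨h1, h2⟩ => ⟨h1, (h v h1).symm.trans h2⟩, fun ⟨h1, h2⟩ => ⟨h1, (h v h1).trans h2⟩⟩

theorem indep_sum {S : Finset (Tv P A)} (hne : S.Nonempty)
    (horth : ∀ x ∈ S, ∀ y ∈ S, phi (x : G) (c.ctr hA y) = 0) :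
    ∃ z : Tv P A, ∑ x ∈ S, phi (z : G) (c.ctr hA x) ≠ 0 := by
  classical
  haveI : IsMulCommutative ↥V := c.env.elem.1
  induction S using Finset.strongInduction with
  | _ S ih =>
  by_contra hno
  push Not at hno
  haveI : Fintype (Tv P A) := Fintype.ofFinite _
  -- conjugate into `T`
  set B := closure ((fun x : Tv P A => (x : G)) '' (S : Set (Tv P A))) with hB
  have hmemB : ∀ {x}, x ∈ S → (x : G) ∈ B := fun hx => subset_closure ⟨_, hx, rfl⟩
  have hBP : B ≤ P := (closure_le P).2 (by rintro _ ⟨x, -, rfl⟩; exact c.tv_P hA x)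
  have hBc : ∀ a ∈ B, ∀ b ∈ B, a * b = b * a := by
    have h1 : B ≤ centralizer (B : Set G) := by
      rw [hB, Subgroup.centralizer_closure]
      refine (closure_le _).2 ?_
      rintro _ ⟨x, hx, rfl⟩
      refine mem_centralizer_iff.2 ?_
      rintro _ ⟨y, hy, rfl⟩
      exact c.comm_of_phi hA (horth y hy x hx)
    exact fun a ha b hb => (mem_centralizer_iff.1 (h1 ha) b hb).symm
  have hBel : Cfsg.IsElementaryAbelian 2 B := by
    refine ⟨⟨⟨fun a b => Subtype.ext (hBc a a.2 b b.2)⟩⟩, fun a ha => ?_⟩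
    induction ha using Subgroup.closure_induction with
    | mem a ha => obtain ⟨x, -, rfl⟩ := ha; rw [pow_two]; exact c.tv_sq hA x
    | one => exact one_pow 2
    | mul a b ha hb ia ib => rw [(show Commute a b from hBc a ha b hb).mul_pow, ia, ib, one_mul]
    | inv a _ ia => rw [inv_pow, ia, inv_one]
  have hBp : IsPGroup 2 B := fun a => ⟨1, Subtype.ext (by simpa using hBel.2 _ a.2)⟩
  obtain ⟨g, hg, hBT⟩ := exists_conj_into c.env.pm.sylow hBP hBp
  have henv := c.env.conj_of hg
  let c' : Ctx 2 V P (cj g T) (cj g M) A := ⟨henv, c.faith, c.mem⟩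
  -- the module
  set T' := cj g T
  set W := closure (Set.range (fun x : Tv P A => c.ctr hA x) ∪ (fx V T' : Set G)) with hW
  have hWV : W ≤ V := (closure_le V).2 (by
    rintro _ (⟨x, rfl⟩ | h)
    · exact c.ctr_V hA x
    · exact h.1)
  have hctrW : ∀ x, c.ctr hA x ∈ W := fun x => subset_closure (Or.inl ⟨x, rfl⟩)
  have hTW : fx V T' ≤ W := fun v hv => subset_closure (Or.inr hv)
  have hPW : P ≤ normalizer (W : Set G) := by
    set N := P ⊓ normalizer (W : Set G) with hN
    have hnorm : ∀ k ∈ P, (∀ v ∈ fx V T', k * v * k⁻¹ ∈ W) → k ∈ N := by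
      intro k hk h
      refine ⟨hk, mem_normalizer_iff_cj.2 (H70.eq_of_cj_le fun y hy => ?_)⟩
      have h1 : ∀ w ∈ W, k * w * k⁻¹ ∈ W := by
        intro w hw
        induction hw using Subgroup.closure_induction with
        | mem w hw =>
          rcases hw with ⟨x, rfl⟩ | hw
          · rw [← c.ctr_conj hA hk x]; exact hctrW _
          · exact h w hw
        | one => simp [one_mem]
        | mul a b _ _ ia ib =>
          rw [show k * (a * b) * k⁻¹ = k * a * k⁻¹ * (k * b * k⁻¹) by group]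
          exact mul_mem ia ib
        | inv a _ ia =>
          rw [show k * a⁻¹ * k⁻¹ = (k * a * k⁻¹)⁻¹ by group]
          exact inv_mem ia
      have := h1 _ (H70.mem_cj.1 hy)
      simpa [mul_assoc] using this
    have hTN : T' ≤ N := fun t ht => hnorm t (henv.pm.T_le ht) fun v hv => by
      rw [fx_conj hv ht]; exact hTW hv
    have hmN : ∀ x : Tv P A, (x : G) ∈ N := fun x => hnorm _ (c.tv_P hA x) fun v hv => by
      rw [c.conj_eq hA x hv.1]
      refine mul_mem ?_ (hTW hv)
      split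
      · exact one_mem _
      · exact hctrW x
    by_contra hno'
    have h1 := henv.pm.uniq N hTN inf_le_left fun he => hno' (inf_eq_left.1 he)
    set R := closure (Set.range fun x : Tv P A => (x : G))
    have hRM : R ≤ cj g M := (closure_le _).2 (by rintro _ ⟨x, rfl⟩; exact h1 (hmN x))
    have hRn : P ≤ normalizer (R : Set G) := fun k hk =>
      mem_normalizer_iff_cj.2 (H70.eq_of_cj_le ((map_le_iff_le_comap).2 ((closure_le _).2 (by
        rintro _ ⟨x, rfl⟩
        exact subset_closure ⟨c.tvConj hA hk x, rfl⟩))))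
    obtain ⟨x, hx⟩ := hne
    have h2 := henv.pm.core hRM hRn (c.minOff x.2).pgroup
      (zpowers_le.2 (subset_closure ⟨x, rfl⟩))
    exact (c.minOff x.2).ne (le_bot_iff.1 (h2.trans c.core_bot.le))
  have hfxW : fx W T' = fx V T' :=
    le_antisymm (fun v hv => ⟨hWV hv.1, hv.2⟩) fun v hv => ⟨hTW hv, hv.2⟩
  have henvW : Env 2 W P T' (cj g M) :=
    { elem := H10.elementaryAbelian_of_le c.env.elem hWV
      norm := hPW
      pm := henv.pm
      core_le := by rw [c.core_bot]; exact bot_le
      hyp := by rw [hfxW]; exact henv.hyp }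
  -- the axes are dependent on the module
  have hsum : ∀ w ∈ W, ∑ x ∈ S, phi (x : G) w = 0 := by
    intro w hw
    induction hw using Subgroup.closure_induction with
    | mem w hw =>
      rcases hw with ⟨y, rfl⟩ | hw
      · rw [Finset.sum_congr rfl fun x _ => c.phi_symm hA x y]
        exact hno y
      · exact Finset.sum_eq_zero fun x hx => phi_eq_zero.2 (fx_comm hw (hBT (hmemB hx)))
    | one => exact Finset.sum_eq_zero fun x _ => c.phi_one hA _
    | mul a b ha hb ia ib =>
      rw [Finset.sum_congr rfl fun x _ => c.phi_mul hA x (hWV ha) (hWV hb), Finset.sum_add_distrib,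
        ia, ib, add_zero]
    | inv a ha ia =>
      have h1 : a⁻¹ = a := inv_eq_of_mul_eq_one_right (by
        have := c.env.elem.2 a (hWV ha); rwa [pow_two] at this)
      rwa [h1]
  -- the order of the group
  let u : Tv P A → Additive ↥V := fun x => Additive.ofMul ⟨c.ctr hA x, c.ctr_V hA x⟩
  have hact : ∀ S' ⊆ S, ∃ b : B, ∀ v : ↥V, ∃ w : ↥V, (w : G) = ⁅(b : G), (v : G)⁆ ∧
      Additive.ofMul w = ∑ x ∈ S'.filter (fun x : Tv P A => phi (x : G) v = 1), u x := by
    intro S'
    induction S' using Finset.induction with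
    | empty => exact fun _ => ⟨1, fun v => ⟨1, by simp, by simp⟩⟩
    | @insert s S' hs ih' =>
      intro hsub
      obtain ⟨b, hb⟩ := ih' ((Finset.subset_insert _ _).trans hsub)
      have hsS : s ∈ S := hsub (Finset.mem_insert_self _ _)
      refine ⟨⟨s, hmemB hsS⟩ * b, fun v => ?_⟩
      obtain ⟨w, hw, hwu⟩ := hb v
      have hfixw : (s : G) * w * (s : G)⁻¹ = w := by
        have hphi : phi (s : G) w = 0 := by
          have h1 : ∀ R : Finset (Tv P A), R ⊆ S → ∀ z : ↥V, Additive.ofMul z = ∑ x ∈ R, u x →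
              phi (s : G) z = 0 := by
            intro R
            induction R using Finset.induction with
            | empty =>
              intro _ z hz
              rw [Finset.sum_empty] at hz
              rw [show z = 1 from congrArg Additive.toMul hz]
              exact c.phi_one hA _
            | @insert r R hr ihR =>
              intro hsub' z hz
              rw [Finset.sum_insert hr] at hz
              have h2 : z = ⟨c.ctr hA r, c.ctr_V hA r⟩ * Additive.toMul (∑ x ∈ R, u x) :=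
                congrArg Additive.toMul hz
              rw [h2, Subgroup.coe_mul, c.phi_mul hA s (c.ctr_V hA r) (SetLike.coe_mem _),
                horth s hsS r (hsub' (Finset.mem_insert_self _ _)), zero_add]
              exact ihR ((Finset.subset_insert _ _).trans hsub') _ rfl
          exact h1 _ ((Finset.filter_subset _ _).trans ((Finset.subset_insert _ _).trans hsub)) w hwu
        rw [phi_eq_zero.1 hphi, mul_inv_cancel_right]
      rw [Finset.filter_insert]
      have hcomm : ⁅(s : G) * (b : G), (v : G)⁆ = w * ⁅(s : G), (v : G)⁆ := by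
        rw [show ⁅(s : G) * (b : G), (v : G)⁆ = (s : G) * ⁅(b : G), (v : G)⁆ * (s : G)⁻¹ *
          ⁅(s : G), (v : G)⁆ by simp only [commutatorElement_def]; group, ← hw, hfixw]
      by_cases hv : phi (s : G) v = 1
      · rw [if_pos hv]
        refine ⟨w * ⟨c.ctr hA s, c.ctr_V hA s⟩, ?_, ?_⟩
        · show _ = ⁅(s : G) * (b : G), (v : G)⁆
          rw [hcomm, c.comm_eq hA s v.2, if_neg (by rw [hv]; exact one_ne_zero)]
          rfl
        · rw [Finset.sum_insert (fun h => hs (Finset.mem_filter.1 h).1), ofMul_mul, hwu, add_comm]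
      · rw [if_neg hv]
        refine ⟨w, ?_, hwu⟩
        show _ = ⁅(s : G) * (b : G), (v : G)⁆
        rw [hcomm, c.comm_eq hA s v.2, if_pos ((phi_zero_or_one _ _).resolve_right hv), mul_one]
  choose gen hgen using hact
  have hinj : Function.Injective (fun R : {R // R ∈ S.powerset} =>
      gen R.1 (Finset.mem_powerset.1 R.2)) := by
    rintro ⟨R₁, hR₁⟩ ⟨R₂, hR₂⟩ he
    rw [Finset.mem_powerset] at hR₁ hR₂
    refine Subtype.ext ?_
    by_contra hne'
    set Dd := (R₁ \ R₂) ∪ (R₂ \ R₁) with hDd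
    have hDsub : Dd ⊆ S := Finset.union_subset (Finset.sdiff_subset.trans hR₁)
      (Finset.sdiff_subset.trans hR₂)
    have hDne : Dd.Nonempty := by
      by_contra h0
      rw [Finset.not_nonempty_iff_eq_empty, hDd, Finset.union_eq_empty, Finset.sdiff_eq_empty_iff_subset,
        Finset.sdiff_eq_empty_iff_subset] at h0
      exact hne' (Finset.Subset.antisymm h0.1 h0.2)
    have hzero : ∀ v : ↥V, ∑ x ∈ Dd.filter (fun x : Tv P A => phi (x : G) v = 1), u x = 0 := by
      intro v
      obtain ⟨w₁, hw₁, hu₁⟩ := hgen R₁ hR₁ v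
      obtain ⟨w₂, hw₂, hu₂⟩ := hgen R₂ hR₂ v
      have he' : gen R₁ hR₁ = gen R₂ hR₂ := he
      have hww : w₁ = w₂ := Subtype.ext (by rw [hw₁, hw₂, he'])
      rw [hww, hu₂, Finset.sum_filter, Finset.sum_filter] at hu₁
      rw [Finset.sum_filter, hDd, Finset.sum_union (disjoint_sdiff_sdiff)]
      set f : Tv P A → Additive ↥V := fun x => if phi (x : G) v = 1 then u x else 0
      have hdbl : ∀ z : Additive ↥V, z + z = 0 := fun z => by
        apply Additive.toMul.injective
        refine Subtype.ext ?_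
        show ((Additive.toMul z : ↥V) : G) * (Additive.toMul z : ↥V) = 1
        rw [← pow_two]
        exact c.env.elem.2 _ (SetLike.coe_mem _)
      have s1 : ∑ x ∈ R₁ \ R₂, f x + ∑ x ∈ R₁ ∩ R₂, f x = ∑ x ∈ R₁, f x := by
        rw [add_comm, Finset.sum_inter_add_sum_sdiff]
      have s2 : ∑ x ∈ R₂ \ R₁, f x + ∑ x ∈ R₂ ∩ R₁, f x = ∑ x ∈ R₂, f x := by
        rw [add_comm, Finset.sum_inter_add_sum_sdiff]
      rw [Finset.inter_comm] at s2
      have h3 : (∑ x ∈ R₁ \ R₂, f x + ∑ x ∈ R₂ \ R₁, f x) +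
          (∑ x ∈ R₁ ∩ R₂, f x + ∑ x ∈ R₁ ∩ R₂, f x) = 0 := by
        rw [add_add_add_comm, s1, s2, hu₁, hdbl]
      rwa [hdbl, add_zero] at h3
    -- no proper subset has dependent centres
    have hsub0 : ∀ R ⊆ S, R.Nonempty → ∑ x ∈ R, u x = 0 → R = S := by
      intro R hR hRne h0
      by_contra hne''
      obtain ⟨z, hz⟩ := ih R (Finset.ssubset_iff_subset_ne.2 ⟨hR, hne''⟩) hRne
        fun x hx y hy => horth x (hR hx) y (hR hy)
      refine hz ?_
      let Φ : Additive ↥V →+ ZMod 2 :=
        AddMonoidHom.mk' (fun a => phi (z : G) ((Additive.toMul a : ↥V) : G)) fun a b =>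
          c.phi_mul hA z (SetLike.coe_mem _) (SetLike.coe_mem _)
      have h1 := congrArg Φ h0
      rw [map_sum, map_zero] at h1
      exact h1
    obtain ⟨s, hs⟩ := hDne
    obtain ⟨v, hv, hsv⟩ := c.exists_moved hA s
    have hall := hsub0 _ ((Finset.filter_subset _ _).trans hDsub)
      ⟨s, Finset.mem_filter.2 ⟨hs, hsv⟩⟩ (hzero ⟨v, hv⟩)
    have hone : ∀ x ∈ S, x = s := by
      intro x hx
      refine c.tv_eq_of_phi hA fun v' hv' => ?_
      by_cases h' : (Dd.filter fun y : Tv P A => phi (y : G) v' = 1).Nonempty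
      · have hall' := hsub0 _ ((Finset.filter_subset _ _).trans hDsub) h' (hzero ⟨v', hv'⟩)
        have h1 := (Finset.mem_filter.1 (hall'.symm ▸ hx : x ∈ Dd.filter _)).2
        have h2 := (Finset.mem_filter.1 (hall'.symm ▸ hDsub hs : s ∈ Dd.filter _)).2
        rw [h1, h2]
      · rw [Finset.not_nonempty_iff_eq_empty] at h'
        have key : ∀ y ∈ Dd, phi (y : G) v' = 0 := fun y hy => (phi_zero_or_one _ _).resolve_right
          fun h1 => by
            have : y ∈ Dd.filter (fun y : Tv P A => phi (y : G) v' = 1) :=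
              Finset.mem_filter.2 ⟨hy, h1⟩
            rw [h'] at this
            exact Finset.notMem_empty y this
        rw [key x (Finset.filter_subset _ _ (hall.symm ▸ hx)), key s hs]
    have hSs : S = {s} := Finset.eq_singleton_iff_unique_mem.2 ⟨hDsub hs, hone⟩
    have h0 := hzero ⟨v, hv⟩
    rw [hall, hSs, Finset.sum_singleton] at h0
    exact c.ctr_ne_one hA s (congrArg (fun a : Additive ↥V => ((Additive.toMul a : ↥V) : G)) h0)
  have hBcard : 2 ^ S.card ≤ Nat.card B := by
    have := Nat.card_le_card_of_injective _ hinj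
    rwa [Nat.card_eq_fintype_card, Fintype.card_coe, Finset.card_powerset] at this
  -- an over-offender on the module
  obtain ⟨s₀, hs₀⟩ := hne
  set S₀ := S.erase s₀
  let f : ↥W →* (↥S₀ → Multiplicative (ZMod 2)) :=
    MonoidHom.mk' (fun w x => Multiplicative.ofAdd (phi (x.1 : G) (w : G))) fun a b => by
      funext x
      show Multiplicative.ofAdd (phi (x.1 : G) ((a * b : ↥W) : G)) = _
      rw [Subgroup.coe_mul, c.phi_mul hA _ (hWV a.2) (hWV b.2), ofAdd_add]
      rfl
  have hker : f.ker.map W.subtype ≤ fx W B := by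
    rintro _ ⟨w, hw, rfl⟩
    refine ⟨w.2, ?_⟩
    have h0 : ∀ x ∈ S, phi (x : G) (w : G) = 0 := by
      have h1 : ∀ x ∈ S₀, phi (x : G) (w : G) = 0 := fun x hx => by
        have := congrFun (MonoidHom.mem_ker.1 hw) ⟨x, hx⟩
        exact ofAdd_eq_one.1 this
      intro x hx
      by_cases hxs : x = s₀
      · subst hxs
        have h2 := hsum w w.2
        rw [← Finset.add_sum_erase S _ hx, Finset.sum_eq_zero h1, add_zero] at h2
        exact h2
      · exact h1 x (Finset.mem_erase.2 ⟨hxs, hx⟩)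
    rw [hB, Subgroup.centralizer_closure]
    refine mem_centralizer_iff.2 ?_
    rintro _ ⟨x, hx, rfl⟩
    exact phi_eq_zero.1 (h0 x hx)
  have hWcard : Nat.card W ≤ Nat.card (fx W B) * 2 ^ S₀.card := by
    rw [Subgroup.card_eq_card_quotient_mul_card_subgroup f.ker, mul_comm]
    refine Nat.mul_le_mul ?_ ?_
    · rw [← card_map_of_injective W.subtype_injective]
      exact Subgroup.card_le_of_le hker
    · rw [Nat.card_congr (QuotientGroup.quotientKerEquivRange f).toEquiv]
      refine (Subgroup.card_le_card_group _).trans (le_of_eq ?_)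
      rw [Nat.card_fun, Nat.card_congr Multiplicative.toAdd, Nat.card_zmod, Nat.card_eq_fintype_card,
        Fintype.card_coe]
  have hex := henvW.exact hBP hBel
  have hBW : B ⊓ centralizer (W : Set G) = ⊥ := le_bot_iff.1
    ((henvW.kernel_le (inf_le_left.trans hBP) hBp.to_inf_left inf_le_right).trans c.core_bot.le)
  rw [hBW, Subgroup.card_bot, one_mul] at hex
  have hk : S.card = S₀.card + 1 := (Finset.card_erase_add_one hs₀).symm
  rw [hk, pow_succ] at hBcard
  have h4 : Nat.card B * Nat.card (fx W B) ≤ Nat.card (fx W B) * 2 ^ S₀.card := hex.trans hWcard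
  have h5 : 2 ^ S₀.card * 2 * Nat.card (fx W B) ≤ 2 ^ S₀.card * Nat.card (fx W B) :=
    (Nat.mul_le_mul_right _ hBcard).trans (h4.trans (mul_comm _ _).le)
  have h6 : 0 < 2 ^ S₀.card * Nat.card (fx W B) := Nat.mul_pos (by positivity) Nat.card_pos
  nlinarith

/-- The orthogonality system of the centres. -/
theorem sys : H78.PermStar.Sys (W := Tv P A → ZMod 2)
    (fun x y => phi (y : G) (c.ctr hA x))
    (fun x => Pi.evalAddMonoidHom (fun _ : Tv P A => ZMod 2) x) := by
  have hindep : ∀ S : Finset (Tv P A), S.Nonempty →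
      (∀ x ∈ S, ∀ y ∈ S, phi (x : G) (c.ctr hA y) = 0) →
      (∑ x ∈ S, (fun y : Tv P A => phi (y : G) (c.ctr hA x))) ≠ 0 := by
    intro S hS horth h0
    obtain ⟨z, hz⟩ := c.indep_sum hA hS horth
    refine hz ?_
    simpa [Finset.sum_apply] using congrFun h0 z
  refine ⟨fun w => funext fun y => ?_, fun x => c.phi_self hA x, fun x y => c.phi_symm hA x y,
    fun x y h => ?_, fun x y h => ?_, hindep⟩
  · exact CharTwo.add_self_eq_zero (w y)
  · obtain ⟨z, -, hz, -⟩ := c.exists_between hA h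
    refine ⟨z, funext fun w => ?_⟩
    show phi (w : G) (c.ctr hA z) = _
    rw [hz, c.phi_mul hA w (c.ctr_V hA x) (c.ctr_V hA y)]
    rfl
  · by_contra hne
    classical
    have hxy : phi (x : G) (c.ctr hA y) = 0 :=
      (congrFun h.symm x : _).trans (c.phi_self hA x)
    refine hindep {x, y} ⟨x, Finset.mem_insert_self _ _⟩ ?_ ?_
    · intro a ha b hb
      simp only [Finset.mem_insert, Finset.mem_singleton] at ha hb
      rcases ha with rfl | rfl <;> rcases hb with rfl | rfl
      · exact c.phi_self hA _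
      · exact hxy
      · rw [c.phi_symm hA]; exact hxy
      · exact c.phi_self hA _
    · rw [Finset.sum_pair hne]
      funext w
      have hw := congrFun h w
      show phi (w : G) (c.ctr hA x) + phi (w : G) (c.ctr hA y) = 0
      rw [show phi (w : G) (c.ctr hA x) = phi (w : G) (c.ctr hA y) from hw]
      exact CharTwo.add_self_eq_zero _

end Ctx

end H78.PMin
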