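import Cfsg.Agent.H78.PMin.SymmComp
import Cfsg.Agent.H80.MP.Basic

/-!
Elementary offenders of a `p`-minimal group lie in the product of the components: the part that
uses only the decomposition into components.
-/

set_option autoImplicit false
set_option linter.unusedSectionVars false
set_option linter.unusedSimpArgs false
set_option linter.style.haveILetI false

open Subgroup
open scoped commutatorElement IsMulCommutative
open H70 (cj)

namespace H78.PMin

variable {G : Type*} [Group G] [Finite G] {p : ℕ} [Fact p.Prime]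

/-- An elementary abelian offender inside `P`. -/
def Off (p : ℕ) (V P A : Subgroup G) : Prop :=
  A ≤ P ∧ Cfsg.IsElementaryAbelian p A ∧ Nat.card V ≤ Nat.card A * Nat.card (fx V A)

/-- The product of the components. -/
abbrev comps (T E : Subgroup G) : Subgroup G := ⨆ t ∈ T, cj t E

/-- The product of the other components. -/
abbrev others (T E : Subgroup G) : Subgroup G :=
  ⨆ t ∈ {t | t ∈ T ∧ cj t E ≠ E}, cj t E

/-- An element whose power with exponent prime to `p` lies in a subgroup, and whose `p`-th power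
is trivial, lies in it. -/
theorem mem_of_pow_mem {X : Subgroup G} {v : G} (hv : v ^ p = 1) {i : ℕ} (hi : ¬ p ∣ i)
    (h : v ^ i ∈ X) : v ∈ X := by
  have h2 : v ∈ zpowers (v ^ i) := by
    have hco : (orderOf v).Coprime i :=
      Nat.Coprime.coprime_dvd_left (orderOf_dvd_of_pow_eq_one hv)
        ((Fact.out : p.Prime).coprime_iff_not_dvd.2 hi)
    obtain ⟨m, hm⟩ := exists_pow_eq_self_of_coprime hco.symm
    exact ⟨m, by simpa using hm⟩
  exact zpowers_le.2 h h2

/-- A maximal subgroup of an elementary abelian group, above a given one. -/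
theorem exists_index_p {A K : Subgroup G} (hA : Cfsg.IsElementaryAbelian p A) (hK : K ≤ A)
    {a : G} (ha : a ∈ A) (haK : a ∉ K) :
    ∃ A₁, K ≤ A₁ ∧ A₁ ≤ A ∧ a ∉ A₁ ∧ Nat.card A = p * Nat.card A₁ := by
  obtain ⟨C, ⟨hKC, hCA, haC⟩, hmax⟩ :=
    H75.exists_max_card (P := fun C : Subgroup G => K ≤ C ∧ C ≤ A ∧ a ∉ C) ⟨K, le_rfl, hK, haK⟩
  have hstep : ∀ z ∈ A, z ∉ C → Nat.card ↥(C ⊔ zpowers z) = p * Nat.card C := by
    intro z hz hzC
    have hzz : zpowers z ≤ A := zpowers_le.2 hz
    have hord : Nat.card (zpowers z) = p := by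
      rw [Nat.card_zpowers]
      exact orderOf_eq_prime (hA.2 z hz) fun h => hzC (h ▸ one_mem C)
    have h0 : C ⊓ zpowers z = ⊥ := by
      rw [Subgroup.eq_bot_iff_forall]
      intro y hy0
      obtain ⟨hyC, hyz⟩ : y ∈ C ∧ y ∈ zpowers z := Subgroup.mem_inf.1 hy0
      by_contra hy
      have h1 := mem_zpowers_of_prime_card (G := zpowers z) (p := p) hord (g := ⟨y, hyz⟩)
        (g' := ⟨z, mem_zpowers z⟩) (fun he => hy (congrArg Subtype.val he))
      obtain ⟨k, hk⟩ := mem_zpowers_iff.1 h1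
      have : y ^ k = z := congrArg Subtype.val hk
      exact hzC (this ▸ zpow_mem hyC k)
    have h1 := H10.card_mul_card_inf (le_normalizer_of_le_elem hA hCA hzz)
    rw [h0, Subgroup.card_bot, mul_one, hord] at h1
    rw [h1, mul_comm]
  refine ⟨C, hKC, hCA, haC, ?_⟩
  have htop : C ⊔ zpowers a = A := by
    refine le_antisymm (sup_le hCA (zpowers_le.2 ha)) fun y hy => ?_
    by_cases hyC : y ∈ C
    · exact mem_sup_left hyC
    have h1 : a ∈ C ⊔ zpowers y := by
      by_contra hno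
      have h2 := hmax _ ⟨hKC.trans le_sup_left, sup_le hCA (zpowers_le.2 hy), hno⟩
      rw [hstep y hy hyC] at h2
      exact absurd h2 (not_le.2 (lt_mul_left Nat.card_pos (Fact.out : p.Prime).one_lt))
    have h3 : C ⊔ zpowers a = C ⊔ zpowers y :=
      Subgroup.eq_of_le_of_card_ge (sup_le le_sup_left (zpowers_le.2 h1))
        (by rw [hstep y hy hyC, hstep a ha haC])
    rw [h3]
    exact mem_sup_right (mem_zpowers y)
  rw [← hstep a ha haC, htop]

namespace Ctx

variable {V P T M A₀ : Subgroup G} (c : Ctx p V P T M A₀)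
include c

theorem exact_of {B : Subgroup G} (hB : B ≤ P) (hel : Cfsg.IsElementaryAbelian p B) :
    Nat.card B * Nat.card (fx V B) ≤ Nat.card V := by
  have h := c.env.exact hB hel
  rwa [show B ⊓ centralizer (V : Set G) = ⊥ from le_bot_iff.1
    ((inf_le_inf_right _ hB).trans c.faith.le), Subgroup.card_bot, one_mul] at h

/-- Many classes of vectors fixed by a subgroup of index `p` make it an offender, and there are
at most `p` of them. -/
theorem count {A A₁ : Subgroup G} (hA : Off p V P A) (hle : A₁ ≤ A)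
    (hidx : Nat.card A = p * Nat.card A₁) {ι : Type} [Finite ι] (f : ι → G)
    (hf : ∀ i, f i ∈ fx V A₁) (hinj : ∀ i j, (f i)⁻¹ * f j ∈ fx V A → i = j) :
    Nat.card ι ≤ p ∧ (p ≤ Nat.card ι → Off p V P A₁) := by
  have hex := c.exact_of (hle.trans hA.1) (H10.elementaryAbelian_of_le hA.2.1 hle)
  have h1 : Nat.card ι * Nat.card (fx V A) ≤ Nat.card (fx V A₁) := by
    rw [← Nat.card_prod]
    refine Nat.card_le_card_of_injective
      (fun q : ι × fx V A => (⟨f q.1 * q.2, mul_mem (hf q.1) (fx_anti hle q.2.2)⟩ : fx V A₁)) ?_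
    rintro ⟨i, u, hu⟩ ⟨j, w, hw⟩ he
    have he' : f i * u = f j * w := congrArg Subtype.val he
    have hij : i = j := hinj i j (by
      rw [show (f i)⁻¹ * f j = u * w⁻¹ by
        rw [← inv_mul_cancel_left (f i) u, he']; group]
      exact mul_mem hu (inv_mem hw))
    subst hij
    have := mul_left_cancel he'
    subst this
    rfl
  have h2 : Nat.card (fx V A₁) ≤ p * Nat.card (fx V A) := by
    refine Nat.le_of_mul_le_mul_left (hex.trans (hA.2.2.trans (le_of_eq ?_)))
      (Nat.card_pos : 0 < Nat.card A₁)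
    rw [hidx]; ring
  refine ⟨Nat.le_of_mul_le_mul_right (h1.trans h2) Nat.card_pos, fun hp' => ?_⟩
  refine ⟨hle.trans hA.1, H10.elementaryAbelian_of_le hA.2.1 hle, hA.2.2.trans ?_⟩
  rw [hidx, mul_comm p, mul_assoc]
  exact Nat.mul_le_mul_left _ ((Nat.mul_le_mul_right _ hp').trans h1)

theorem off_conj {B : Subgroup G} (hB : Off p V P B) {g : G} (hg : g ∈ P) :
    Off p V P (cj g B) := by
  refine ⟨cj_le hg hB.1, cj_elem hB.2.1 g, ?_⟩
  rw [H70.card_cj, fx_card (c.norm_mem hg)]
  exact hB.2.2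

variable {E : Subgroup G} (hC : Comp V P T E)
include hC

theorem comps_le : comps T E ≤ P := iSup₂_le fun _ ht => cj_le (hC.T_le ht) hC.le

theorem le_comps : E ≤ comps T E := by
  refine le_trans ?_ (le_iSup₂ (f := fun t (_ : t ∈ T) => cj t E) 1 (one_mem T))
  rw [H70.cj_one]

theorem comps_norm : P ≤ normalizer ((comps T E : Subgroup G) : Set G) := by
  rw [← hC.gen, sup_le_iff]
  refine ⟨le_normalizer, fun s hs => mem_normalizer_iff_cj.2 (H70.eq_of_cj_le ?_)⟩
  rw [H70.cj, map_le_iff_le_comap]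
  refine iSup₂_le fun t ht => map_le_iff_le_comap.1 ?_
  show cj s (cj t E) ≤ comps T E
  rw [H70.cj_cj]
  exact le_iSup₂ (f := fun t (_ : t ∈ T) => cj t E) (s * t) (mul_mem hs ht)

theorem others_le_centralizer :
    others T E ≤ centralizer (E : Set G) ⊓ centralizer ((brk V E : Subgroup G) : Set G) :=
  iSup₂_le fun t ht => le_inf
    (fun x hx => mem_centralizer_iff.2 fun e he => (hC.comm t ht.1 ht.2 x hx e he).symm)
    (fun x hx => mem_centralizer_iff.2 fun u hu => (hC.fix t ht.1 ht.2 x hx u hu).symm)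

theorem others_le : others T E ≤ P := iSup₂_le fun _ ht => cj_le (hC.T_le ht.1) hC.le

theorem comps_split {x : G} (hx : x ∈ comps T E) : ∃ e ∈ E, ∃ y ∈ others T E, x = e * y := by
  refine H10.exists_mul_of_mem_sup ((Subgroup.le_centralizer_iff.1
    ((c.others_le_centralizer hC).trans inf_le_left)).trans (centralizer_le_normalizer _)) ?_
  refine (iSup₂_le fun t ht => ?_ : comps T E ≤ E ⊔ others T E) hx
  by_cases he : cj t E = E
  · rw [he]; exact le_sup_left
  · exact (le_iSup₂ (f := fun t (_ : t ∈ {t | t ∈ T ∧ cj t E ≠ E}) => cj t E) t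
      ⟨ht, he⟩).trans le_sup_right

theorem eq_one_of_others {e : G} (he : e ∈ E) (ho : e ∈ others T E) : e = 1 := by
  obtain ⟨h1, h2⟩ := c.others_le_centralizer hC ho
  exact hC.inj e he (mem_centralizer_iff.1 h1) fun u hu => (mem_centralizer_iff.1 h2 u hu).symm

theorem split_unique {e e' y y' : G} (he : e ∈ E) (he' : e' ∈ E) (hy : y ∈ others T E)
    (hy' : y' ∈ others T E) (h : e * y = e' * y') : e = e' ∧ y = y' := by
  have h1 : e'⁻¹ * e = y' * y⁻¹ := by
    rw [eq_mul_inv_iff_mul_eq, mul_assoc, h, inv_mul_cancel_left]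
  have h2 := c.eq_one_of_others hC (mul_mem (inv_mem he') he) (h1 ▸ mul_mem hy' (inv_mem hy))
  rw [inv_mul_eq_one] at h2
  subst h2
  exact ⟨rfl, mul_left_cancel h⟩

theorem others_comm {e y : G} (he : e ∈ E) (hy : y ∈ others T E) : e * y = y * e :=
  mem_centralizer_iff.1 (c.others_le_centralizer hC hy).1 e he

/-- Elements of the product of the components normalise each. -/
theorem comps_stab {x : G} (hx : x ∈ comps T E) : cj x E = E := by
  obtain ⟨e, he, y, hy, rfl⟩ := c.comps_split hC hx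
  rw [← H70.cj_cj, show cj y E = E from mem_normalizer_iff_cj.1
    (centralizer_le_normalizer _ (c.others_le_centralizer hC hy).1), H70.cj_of_mem he]

/-- A `p`-subgroup centralising all components is trivial. -/
theorem centralizer_comps {R : Subgroup G} (hR : IsPGroup p R) (hRP : R ≤ P)
    (hRc : R ≤ centralizer ((comps T E : Subgroup G) : Set G)) : R = ⊥ := by
  obtain ⟨g, hg, hle⟩ := exists_conj_into c.env.pm.sylow hRP hR
  set N := comps T E
  have hK : T ⊓ centralizer (N : Set G) = ⊥ := by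
    refine le_bot_iff.1 ((H75.le_pCoreOf (inf_le_left.trans c.env.pm.T_le) ?_
      c.env.pm.pgroup.to_inf_left).trans c.core_bot.le)
    conv_lhs => rw [← hC.gen]
    refine sup_le ?_ ?_
    · exact (Subgroup.le_centralizer_iff.1 inf_le_right).trans (centralizer_le_normalizer _)
    · exact (le_inf le_normalizer ((hC.T_le.trans (c.comps_norm hC)).trans
        (H75.normalizer_le_normalizer_centralizer _))).trans
        (H75.normalizer_inf_le_normalizer_inf _ _)
  have h1 : cj g⁻¹ R ≤ T ⊓ centralizer (N : Set G) := by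
    refine le_inf ((H70.cj_mono _ hle).trans (cj_cancel' g T).le) ((H70.cj_mono _ hRc).trans ?_)
    rw [cj_centralizer, mem_normalizer_iff_cj.1 (c.comps_norm hC (inv_mem hg))]
  rw [hK, le_bot_iff] at h1
  rw [← cj_cancel g R, h1, H70.cj, Subgroup.map_bot]

theorem brk_V {t : G} (ht : t ∈ T) : brk V (cj t E) ≤ V := brk_le fun d hd v hv =>
  mul_mem (c.conj_V (cj_le (hC.T_le ht) hC.le hd) hv) (inv_mem hv)

theorem brk_E_V : brk V E ≤ V := by
  have := c.brk_V hC (one_mem T)
  rwa [H70.cj_one] at this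

theorem brk_other {t : G} (ht : t ∈ T) (hne : cj t E ≠ E) {u : G} (hu : u ∈ brk V E) :
    t * u * t⁻¹ ∈ fx V E := by
  have hu' : t * u * t⁻¹ ∈ brk V (cj t E) :=
    (hC.cj_brk_mem ht).2 (by simpa [mul_assoc] using hu)
  refine ⟨c.brk_V hC ht hu', mem_centralizer_iff.2 fun e he => ?_⟩
  exact hC.fix' (one_mem _) ht (by rw [H70.cj_one]; exact hne.symm) e (by rwa [H70.cj_one]) _ hu'

omit c hC in
/-- Conjugation of a component's fixed vectors by an element of its stabiliser. -/
theorem fx_stab {V E : Subgroup G} {g v : G} (hg : g ∈ normalizer (V : Set G)) (hgE : cj g E = E)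
    (hv : v ∈ fx V E) : g * v * g⁻¹ ∈ fx V E := by
  rw [show fx V E = cj g (fx V E) by rw [cj_fx hg, hgE], H70.mem_cj]
  simpa [mul_assoc] using hv

/-- Offenders with all proper offending subgroups in the components normalise the components. -/
theorem off_stab {A : Subgroup G} (hA : Off p V P A) (hAT : A ≤ T)
    (ih : ∀ B ≤ A, B ≠ A → Off p V P B → B ≤ comps T E)
    (hfix : ∀ K ≤ T, (∀ k ∈ K, cj k E = E) → ∃ w ∈ brk V E, w ∈ fx V K ∧ w ∉ fx V E)
    (hrich : p = 2 → ∀ K ≤ T, K ≤ comps T E → Off p V P K →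
      (∃ a ∈ T, cj a E ≠ E ∧ ∀ k ∈ K, k * a = a * k) →
      ∃ w₁ w₂, (w₁ ∈ brk V E ∧ w₁ ∈ fx V K ∧ w₁ ∉ fx V E) ∧
        (w₂ ∈ brk V E ∧ w₂ ∈ fx V K ∧ w₂ ∉ fx V E) ∧ w₁⁻¹ * w₂ ∉ fx V E) :
    ∀ a ∈ A, cj a E = E := by
  classical
  by_contra hno
  push Not at hno
  obtain ⟨a, ha, haE⟩ := hno
  haveI : IsMulCommutative ↥V := c.env.elem.1
  have hVel := c.env.elem
  set K := A ⊓ normalizer (E : Set G) with hKdef
  have haK : a ∉ K := fun h => haE (mem_normalizer_iff_cj.1 h.2)
  obtain ⟨A₁, hKA₁, hA₁A, haA₁, hidx⟩ := exists_index_p hA.2.1 inf_le_left ha haK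
  have hA₁T := hA₁A.trans hAT
  obtain ⟨w, hw, hwK, hwE⟩ := hfix K (inf_le_left.trans hAT) fun k hk => mem_normalizer_iff_cj.1 hk.2
  have hwV := c.brk_E_V hC hw
  -- the product of the orbit of `w`
  haveI := Fintype.ofFinite ↥A₁
  let cV : ↥A₁ → ↥V →* ↥V := fun t =>
    MonoidHom.mk' (fun v => ⟨(t : G) * v * (t : G)⁻¹, c.conj_V (hC.T_le (hA₁T t.2)) v.2⟩)
      fun u v => Subtype.ext (by simp [mul_assoc])
  let O : Finset ↥V := Finset.univ.image fun t : ↥A₁ => cV t ⟨w, hwV⟩
  set n : G := (((∏ o ∈ O, o) : ↥V) : G) with hn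
  have hnfx : n ∈ fx V A₁ := by
    refine ⟨SetLike.coe_mem _, mem_centralizer_iff.2 fun s hs => ?_⟩
    have hinj : Function.Injective (cV ⟨s, hs⟩) := fun u v h => Subtype.ext (by
      have := congrArg Subtype.val h
      simpa [cV] using this)
    have himg : O.image (cV ⟨s, hs⟩) = O := by
      refine Finset.eq_of_subset_of_card_le ?_ (Finset.card_image_of_injective _ hinj).ge
      intro o ho
      obtain ⟨o', ho', rfl⟩ := Finset.mem_image.1 ho
      obtain ⟨t, -, rfl⟩ := Finset.mem_image.1 ho'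
      exact Finset.mem_image.2 ⟨⟨s, hs⟩ * t, Finset.mem_univ _,
        Subtype.ext (by simp [cV, mul_assoc])⟩
    have h1 : cV ⟨s, hs⟩ (∏ o ∈ O, o) = ∏ o ∈ O, o := by
      rw [map_prod]
      conv_rhs => rw [← himg, Finset.prod_image fun u _ v _ h => hinj h]
    exact mul_inv_eq_iff_eq_mul.1 (show s * _ * s⁻¹ = _ from congrArg Subtype.val h1)
  have hwO : (⟨w, hwV⟩ : ↥V) ∈ O :=
    Finset.mem_image.2 ⟨1, Finset.mem_univ _, Subtype.ext (by simp [cV])⟩
  let U : Subgroup ↥V := (fx V E).subgroupOf V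
  have hrest : (∏ o ∈ O.erase ⟨w, hwV⟩, o) ∈ U := by
    refine Subgroup.prod_mem _ fun o ho => ?_
    obtain ⟨hne, ho⟩ := Finset.mem_erase.1 ho
    obtain ⟨t, -, rfl⟩ := Finset.mem_image.1 ho
    refine mem_subgroupOf.2 (c.brk_other hC (hA₁T t.2) (fun he => hne (Subtype.ext ?_)) hw)
    show (t : G) * w * (t : G)⁻¹ = w
    exact fx_conj hwK ⟨hA₁A t.2, mem_normalizer_iff_cj.2 he⟩
  have hnw : w⁻¹ * n ∈ fx V E := by
    have h := mem_subgroupOf.1 hrest
    rw [hn, ← Finset.mul_prod_erase _ _ hwO]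
    show w⁻¹ * (w * _) ∈ _
    rwa [inv_mul_cancel_left]
  have hnE : n ∉ fx V E := fun h => hwE (by
    have := mul_mem h (inv_mem hnw)
    rwa [mul_inv_rev, inv_inv, mul_inv_cancel_left] at this)
  -- its images under elements outside `A₁`
  have hout : ∀ s ∈ A, s ∉ A₁ → s * n * s⁻¹ ∈ fx V E := by
    intro s hs hsA₁
    have hconj : ∀ o ∈ O, s * (o : G) * s⁻¹ ∈ fx V E := by
      intro o ho
      obtain ⟨t, -, rfl⟩ := Finset.mem_image.1 ho
      show s * ((t : G) * w * (t : G)⁻¹) * s⁻¹ ∈ _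
      rw [show s * ((t : G) * w * (t : G)⁻¹) * s⁻¹ = (s * t) * w * (s * (t : G))⁻¹ by group]
      refine c.brk_other hC (mul_mem (hAT hs) (hA₁T t.2)) (fun he => hsA₁ ?_) hw
      have h1 : s * (t : G) ∈ A₁ := hKA₁ ⟨mul_mem hs (hA₁A t.2), mem_normalizer_iff_cj.2 he⟩
      exact (mul_mem_cancel_right t.2).1 h1
    let cs : ↥V →* ↥V :=
      MonoidHom.mk' (fun v => ⟨s * v * s⁻¹, c.conj_V (hA.1 hs) v.2⟩)
        fun u v => Subtype.ext (by simp [mul_assoc])
    have h : cs (∏ o ∈ O, o) ∈ U := by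
      rw [map_prod]
      exact Subgroup.prod_mem _ fun o ho => mem_subgroupOf.2 (hconj o ho)
    exact mem_subgroupOf.1 h
  have hnpow : ∀ {i : ℕ}, ¬ p ∣ i → n ^ i ∉ fx V E := fun hi h =>
    hnE (mem_of_pow_mem (hVel.2 _ hnfx.1) hi h)
  -- a fixed difference of two powers
  have hdiff : ∀ i j : Fin p, (n ^ (i : ℕ))⁻¹ * n ^ (j : ℕ) ∈ fx V A → i = j := by
    intro i j h
    rcases lt_trichotomy (i : ℕ) j with hlt | heq | hgt
    · exfalso
      obtain ⟨d, hd⟩ := Nat.exists_eq_add_of_le hlt.le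
      rw [hd, pow_add, inv_mul_cancel_left] at h
      have h1 : a * n ^ d * a⁻¹ ∈ fx V E := by rw [← conj_pow]; exact pow_mem (hout a ha haA₁) d
      rw [fx_conj h ha] at h1
      refine hnpow (Nat.not_dvd_of_pos_of_lt (by omega) (by omega)) h1
    · exact Fin.ext heq
    · exfalso
      obtain ⟨d, hd⟩ := Nat.exists_eq_add_of_le hgt.le
      rw [hd, pow_add, mul_inv_rev, inv_mul_cancel_right] at h
      have h' := inv_mem h
      rw [inv_inv] at h'
      have h1 : a * n ^ d * a⁻¹ ∈ fx V E := by rw [← conj_pow]; exact pow_mem (hout a ha haA₁) d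
      rw [fx_conj h' ha] at h1
      refine hnpow (Nat.not_dvd_of_pos_of_lt (by omega) (by omega)) h1
  obtain ⟨-, hoff⟩ := c.count hA hA₁A hidx (fun i : Fin p => n ^ (i : ℕ)) (fun i => pow_mem hnfx _)
    hdiff
  have hA₁off := hoff (by simp)
  by_cases hp2 : p = 2
  · have hA₁N := ih A₁ hA₁A (fun h => haA₁ (h ▸ ha)) hA₁off
    obtain ⟨w₁, w₂, ⟨hw1, hw1K, hw1E⟩, ⟨hw2, hw2K, hw2E⟩, hw12⟩ := hrich hp2 A₁ hA₁T hA₁N hA₁off
      ⟨a, hAT ha, haE, fun k hk => H10.comm_of_elem hA.2.1 (hA₁A hk) ha⟩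
    have hsep : ∀ u ∈ brk V E, u ∈ fx V A → u ∈ fx V E := by
      intro u hu huA
      have := c.brk_other hC (hAT ha) haE hu
      rwa [fx_conj huA ha] at this
    let f : Option Bool → G := fun o => o.elim 1 fun b => if b then w₁ else w₂
    have hf : ∀ o, f o ∈ fx V A₁ := by
      rintro (_ | _ | _) <;> simp [f, one_mem, hw1K, hw2K]
    have hbr : ∀ o, f o ∈ brk V E := by
      rintro (_ | _ | _) <;> simp [f, one_mem, hw1, hw2]
    obtain ⟨hle, -⟩ := c.count hA hA₁A hidx f hf fun o o' h => by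
      have h' := hsep _ (mul_mem (inv_mem (hbr o)) (hbr o')) h
      have h'' := inv_mem h'
      rw [mul_inv_rev, inv_inv] at h''
      rcases o with _ | _ | _ <;> rcases o' with _ | _ | _ <;>
        simp [f, inv_mem_iff] at h' h'' ⊢ <;> first
          | exact hw1E h' | exact hw2E h' | exact hw1E h'' | exact hw2E h''
          | exact hw12 h' | exact hw12 h''
    simp [Finite.card_option] at hle
    omega
  -- `p` odd: one more class
  have hp3 : 3 ≤ p := by have := (Fact.out : p.Prime).two_le; omega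
  have ha2 : a * a ∉ A₁ := by
    intro h
    refine haA₁ (mem_of_pow_mem (X := A₁) (hA.2.1.2 a ha) (i := 2) ?_ (by rwa [pow_two]))
    exact Nat.not_dvd_of_pos_of_lt (by omega) (by omega)
  set m := a * n * a⁻¹ with hm
  have hmfx : m ∈ fx V A₁ := by
    have hmm : a ∈ normalizer (A₁ : Set G) := centralizer_le_normalizer _
      (mem_centralizer_iff.2 fun k hk => H10.comm_of_elem hA.2.1 (hA₁A hk) ha)
    rw [show fx V A₁ = cj a (fx V A₁) by
      rw [cj_fx (c.norm_mem (hA.1 ha)), mem_normalizer_iff_cj.1 hmm], H70.mem_cj]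
    simpa [hm, mul_assoc] using hnfx
  have hmn : ∀ i : Fin p, m⁻¹ * n ^ (i : ℕ) ∉ fx V A := by
    intro i h
    have h1 := fx_conj h ha
    -- compare in the component
    have hm1 : m ∈ fx V E := hout a ha haA₁
    have hm2 : a * m * a⁻¹ ∈ fx V E := by
      have := hout (a * a) (mul_mem ha ha) ha2
      rwa [hm, show a * (a * n * a⁻¹) * a⁻¹ = (a * a) * n * (a * a)⁻¹ by group]
    have hin : a * n ^ (i : ℕ) * a⁻¹ ∈ fx V E := by rw [← conj_pow]; exact pow_mem hm1 _
    have h3 : n ^ (i : ℕ) ∈ fx V E := by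
      have := mul_mem hm1 (mul_mem (inv_mem hm2) hin)
      rwa [show (a * m * a⁻¹)⁻¹ * (a * n ^ (i : ℕ) * a⁻¹) = a * (m⁻¹ * n ^ (i : ℕ)) * a⁻¹ by group,
        h1, mul_inv_cancel_left] at this
    have hi0 : (i : ℕ) = 0 := by
      by_contra h0
      exact hnpow (Nat.not_dvd_of_pos_of_lt (Nat.pos_of_ne_zero h0) i.2) h3
    rw [hi0, pow_zero, mul_one] at h1 h
    refine hnE ?_
    have h4 : n = m := by
      have h5 : a * m * a⁻¹ = m := fx_conj (by simpa using inv_mem h) ha
      calc n = a⁻¹ * m * a := by rw [hm]; group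
        _ = a⁻¹ * (a * m * a⁻¹) * a := by rw [h5]
        _ = m := by group
    rw [h4]; exact hm1
  obtain ⟨hle, -⟩ := c.count hA hA₁A hidx (fun o : Option (Fin p) => o.elim m fun i => n ^ (i : ℕ))
    (by rintro (_ | i); exacts [hmfx, pow_mem hnfx _])
    (by
      rintro (_ | i) (_ | j) h
      · rfl
      · exact absurd h (hmn j)
      · exact absurd (by simpa using inv_mem h) (hmn i)
      · rw [hdiff i j h])
  simp [Finite.card_option] at hle

/-- An offender inducing elements of the components lies in their product. -/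
theorem off_le_of_local {A : Subgroup G} (hA : Off p V P A) (hAT : A ≤ T)
    (hloc : ∀ t ∈ T, ∀ a ∈ A, ∃ e ∈ cj t E, e ^ p = 1 ∧ a * e = e * a ∧
      a * e⁻¹ ∈ centralizer ((cj t E : Subgroup G) : Set G)) :
    A ≤ comps T E := by
  classical
  haveI := Fintype.ofFinite G
  intro a ha
  suffices H : ∀ s : Finset G, (∀ t ∈ s, t ∈ T) → ∃ n ∈ ⨆ t ∈ s, cj t E,
      n ^ p = 1 ∧ a * n = n * a ∧ ∀ t ∈ s, a * n⁻¹ ∈ centralizer ((cj t E : Subgroup G) : Set G) by
    obtain ⟨n, hn, hnp, hna, hns⟩ := H (Finset.univ.filter (· ∈ T))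
      fun t ht => (Finset.mem_filter.1 ht).2
    have hnN : n ∈ comps T E := (iSup₂_le fun t ht =>
      le_iSup₂ (f := fun t (_ : t ∈ T) => cj t E) t (Finset.mem_filter.1 ht).2 :
        (⨆ t ∈ Finset.univ.filter (· ∈ T), cj t E) ≤ comps T E) hn
    set y := a * n⁻¹
    have hyP : y ∈ P := mul_mem (hA.1 ha) (inv_mem (c.comps_le hC hnN))
    have hyp : y ^ p = 1 := by
      rw [(show Commute a n⁻¹ from (show Commute a n from hna).inv_right).mul_pow,
        hA.2.1.2 a ha, inv_pow, hnp, inv_one, mul_one]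
    have hy : y ∈ centralizer ((comps T E : Subgroup G) : Set G) := by
      refine mem_centralizer_iff.2 fun g hg => ?_
      have hle : comps T E ≤ centralizer ({y} : Set G) := iSup₂_le fun t ht g hg =>
        mem_centralizer_singleton_iff.2 (mem_centralizer_iff.1
          (hns t (Finset.mem_filter.2 ⟨Finset.mem_univ t, ht⟩)) g hg)
      exact mem_centralizer_singleton_iff.1 (hle hg)
    have hR : IsPGroup p (zpowers y) := by
      rintro ⟨_, k, rfl⟩
      refine ⟨1, Subtype.ext ?_⟩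
      show (y ^ k) ^ p ^ 1 = 1
      rw [pow_one, ← zpow_natCast, ← zpow_mul, mul_comm, zpow_mul, zpow_natCast, hyp, one_zpow]
    have h0 := c.centralizer_comps hC hR (zpowers_le.2 hyP) (zpowers_le.2 hy)
    rw [zpowers_eq_bot, mul_inv_eq_one] at h0
    rwa [h0]
  intro s
  induction s using Finset.induction with
  | empty =>
    exact fun _ => ⟨1, one_mem _, one_pow _, by simp, fun t ht => absurd ht (Finset.notMem_empty t)⟩
  | @insert b s hbs ih =>
    intro hs
    have hb := hs b (Finset.mem_insert_self b s)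
    obtain ⟨n, hn, hnp, hna, hns⟩ := ih fun t ht => hs t (Finset.mem_insert_of_mem ht)
    have hmono : (⨆ t ∈ s, cj t E) ≤ ⨆ t ∈ insert b s, cj t E :=
      iSup₂_le fun t ht => le_iSup₂ (f := fun t (_ : t ∈ insert b s) => cj t E) t
        (Finset.mem_insert_of_mem ht)
    by_cases hex : ∃ t ∈ s, cj t E = cj b E
    · obtain ⟨t, ht, he⟩ := hex
      refine ⟨n, hmono hn, hnp, hna, fun u hu => ?_⟩
      rcases Finset.mem_insert.1 hu with rfl | hu
      · rw [← he]; exact hns t ht
      · exact hns u hu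
    push Not at hex
    obtain ⟨e, he, hep, hea, hec⟩ := hloc b hb a ha
    have hnb : n ∈ centralizer ((cj b E : Subgroup G) : Set G) :=
      (iSup₂_le fun t ht x hx => mem_centralizer_iff.2 fun g hg =>
        (hC.comm' (hs t (Finset.mem_insert_of_mem ht)) hb (hex t ht) x hx g hg).symm :
        (⨆ t ∈ s, cj t E) ≤ centralizer ((cj b E : Subgroup G) : Set G)) hn
    have hne : n * e = e * n := (mem_centralizer_iff.1 hnb e he).symm
    refine ⟨n * e, mul_mem (hmono hn) (le_iSup₂ (f := fun t (_ : t ∈ insert b s) => cj t E) b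
      (Finset.mem_insert_self b s) he), ?_, ?_, fun u hu => ?_⟩
    · rw [(show Commute n e from hne).mul_pow, hnp, hep, one_mul]
    · rw [← mul_assoc, hna, mul_assoc, hea, mul_assoc]
    rcases Finset.mem_insert.1 hu with rfl | hu
    · rw [mul_inv_rev, ← mul_assoc]
      exact mul_mem hec (inv_mem hnb)
    · have hec' : e ∈ centralizer ((cj u E : Subgroup G) : Set G) := mem_centralizer_iff.2 fun g hg =>
        hC.comm' (hs u (Finset.mem_insert_of_mem hu)) hb (hex u hu) g hg e he
      rw [show a * (n * e)⁻¹ = a * n⁻¹ * e⁻¹ by rw [hne]; group]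
      exact mul_mem (hns u hu) (inv_mem hec')

end Ctx

end H78.PMin
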