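import Cfsg.Agent.H78.PMin.OffBasic

/-!
Elementary offenders lie in the product of the special linear components.
-/

set_option autoImplicit false
set_option linter.unusedSectionVars false
set_option linter.unusedSimpArgs false
set_option linter.style.haveILetI false

open Subgroup
open scoped commutatorElement MatrixGroups
open H70 (cj)

namespace H78.PMin

variable {G : Type*} [Group G] [Finite G] {p : ℕ} [Fact p.Prime]

theorem charP_of_card_pow {F : Type} [Field F] [Fintype F] {k : ℕ}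
    (h : Fintype.card F = p ^ k) : CharP F p := charP_of_card_eq_prime_pow h

/-- An element with a `p`-power equal to one is one, in characteristic `p`. -/
theorem field_eq_one {F : Type} [Field F] [CharP F p] {r : F} {k : ℕ} (h : r ^ p ^ k = 1) : r = 1 := by
  have h1 : (r - 1) ^ p ^ k = 0 := by rw [sub_pow_char_pow, h, one_pow, sub_self]
  exact sub_eq_zero.1 (eq_zero_of_pow_eq_zero h1)

/-- The automorphism group of a finite field is cyclic. -/
theorem ringAut_cyclic {F : Type} [Field F] [Fintype F] {k : ℕ} (h : Fintype.card F = p ^ k) :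
    IsCyclic (F ≃+* F) := by
  haveI : CharP F p := charP_of_card_eq_prime_pow h
  letI : Algebra (ZMod p) F := ZMod.algebra F p
  let e : (F ≃ₐ[ZMod p] F) ≃* (F ≃+* F) :=
    { toFun := fun σ => σ.toRingEquiv
      invFun := fun σ => AlgEquiv.ofRingEquiv (f := σ) (fun x => by
        exact DFunLike.congr_fun (RingHom.ext_zmod (σ.toRingHom.comp (algebraMap (ZMod p) F))
          (algebraMap (ZMod p) F)) x)
      left_inv := fun σ => by ext; rfl
      right_inv := fun σ => by ext; rfl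
      map_mul' := fun σ τ => by ext; rfl }
  exact isCyclic_of_surjective e.toMonoidHom e.surjective

namespace Block

variable {V E D : Subgroup G} {F : Type} [Field F] (b : Block V E D F)
include b

/-- A vector with given second coordinate. -/
noncomputable def vy (y : F) : G := (b.surj ![0, y]).choose

theorem vy_mem (y : F) : b.vy y ∈ V := (b.surj ![0, y]).choose_spec.1

theorem vy_spec (y : F) : b.ψ (b.vy y) = ![0, y] := (b.surj ![0, y]).choose_spec.2

/-- The effect of `g` on the root group, read in the module. -/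
noncomputable def tau (g : G) (s : F) : F := b.ψ ⁅g * (b.root s : G) * g⁻¹, b.vy 1⁆ 0

/-- The effect of `g` on the second coordinate. -/
noncomputable def mu (g : G) (y : F) : F := b.ψ (g * b.vy y * g⁻¹) 1

theorem psi_comm_eq {a : G} (ha : a ∈ D) {v : G} (hv : v ∈ V) :
    b.ψ ⁅a, v⁆ = ![b.par ha * b.ψ v 1, 0] := b.comm_root ha hv

theorem root_zero : (b.root 0 : G) = 1 := by
  show ((b.ρ.symm (H98.uu 0) : ↥E) : G) = 1
  rw [H98.uu_zero, _root_.map_one]; rfl

theorem root_add (s t : F) : (b.root (s + t) : G) = b.root s * b.root t := by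
  show ((b.ρ.symm (H98.uu (s + t)) : ↥E) : G) =
    ((b.ρ.symm (H98.uu s) : ↥E) : G) * ((b.ρ.symm (H98.uu t) : ↥E) : G)
  rw [H98.uu_add, _root_.map_mul]; rfl

theorem root_inj {s t : F} (h : (b.root s : G) = b.root t) : s = t := by
  have h1 := congrArg b.ρ (Subtype.ext h : b.root s = b.root t)
  rw [b.root_spec, b.root_spec] at h1
  have h2 := congrArg (fun M : SL(2, F) => (M : Matrix (Fin 2) (Fin 2) F) 0 1) h1
  simpa [H98.coe_uu] using h2

theorem eq_root {a : G} (ha : a ∈ D) : a = (b.root (b.par ha) : G) := by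
  have h1 : b.ρ ⟨a, b.le ha⟩ = b.ρ (b.root (b.par ha)) := by rw [b.par_spec ha, b.root_spec]
  exact congrArg Subtype.val (b.ρ.injective h1)

theorem par_root (s : F) : b.par (b.root_mem s) = s :=
  b.root_inj (b.eq_root (b.root_mem s)).symm

end Block

namespace Ctx

variable {V P T M A₀ : Subgroup G} (c : Ctx p V P T M A₀) {E D : Subgroup G} {F : Type} [Field F]
  (b : Block V E D F) (hC : Comp V P T E) (hD : Mem P A₀ D) (hDT : D ≤ T)
include c b hC hD hDT

theorem block_stab {t : G} (ht : t ∈ T) (htE : cj t E = E) : cj t D = D := by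
  have htP := hC.T_le ht
  set D' := cj t D
  have hD'm := c.cj_mem hD htP
  have hcomm := c.comm_of_pgroup hD hD'm c.env.pm.pgroup hDT (cj_le ht hDT)
  refine H70.eq_of_cj_le fun x hx => ?_
  have hxE : x ∈ E := htE ▸ H70.cj_mono _ b.le hx
  obtain ⟨v, hv, hve⟩ := b.surj ![1, 0]
  set g : ↥E := ⟨x, hxE⟩
  set N := (b.ρ g : Matrix (Fin 2) (Fin 2) F) with hN
  have hrc : g * b.root 1 = b.root 1 * g := Subtype.ext (hcomm _ (b.root_mem 1) x hx).symm
  have hm := congrArg (fun y => (b.ρ y : Matrix (Fin 2) (Fin 2) F)) hrc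
  simp only [_root_.map_mul, b.root_spec, Matrix.SpecialLinearGroup.coe_mul, H98.coe_uu] at hm
  have e10 := congrFun (congrFun hm 1) 1
  have e00 := congrFun (congrFun hm 0) 1
  simp [Matrix.mul_apply, Fin.sum_univ_two] at e10 e00
  have h10 : N 1 0 = 0 := e10
  have h11 : N 1 1 = N 0 0 := by linear_combination -e00
  set u := ⁅x, v⁆ with hu
  have huV : u ∈ V := (c.quad hD'm x hx v hv).1
  have hψu : b.ψ u = ![N 0 0 - 1, 0] := by
    rw [hu, show b.ψ ⁅x, v⁆ = _ from b.map_comm g hv, hve]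
    funext i
    fin_cases i <;> simp [Matrix.mulVec, dotProduct, Fin.sum_univ_two, ← hN, h10]
  have hfix := b.equiv g u huV
  rw [fx_conj (c.quad hD'm x hx v hv) hx, hψu] at hfix
  have h00 := congrFun hfix 0
  simp [Matrix.mulVec, dotProduct, Fin.sum_univ_two, ← hN] at h00
  have ha : N 0 0 = 1 := by
    have : (N 0 0 - 1) * (N 0 0 - 1) = 0 := by linear_combination -h00
    exact sub_eq_zero.1 (mul_self_eq_zero.1 this)
  refine (b.upper g).2 ⟨N 0 1, Subtype.ext ?_⟩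
  ext i j
  fin_cases i <;> fin_cases j <;> simp [H98.coe_uu, ← hN, h10, h11, ha]

theorem others_fix_D {y : G} (hy : y ∈ others T E) {d : G} (hd : d ∈ D) : d * y = y * d :=
  c.others_comm hC (b.le hd) hy

/-- A `p`-element of the product inside `T` projects into the root group. -/
theorem proj [Fintype F] (hq : Fintype.card F = Nat.card A₀) {x : G} (hxT : x ∈ T)
    (hx : x ∈ comps T E) : ∃ e ∈ D, ∃ y ∈ others T E, x = e * y := by
  obtain ⟨k, hk⟩ := c.mem.pgroup.exists_card_eq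
  haveI : CharP F p := charP_of_card_pow (hq.trans hk)
  obtain ⟨e, he, y, hy, rfl⟩ := c.comps_split hC hx
  refine ⟨e, ?_, y, hy, rfl⟩
  have hey := c.others_comm hC he hy
  obtain ⟨m, hm⟩ := c.env.pm.pgroup ⟨_, hxT⟩
  have hm' : (e * y) ^ p ^ m = 1 := congrArg Subtype.val hm
  rw [(show Commute e y from hey).mul_pow] at hm'
  have hem : e ^ p ^ m = 1 := (c.split_unique hC (pow_mem he _) (one_mem _) (pow_mem hy _)
    (one_mem _) (by rw [hm', one_mul])).1
  set g : ↥E := ⟨e, he⟩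
  set N := (b.ρ g : Matrix (Fin 2) (Fin 2) F) with hN
  -- `e` normalises the root group
  have hr : e * (b.root 1 : G) * e⁻¹ ∈ D := by
    have h1 := c.block_stab b hC hD hDT hxT (c.comps_stab hC hx)
    refine h1.le (H70.mem_cj.2 ?_)
    have h2 : (e * y)⁻¹ * (e * (b.root 1 : G) * e⁻¹) * (e * y) = b.root 1 := by
      calc (e * y)⁻¹ * (e * (b.root 1 : G) * e⁻¹) * (e * y) = y⁻¹ * ((b.root 1 : G) * y) := by group
        _ = y⁻¹ * (y * (b.root 1 : G)) := by rw [c.others_fix_D b hC hD hDT hy (b.root_mem 1)]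
        _ = _ := by group
    rw [h2]
    exact b.root_mem 1
  obtain ⟨s, hs⟩ := (b.upper (g * b.root 1 * g⁻¹)).1 hr
  have h1 : b.ρ g * b.ρ (b.root 1) = H98.uu s * b.ρ g := by
    rw [← hs, _root_.map_mul, _root_.map_mul, _root_.map_inv, inv_mul_cancel_right]
  rw [b.root_spec] at h1
  have h2 := congrArg (fun M : SL(2, F) => (M : Matrix (Fin 2) (Fin 2) F) 1 1) h1
  simp [H98.coe_uu, Matrix.mul_apply, Fin.sum_univ_two, ← hN] at h2
  have h10 : N 1 0 = 0 := h2
  -- the diagonal is trivial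
  have hpow : ∀ i : ℕ, ((N ^ i) 1 0 = 0 ∧ (N ^ i) 0 0 = N 0 0 ^ i) := by
    intro i
    induction i with
    | zero => simp
    | succ i ih =>
      rw [pow_succ]
      simp [Matrix.mul_apply, Fin.sum_univ_two, ih.1, ih.2, h10, pow_succ]
  have hN1 : N ^ p ^ m = 1 := by
    have hg1 : g ^ p ^ m = 1 := Subtype.ext hem
    have := congrArg (fun z => (b.ρ z : Matrix (Fin 2) (Fin 2) F)) hg1
    simpa [hN] using this
  have h00 : N 0 0 = 1 := field_eq_one (p := p) (k := m) (by rw [← (hpow _).2, hN1]; simp)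
  have hdet : N 0 0 * N 1 1 - N 0 1 * N 1 0 = 1 := by
    rw [← Matrix.det_fin_two]; exact (b.ρ g).2
  rw [h00, h10, one_mul, mul_zero, sub_zero] at hdet
  refine (b.upper g).2 ⟨N 0 1, Subtype.ext ?_⟩
  ext i j
  fin_cases i <;> fin_cases j <;> simp [H98.coe_uu, ← hN, h10, h00, hdet]

theorem fixed_comm_fix {d v k : G} (hd : d ∈ D) (hv : v ∈ V) (hk : k ∈ P)
    (hkd : k * d = d * k) (hkv : ⁅k, v⁆ ∈ fx V D) : k * ⁅d, v⁆ * k⁻¹ = ⁅d, v⁆ := by
  have hdP := hC.le (b.le hd)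
  calc k * ⁅d, v⁆ * k⁻¹ = ⁅k * d * k⁻¹, ⁅k, v⁆ * v⁆ := by simp only [commutatorElement_def]; group
    _ = ⁅d, ⁅k, v⁆ * v⁆ := by rw [hkd, mul_inv_cancel_right]
    _ = _ := by rw [comm_mul c.env.elem (c.norm_mem hdP) hkv.1 hv,
        commutatorElement_eq_one_iff_mul_comm.2 (fx_comm hkv hd), one_mul]

theorem fix_big [Fintype F] {K : Subgroup G} (hKT : K ≤ T) (hK : ∀ k ∈ K, cj k E = E) :
    ∃ w ∈ brk V E, w ∈ fx V K ∧ w ∉ fx V E := by
  have hKP := hKT.trans hC.T_le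
  have hKD : K ≤ normalizer (D : Set G) := fun k hk =>
    mem_normalizer_iff_cj.2 (c.block_stab b hC hD hDT (hKT hk) (hK k hk))
  have hKX : K ≤ normalizer ((fx V D : Subgroup G) : Set G) := fun k hk => c.fx_norm (hKP hk) (hKD hk)
  have hKp := c.env.pm.pgroup.to_le hKT
  have hne : fx V D ≠ V := by
    intro h
    have h1 := c.card_fx hD
    rw [h] at h1
    exact c.mem.ne (Subgroup.card_eq_one.1 ((Nat.mul_eq_right Nat.card_pos.ne').1 h1))
  obtain ⟨v, hv, hvD, hvK⟩ :=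
    H80.MP.exists_fixed_coset c.env.elem hKp (hKP.trans c.env.norm) hKX inf_le_left hne
  obtain ⟨d, hd, hd1, hdK⟩ :=
    H80.MP.exists_fixed_elem (c.minOff hD).elem hKp hKD (c.minOff hD).ne
  have hdP := hC.le (b.le hd)
  refine ⟨⁅d, v⁆, mem_brk (b.le hd) hv, Subgroup.mem_inf.2 ⟨?_, mem_centralizer_iff.2 fun k hk => ?_⟩,
    fun h => hvD ?_⟩
  · exact mul_mem (c.conj_V hdP hv) (inv_mem hv)
  · exact mul_inv_eq_iff_eq_mul.1
      (c.fixed_comm_fix b hC hD hDT hd hv (hKP hk) (hdK k hk) (hvK k hk))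
  · exact (b.mem_fx_iff (c.quad hD) hv).2 (b.snd_zero_of_commute hd hd1 hv h)

theorem rich_big [Fintype F] (hq : Fintype.card F = Nat.card A₀) (h2 : 2 < Nat.card A₀)
    {K : Subgroup G} (hKT : K ≤ T) (hKN : K ≤ comps T E) :
    ∃ w₁ w₂, (w₁ ∈ brk V E ∧ w₁ ∈ fx V K ∧ w₁ ∉ fx V E) ∧
      (w₂ ∈ brk V E ∧ w₂ ∈ fx V K ∧ w₂ ∉ fx V E) ∧ w₁⁻¹ * w₂ ∉ fx V E := by
  classical
  obtain ⟨s, hs0, hs1⟩ : ∃ s : F, s ≠ 0 ∧ s ≠ 1 := by
    by_contra hno
    push Not at hno
    have h1 : (Finset.univ : Finset F) ⊆ {0, 1} := fun s _ => by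
      by_cases h : s = 0
      · simp [h]
      · simp [hno s h]
    have h3 := (Finset.card_le_card h1).trans Finset.card_le_two
    rw [Finset.card_univ, hq] at h3
    omega
  have hmem : ∀ r : F, ⁅(b.root r : G), b.vy 1⁆ ∈ brk V E ∧ ⁅(b.root r : G), b.vy 1⁆ ∈ fx V K := by
    intro r
    have hbr : ⁅(b.root r : G), b.vy 1⁆ ∈ brk V E := mem_brk (b.root r).2 (b.vy_mem 1)
    refine ⟨hbr, (c.quad hD _ (b.root_mem r) _ (b.vy_mem 1)).1, mem_centralizer_iff.2 fun k hk => ?_⟩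
    obtain ⟨e, he, y, hy, rfl⟩ := c.proj b hC hD hDT hq (hKT hk) (hKN hk)
    have h1 : Commute e ⁅(b.root r : G), b.vy 1⁆ :=
      fx_comm (c.quad hD _ (b.root_mem r) _ (b.vy_mem 1)) he
    have h2 : Commute y ⁅(b.root r : G), b.vy 1⁆ :=
      (mem_centralizer_iff.1 (c.others_le_centralizer hC hy).2 _ hbr).symm
    exact (h1.mul_left h2).eq
  have hψ : ∀ r : F, b.ψ ⁅(b.root r : G), b.vy 1⁆ = ![r, 0] := fun r => by
    rw [b.psi_comm_eq (b.root_mem r) (b.vy_mem 1), b.par_root, b.vy_spec]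
    simp
  have hne : ∀ r : F, r ≠ 0 → ⁅(b.root r : G), b.vy 1⁆ ∉ fx V E := fun r hr h => by
    have h' := congrFun ((b.zero_iff _ h.1).2 h) 0
    rw [hψ] at h'
    exact hr (by simpa using h')
  refine ⟨_, _, ⟨(hmem 1).1, (hmem 1).2, hne 1 one_ne_zero⟩, ⟨(hmem s).1, (hmem s).2, hne s hs0⟩,
    fun h => ?_⟩
  have h' := congrFun ((b.zero_iff _ h.1).2 h) 0
  have hV1 := (hmem 1).2.1
  rw [b.map_mul _ (inv_mem hV1) _ (hmem s).2.1, b.map_inv hV1, hψ, hψ] at h'
  simp at h'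
  exact hs1 (by linear_combination h')

theorem psi_fxD {u : G} (hu : u ∈ fx V D) : b.ψ u 1 = 0 := (b.mem_fx_iff (c.quad hD) hu.1).1 hu

theorem fxD_stab {g : G} (hg : g ∈ P) (hgD : cj g D = D) {u : G} (hu : u ∈ fx V D) :
    g * u * g⁻¹ ∈ fx V D := Ctx.fx_stab (c.norm_mem hg) hgD hu

theorem mu_spec {g : G} (hg : g ∈ P) (hgD : cj g D = D) {v : G} (hv : v ∈ V) :
    b.ψ (g * v * g⁻¹) 1 = b.mu g (b.ψ v 1) := by
  set w := b.vy (b.ψ v 1) with hw
  have hwV : w ∈ V := b.vy_mem _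
  have hu : w⁻¹ * v ∈ fx V D := by
    refine (b.mem_fx_iff (c.quad hD) (mul_mem (inv_mem hwV) hv)).2 ?_
    rw [b.map_mul _ (inv_mem hwV) _ hv, b.map_inv hwV, hw, b.vy_spec]
    simp
  have h1 := c.psi_fxD b hC hD hDT (c.fxD_stab b hC hD hDT hg hgD hu)
  show _ = b.ψ (g * w * g⁻¹) 1
  have h2 : b.ψ (g * v * g⁻¹) = b.ψ (g * w * g⁻¹) + b.ψ (g * (w⁻¹ * v) * g⁻¹) := by
    rw [← b.map_mul _ (c.conj_V hg hwV) _ (c.conj_V hg (mul_mem (inv_mem hwV) hv))]
    congr 1
    group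
  rw [h2]
  simp [h1]

theorem psi_conj_comm {g : G} (hg : g ∈ P) (hgD : cj g D = D) (s : F) {v : G} (hv : v ∈ V) :
    b.ψ (g * ⁅(b.root s : G), v⁆ * g⁻¹) = ![b.tau g s * b.mu g (b.ψ v 1), 0] := by
  have hd : g * (b.root s : G) * g⁻¹ ∈ D := by
    have h0 : g * (b.root s : G) * g⁻¹ ∈ cj g D :=
      H70.mem_cj.2 (by simpa [mul_assoc] using b.root_mem s)
    rwa [hgD] at h0
  have h1 : g * ⁅(b.root s : G), v⁆ * g⁻¹ = ⁅g * (b.root s : G) * g⁻¹, g * v * g⁻¹⁆ := by
    simp only [commutatorElement_def]; group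
  rw [h1, b.psi_comm_eq hd (c.conj_V hg hv), c.mu_spec b hC hD hDT hg hgD hv,
    Block.tau, b.psi_comm_eq hd (b.vy_mem 1), b.vy_spec]
  simp

theorem tau_mu {g : G} (hg : g ∈ P) (hgE : cj g E = E) (hgD : cj g D = D) (s y : F) :
    b.tau g (s * y) * b.mu g 1 = b.tau g s * b.mu g y := by
  have hx : ∀ r z, ⁅(b.root r : G), b.vy z⁆ ∈ V := fun r z =>
    (c.quad hD _ (b.root_mem r) _ (b.vy_mem z)).1
  have hsame : (⁅(b.root s : G), b.vy y⁆)⁻¹ * ⁅(b.root (s * y) : G), b.vy 1⁆ ∈ fx V E := by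
    refine b.eq_of_map_eq (hx _ _) (hx _ _) ?_
    rw [b.psi_comm_eq (b.root_mem _) (b.vy_mem _), b.psi_comm_eq (b.root_mem _) (b.vy_mem _),
      b.par_root, b.par_root, b.vy_spec, b.vy_spec]
    simp
  have h1 := (b.zero_iff _ (c.conj_V hg hsame.1)).2 (Ctx.fx_stab (c.norm_mem hg) hgE hsame)
  have h2 : b.ψ (g * ⁅(b.root (s * y) : G), b.vy 1⁆ * g⁻¹) =
      b.ψ (g * ⁅(b.root s : G), b.vy y⁆ * g⁻¹) := by
    rw [show g * ⁅(b.root (s * y) : G), b.vy 1⁆ * g⁻¹ = (g * ⁅(b.root s : G), b.vy y⁆ * g⁻¹) *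
      (g * ((⁅(b.root s : G), b.vy y⁆)⁻¹ * ⁅(b.root (s * y) : G), b.vy 1⁆) * g⁻¹) by group,
      b.map_mul _ (c.conj_V hg (hx _ _)) _ (c.conj_V hg hsame.1), h1, add_zero]
  rw [c.psi_conj_comm b hC hD hDT hg hgD _ (b.vy_mem 1),
    c.psi_conj_comm b hC hD hDT hg hgD _ (b.vy_mem y), b.vy_spec, b.vy_spec] at h2
  simpa using congrFun h2 0

theorem mu_one_ne {g : G} (hg : g ∈ P) (hgD : cj g D = D) : b.mu g 1 ≠ 0 := by
  intro h0
  have h1 : g * b.vy 1 * g⁻¹ ∈ fx V D :=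
    (b.mem_fx_iff (c.quad hD) (c.conj_V hg (b.vy_mem 1))).2 h0
  have hgD' : cj g⁻¹ D = D := by rw [← hgD, cj_cancel', hgD]
  have h2 := c.fxD_stab b hC hD hDT (inv_mem hg) hgD' h1
  rw [show g⁻¹ * (g * b.vy 1 * g⁻¹) * g⁻¹⁻¹ = b.vy 1 by group] at h2
  have h3 := c.psi_fxD b hC hD hDT h2
  rw [b.vy_spec] at h3
  simp at h3

theorem tau_root {g : G} (hg : g ∈ P) (hgD : cj g D = D) (s : F) :
    g * (b.root s : G) * g⁻¹ = b.root (b.tau g s) := by
  have hd : g * (b.root s : G) * g⁻¹ ∈ D := by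
    have h0 : g * (b.root s : G) * g⁻¹ ∈ cj g D :=
      H70.mem_cj.2 (by simpa [mul_assoc] using b.root_mem s)
    rwa [hgD] at h0
  have e1 := b.eq_root hd
  rwa [show b.par hd = b.tau g s by
    rw [Block.tau, b.psi_comm_eq hd (b.vy_mem 1), b.vy_spec]; simp] at e1

theorem tau_one_ne {g : G} (hg : g ∈ P) (hgD : cj g D = D) : b.tau g 1 ≠ 0 := by
  intro h0
  have h1 := c.tau_root b hC hD hDT hg hgD 1
  rw [h0, b.root_zero, conj_eq_one_iff, ← b.root_zero] at h1
  exact one_ne_zero (b.root_inj h1)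

theorem tau_add {g : G} (hg : g ∈ P) (hgD : cj g D = D) (s t : F) :
    b.tau g (s + t) = b.tau g s + b.tau g t := by
  refine b.root_inj ?_
  rw [← c.tau_root b hC hD hDT hg hgD, b.root_add, b.root_add, ← c.tau_root b hC hD hDT hg hgD,
    ← c.tau_root b hC hD hDT hg hgD]
  group

theorem tau_comp {g h : G} (hg : g ∈ P) (hgD : cj g D = D) (hh : h ∈ P) (hhD : cj h D = D) (s : F) :
    b.tau (g * h) s = b.tau g (b.tau h s) := by
  refine b.root_inj ?_
  rw [← c.tau_root b hC hD hDT (mul_mem hg hh) (by rw [← H70.cj_cj, hhD, hgD]),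
    ← c.tau_root b hC hD hDT hg hgD, ← c.tau_root b hC hD hDT hh hhD]
  group

theorem mu_comp {g h : G} (hg : g ∈ P) (hgD : cj g D = D) (hh : h ∈ P) (hhD : cj h D = D) (y : F) :
    b.mu (g * h) y = b.mu g (b.mu h y) := by
  have h1 := c.mu_spec b hC hD hDT hg hgD (c.conj_V hh (b.vy_mem y))
  rw [c.mu_spec b hC hD hDT hh hhD (b.vy_mem y), b.vy_spec] at h1
  show b.ψ (g * h * b.vy y * (g * h)⁻¹) 1 = _
  rw [show g * h * b.vy y * (g * h)⁻¹ = g * (h * b.vy y * h⁻¹) * g⁻¹ by group, h1]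
  simp

theorem theta_mul {g : G} (hg : g ∈ P) (hgE : cj g E = E) (hgD : cj g D = D) (s y : F) :
    b.tau g (s * y) * b.tau g 1 = b.tau g s * b.tau g y := by
  have h1 := c.tau_mu b hC hD hDT hg hgE hgD s y
  have h2 := c.tau_mu b hC hD hDT hg hgE hgD 1 y
  rw [one_mul] at h2
  refine mul_right_cancel₀ (c.mu_one_ne b hC hD hDT hg hgD) ?_
  linear_combination (b.tau g 1) * h1 - (b.tau g s) * h2

/-- An element inducing a linear map fixing the root group induces an element of the root group. -/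
theorem linear_local {g : G} (hg : g ∈ P) (hgp : g ^ p = 1) (hgE : cj g E = E)
    (hgd : ∀ d ∈ D, g * d = d * g) (hgv : ∀ v ∈ V, ⁅g, v⁆ ∈ fx V D) :
    ∃ e ∈ E, e ^ p = 1 ∧ g * e = e * g ∧ g * e⁻¹ ∈ centralizer (E : Set G) := by
  have hVel := c.env.elem
  have hgN := c.norm_mem hg
  -- the shift
  have hzero : ∀ u ∈ fx V D, b.ψ ⁅g, u⁆ = 0 := by
    intro u hu
    obtain ⟨a, ha, w, hw, z, hz, rfl⟩ := b.fx_decomp (c.quad hD) hu
    have haw := c.quad hD a ha w hw
    rw [comm_mul hVel hgN haw.1 hz.1,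
      show ⁅g, ⁅a, w⁆⁆ = 1 by
        rw [commutatorElement_eq_one_iff_mul_comm]
        exact mul_inv_eq_iff_eq_mul.1
          (c.fixed_comm_fix b hC hD hDT ha hw hg (hgd a ha) (hgv w hw)), one_mul]
    refine (b.zero_iff _ (mul_mem (c.conj_V hg hz.1) (inv_mem hz.1))).2 ?_
    exact mul_mem (Ctx.fx_stab hgN hgE hz) (inv_mem hz)
  set ν : F → F := fun y => b.ψ ⁅g, b.vy y⁆ 0 with hν
  have hshift : ∀ v ∈ V, b.ψ (g * v * g⁻¹) = ![b.ψ v 0 + ν (b.ψ v 1), b.ψ v 1] := by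
    intro v hv
    set w := b.vy (b.ψ v 1) with hw
    have hwV : w ∈ V := b.vy_mem _
    have hu : w⁻¹ * v ∈ fx V D := by
      refine (b.mem_fx_iff (c.quad hD) (mul_mem (inv_mem hwV) hv)).2 ?_
      rw [b.map_mul _ (inv_mem hwV) _ hv, b.map_inv hwV, hw, b.vy_spec]
      simp
    have h1 : b.ψ ⁅g, v⁆ = b.ψ ⁅g, w⁆ := by
      conv_lhs => rw [show v = w * (w⁻¹ * v) by group]
      rw [comm_mul hVel hgN hwV hu.1, b.map_mul _ (hgv w hwV).1 _
        (hgv _ hu.1).1, hzero _ hu, add_zero]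
    have h2 : b.ψ ⁅g, w⁆ 1 = 0 := c.psi_fxD b hC hD hDT (hgv w hwV)
    have h3 : b.ψ (g * v * g⁻¹) = b.ψ ⁅g, v⁆ + b.ψ v := by
      rw [← b.map_mul _ (hgv v hv).1 _ hv, commutatorElement_def, inv_mul_cancel_right]
    rw [h3, h1]
    funext i
    fin_cases i <;> simp [hν, h2, add_comm, ← hw]
  -- linearity
  have hlin : ∀ x t : F, ν (t * x) = x * ν t := by
    intro x t
    set l : ↥E := b.ρ.symm (H98.ll t) with hl
    have hmem : g * (l : G) * g⁻¹ ∈ E := by
      have h0 : g * (l : G) * g⁻¹ ∈ cj g E := H70.mem_cj.2 (by simp [mul_assoc])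
      rwa [hgE] at h0
    set N := (b.ρ ⟨_, hmem⟩ : Matrix (Fin 2) (Fin 2) F) with hN
    have key : ∀ z : F, N 0 0 * z = z + ν (t * z) := by
      intro z
      obtain ⟨v, hv, hve⟩ := b.surj ![z, 0]
      have hlv := b.conj_mem l.2 hv
      have h1 := b.equiv ⟨_, hmem⟩ _ (c.conj_V hg hv)
      have h2 : b.ψ ((l : G) * v * (l : G)⁻¹) = ![z, t * z] := by
        rw [b.equiv l v hv, hl, b.ρ.apply_symm_apply, hve]
        funext i
        fin_cases i <;> simp [H98.coe_ll, Matrix.mulVec, dotProduct, Fin.sum_univ_two]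
      rw [show g * (l : G) * g⁻¹ * (g * v * g⁻¹) * (g * (l : G) * g⁻¹)⁻¹ =
        g * ((l : G) * v * (l : G)⁻¹) * g⁻¹ by group, hshift _ hlv, h2, hshift v hv, hve] at h1
      have h3 := congrFun h1 0
      have hν0 : ν 0 = 0 := by
        have := congrFun (hshift 1 (one_mem _)) 0
        simpa [b.map_one] using this.symm
      simp [Matrix.mulVec, dotProduct, Fin.sum_univ_two, ← hN, hν0] at h3
      exact h3.symm
    have k1 := key 1
    have kx := key x
    rw [mul_one, mul_one] at k1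
    linear_combination x * k1 - kx
  set e := (b.root (ν 1) : G)
  have heD : e ∈ D := b.root_mem _
  have heP : e ∈ P := hC.le (b.le heD)
  have hge : g * e = e * g := hgd e heD
  refine ⟨e, b.le heD, (c.minOff hD).elem.2 e heD, hge, ?_⟩
  set h := g * e⁻¹ with hh
  have hhP : h ∈ P := mul_mem hg (inv_mem heP)
  have hfix : ∀ v ∈ V, b.ψ (h * v * h⁻¹) = b.ψ v := by
    intro v hv
    set v' := e⁻¹ * v * e with hv'
    have hv'V : v' ∈ V := by simpa [hv'] using c.conj_V (inv_mem heP) hv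
    rw [show h * v * h⁻¹ = g * v' * g⁻¹ by rw [hh, hv']; group, hshift v' hv'V,
      show b.ψ v = b.ψ (e * v' * e⁻¹) by rw [hv']; congr 1; group, b.equiv _ v' hv'V, b.root_spec]
    have h1 := hlin (b.ψ v' 1) 1
    rw [one_mul] at h1
    funext i
    fin_cases i <;> simp [H98.coe_uu, Matrix.mulVec, dotProduct, Fin.sum_univ_two, h1, mul_comm]
  have hhE : cj h E = E := by
    rw [hh, ← H70.cj_cj, show cj e⁻¹ E = E from H70.cj_of_mem (inv_mem (b.le heD)), hgE]
  refine mem_centralizer_iff.2 fun z hz => ?_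
  have hmem : h * z * h⁻¹ ∈ E := by
    have h0 : h * z * h⁻¹ ∈ cj h E := H70.mem_cj.2 (by simpa [mul_assoc] using hz)
    rwa [hhE] at h0
  have heq : b.ρ ⟨_, hmem⟩ = b.ρ ⟨z, hz⟩ := by
    have hall : ∀ r : Fin 2 → F, (b.ρ ⟨_, hmem⟩ : Matrix (Fin 2) (Fin 2) F).mulVec r =
        (b.ρ ⟨z, hz⟩ : Matrix (Fin 2) (Fin 2) F).mulVec r := by
      intro r
      obtain ⟨v, hv, rfl⟩ := b.surj r
      have h1 := b.equiv ⟨_, hmem⟩ _ (c.conj_V hhP hv)
      rw [show h * z * h⁻¹ * (h * v * h⁻¹) * (h * z * h⁻¹)⁻¹ = h * (z * v * z⁻¹) * h⁻¹ by group,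
        hfix _ (b.conj_mem hz hv), hfix v hv] at h1
      rw [← h1]
      exact b.equiv ⟨z, hz⟩ v hv
    exact Subtype.ext (Matrix.ext_iff_mulVec.2 hall)
  exact (mul_inv_eq_iff_eq_mul.1 (congrArg Subtype.val (b.ρ.injective heq))).symm

theorem local_big [Fintype F] (hq : Fintype.card F = Nat.card A₀) {A : Subgroup G}
    (hA : Off p V P A) (hAT : A ≤ T) (hAE : ∀ a ∈ A, cj a E = E) :
    ∀ a ∈ A, ∃ e ∈ E, e ^ p = 1 ∧ a * e = e * a ∧ a * e⁻¹ ∈ centralizer (E : Set G) := by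
  classical
  obtain ⟨k, hk⟩ := c.mem.pgroup.exists_card_eq
  have hcardF : Fintype.card F = p ^ k := hq.trans hk
  haveI : CharP F p := charP_of_card_pow hcardF
  have hAP : ∀ {a}, a ∈ A → a ∈ P := fun ha => hA.1 ha
  have hAD : ∀ {a}, a ∈ A → cj a D = D := fun ha => c.block_stab b hC hD hDT (hAT ha) (hAE _ ha)
  have hVel := c.env.elem
  have hTne : ∀ {a}, a ∈ A → b.tau a 1 ≠ 0 := fun ha => c.tau_one_ne b hC hD hDT (hAP ha) (hAD ha)
  -- the field automorphism
  let θh : ∀ a : ↥A, F →+* F := fun a =>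
    { toFun := fun s => b.tau (a : G) s / b.tau (a : G) 1
      map_one' := div_self (hTne a.2)
      map_mul' := fun s y => by
        have h1 := c.theta_mul b hC hD hDT (hAP a.2) (hAE _ a.2) (hAD a.2) s y
        have h2 := hTne a.2
        field_simp
        linear_combination h1
      map_zero' := by
        have h1 := c.tau_add b hC hD hDT (hAP a.2) (hAD a.2) 0 0
        rw [add_zero] at h1
        simp [left_eq_add.1 h1]
      map_add' := fun s y => by
        rw [c.tau_add b hC hD hDT (hAP a.2) (hAD a.2), add_div] }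
  let θe : ↥A → (F ≃+* F) := fun a =>
    RingEquiv.ofBijective (θh a) (Finite.injective_iff_bijective.1 (θh a).injective)
  have hθ : ∀ (a : ↥A) (s : F), θe a s = b.tau (a : G) s / b.tau (a : G) 1 := fun a s => rfl
  have htau : ∀ (a : ↥A) (s : F), b.tau (a : G) s = b.tau (a : G) 1 * θe a s := fun a s => by
    have := hTne a.2
    rw [hθ]; field_simp
  let Θ : ↥A →* (F ≃+* F) := MonoidHom.mk' θe fun a a' => by
    refine RingEquiv.ext fun s => ?_
    show θe (a * a') s = θe a (θe a' s)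
    have hcomp := c.tau_comp b hC hD hDT (hAP a.2) (hAD a.2) (hAP a'.2) (hAD a'.2)
    rw [hθ (a * a'), hθ a' s, map_div₀, hθ a, hθ a, Subgroup.coe_mul, hcomp, hcomp]
    rw [div_div_div_cancel_right₀ (hTne a.2)]
  set A₁ := Θ.ker.map A.subtype with hA₁
  have hA₁A : A₁ ≤ A := map_subtype_le _
  -- elements with trivial field automorphism
  have hker : ∀ a ∈ A₁, (∀ d ∈ D, a * d = d * a) ∧ ∀ v ∈ V, ⁅a, v⁆ ∈ fx V D := by
    rintro _ ⟨a, ha, rfl⟩
    have haP := hAP a.2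
    have haD := hAD a.2
    set r := b.tau (a : G) 1 with hr
    have hτ : ∀ s, b.tau (a : G) s = r * s := fun s => by
      rw [htau a s, show θe a = 1 from ha]; rfl
    set m := b.mu (a : G) 1 with hm
    have hμ : ∀ y, b.mu (a : G) y = y * m := fun y => by
      have h1 := c.tau_mu b hC hD hDT haP (hAE _ a.2) haD 1 y
      rw [one_mul, hτ, ← hr, ← hm] at h1
      refine mul_left_cancel₀ (hTne a.2) ?_
      linear_combination -h1
    have hD' : ∀ i : ℕ, cj ((a : G) ^ i) D = D := fun i => by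
      induction i with
      | zero => rw [pow_zero, H70.cj_one]
      | succ i ihi => rw [pow_succ, ← H70.cj_cj, haD, ihi]
    have hit : ∀ i : ℕ, b.tau ((a : G) ^ i) 1 = r ^ i ∧ b.mu ((a : G) ^ i) 1 = m ^ i := by
      intro i
      induction i with
      | zero =>
        constructor
        · rw [pow_zero, pow_zero]
          refine b.root_inj ?_
          rw [← c.tau_root b hC hD hDT (one_mem _) (H70.cj_one D)]
          group
        · show b.ψ (((a : G) ^ 0) * b.vy 1 * ((a : G) ^ 0)⁻¹) 1 = _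
          simp [b.vy_spec]
      | succ i ihi =>
        rw [pow_succ', c.tau_comp b hC hD hDT haP haD (pow_mem haP _) (hD' i),
          c.mu_comp b hC hD hDT haP haD (pow_mem haP _) (hD' i), hτ, hμ, ihi.1, ihi.2,
          pow_succ', pow_succ]
        exact ⟨rfl, rfl⟩
    have hap : (a : G) ^ p = 1 := hA.2.1.2 _ a.2
    have h1 := hit p
    have h0 := hit 0
    rw [hap] at h1
    rw [pow_zero] at h0
    have hr1 : r = 1 := field_eq_one (p := p) (k := 1) (by rw [pow_one, ← h1.1, h0.1, pow_zero])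
    have hm1 : m = 1 := field_eq_one (p := p) (k := 1) (by rw [pow_one, ← h1.2, h0.2, pow_zero])
    refine ⟨fun d hd => ?_, fun v hv => ?_⟩
    · show (a : G) * d = d * a
      have h2 := c.tau_root b hC hD hDT haP haD (b.par hd)
      rw [hτ, hr1, one_mul, ← b.eq_root hd] at h2
      exact mul_inv_eq_iff_eq_mul.1 h2
    · show ⁅(a : G), v⁆ ∈ fx V D
      have hV' : ⁅(a : G), v⁆ ∈ V := mul_mem (c.conj_V haP hv) (inv_mem hv)
      refine (b.mem_fx_iff (c.quad hD) hV').2 ?_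
      rw [show b.ψ ⁅(a : G), v⁆ = b.ψ ((a : G) * v * (a : G)⁻¹) + b.ψ v⁻¹ from
        b.map_mul _ (c.conj_V haP hv) _ (inv_mem hv), b.map_inv hv]
      simp [c.mu_spec b hC hD hDT haP haD hv, hμ, hm1]
  by_cases hall : A₁ = A
  · intro a ha
    obtain ⟨h1, h2⟩ := hker a (hall.ge ha)
    exact c.linear_local b hC hD hDT (hAP ha) (hA.2.1.2 a ha) (hAE a ha) h1 h2
  exfalso
  -- the kernel has index `p`
  obtain ⟨a, ha, haA₁⟩ := SetLike.not_le_iff_exists.1 fun h => hall (le_antisymm hA₁A h)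
  have hΘa : Θ ⟨a, ha⟩ ≠ 1 := fun h => haA₁ ⟨⟨a, ha⟩, h, rfl⟩
  have hidx : Nat.card A = p * Nat.card A₁ := by
    rw [hA₁, card_map_of_injective A.subtype_injective,
      Subgroup.card_eq_card_quotient_mul_card_subgroup Θ.ker,
      Nat.card_congr (QuotientGroup.quotientKerEquivRange Θ).toEquiv]
    congr 1
    haveI : IsCyclic (F ≃+* F) := ringAut_cyclic hcardF
    obtain ⟨g, hg⟩ := IsCyclic.exists_generator (α := ↥Θ.range)
    have hgp : g ^ p = 1 := by
      obtain ⟨x, hx⟩ := g.2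
      refine Subtype.ext ?_
      show (g : F ≃+* F) ^ p = 1
      rw [← hx, ← map_pow, show x ^ p = 1 from Subtype.ext (hA.2.1.2 _ x.2), _root_.map_one]
    have hg1 : g ≠ 1 := by
      intro h1
      obtain ⟨i, hi⟩ := mem_zpowers_iff.1 (hg ⟨_, ⟨⟨a, ha⟩, rfl⟩⟩)
      rw [h1, one_zpow] at hi
      exact hΘa (congrArg Subtype.val hi).symm
    rw [← orderOf_eq_card_of_forall_mem_zpowers hg]
    exact orderOf_eq_prime hgp hg1
  have haD := hAD ha
  have haP := hAP ha
  have hmove : ¬ ∀ s, b.tau a s = b.tau a 1 * s := fun h => hΘa <| by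
    refine RingEquiv.ext fun s => ?_
    show θe ⟨a, ha⟩ s = s
    rw [hθ, h s]
    exact mul_div_cancel_left₀ _ (hTne ha)
  -- a fixed vector of the axis which is moved
  obtain ⟨s, hs⟩ : ∃ s, a * ⁅(b.root s : G), b.vy 1⁆ * a⁻¹ ≠ ⁅(b.root s : G), b.vy 1⁆ := by
    by_contra hno
    push Not at hno
    refine hmove fun s => ?_
    have h1 : ∀ r, b.tau a r * b.mu a 1 = r := fun r => by
      have h2 := c.psi_conj_comm b hC hD hDT haP haD r (b.vy_mem 1)
      rw [hno r, b.psi_comm_eq (b.root_mem r) (b.vy_mem 1), b.par_root, b.vy_spec] at h2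
      simpa using (congrFun h2 0).symm
    refine mul_right_cancel₀ (c.mu_one_ne b hC hD hDT haP haD) ?_
    rw [h1, mul_right_comm, h1, one_mul]
  set w := ⁅(b.root s : G), b.vy 1⁆ with hw
  have hwD : w ∈ fx V D := c.quad hD _ (b.root_mem s) _ (b.vy_mem 1)
  have hwA₁ : w ∈ fx V A₁ := ⟨hwD.1, mem_centralizer_iff.2 fun g hg => mul_inv_eq_iff_eq_mul.1
    (c.fixed_comm_fix b hC hD hDT (b.root_mem s) (b.vy_mem 1) (hAP (hA₁A hg))
      ((hker g hg).1 _ (b.root_mem s)) ((hker g hg).2 _ (b.vy_mem 1)))⟩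
  have hpinj : ∀ {X : Subgroup G} {g : G}, g ^ p = 1 → g ∉ X → ∀ {i j : Fin p},
      (g ^ (i : ℕ))⁻¹ * g ^ (j : ℕ) ∈ X → i = j := by
    intro X g hgp hgX i j h
    rcases lt_trichotomy (i : ℕ) j with hlt | heq | hgt
    · exfalso
      obtain ⟨d, hd⟩ := Nat.exists_eq_add_of_le hlt.le
      rw [hd, pow_add, inv_mul_cancel_left] at h
      exact hgX (mem_of_pow_mem hgp (Nat.not_dvd_of_pos_of_lt (by omega) (by omega)) h)
    · exact Fin.ext heq
    · exfalso
      obtain ⟨d, hd⟩ := Nat.exists_eq_add_of_le hgt.le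
      rw [hd, pow_add, mul_inv_rev, inv_mul_cancel_right, inv_mem_iff] at h
      exact hgX (mem_of_pow_mem hgp (Nat.not_dvd_of_pos_of_lt (by omega) (by omega)) h)
  obtain ⟨-, hoff⟩ := c.count hA hA₁A hidx (fun i : Fin p => w ^ (i : ℕ)) (fun i => pow_mem hwA₁ _)
    fun i j h => hpinj (hVel.2 _ hwD.1) (fun hwA => hs (fx_conj hwA ha)) h
  have hA₁off := hoff (by simp)
  -- the kernel and `D` cover
  have hcover : fx V A₁ ⊔ fx V D = V := by
    have hDel := (c.minOff hD).elem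
    have hel := H10.elementaryAbelian_sup (H10.elementaryAbelian_of_le hA.2.1 hA₁A) hDel
      fun g hg d hd => (hker g hg).1 d hd
    have hex := c.exact_of (sup_le (hA₁A.trans hA.1) (c.minOff hD).le) hel
    have hI : A₁ ⊓ D = ⊥ := by
      by_contra hI0
      have hID : A₁ ⊓ D ≠ D := by
        intro hI'
        have hDA : D ≤ A := hI'.ge.trans (inf_le_left.trans hA₁A)
        refine hmove fun r => ?_
        have h1 : ∀ r, b.tau a r = r := fun r => b.root_inj (by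
          rw [← c.tau_root b hC hD hDT haP haD,
            H10.comm_of_elem hA.2.1 ha (hDA (b.root_mem r)), mul_inv_cancel_right])
        rw [h1, h1, one_mul]
      have hstrict := (c.minOff hD).strict _ inf_le_right hI0 hID
      have hprod : fx V A₁ ⊔ fx V D ≤ fx V (A₁ ⊓ D) :=
        sup_le (fx_anti inf_le_left) (fx_anti inf_le_right)
      have e1 := H10.card_mul_card_inf (le_normalizer_of_le_elem hVel
        (inf_le_left : fx V A₁ ≤ V) (inf_le_left : fx V D ≤ V))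
      have e2 := H10.card_mul_card_inf (le_normalizer_of_le_elem hel
        (le_sup_left : A₁ ≤ A₁ ⊔ D) (le_sup_right : D ≤ A₁ ⊔ D))
      have hinf : fx V A₁ ⊓ fx V D ≤ fx V (A₁ ⊔ D) := fun v hv => fx_mem_sup hv.1 hv.2
      have h4 : Nat.card V * Nat.card V ≤
          Nat.card ↥(A₁ ⊓ D) * Nat.card (fx V (A₁ ⊓ D)) * Nat.card V := by
        calc Nat.card V * Nat.card V
            ≤ (Nat.card A₁ * Nat.card (fx V A₁)) * (Nat.card D * Nat.card (fx V D)) :=
              Nat.mul_le_mul hA₁off.2.2 (c.minOff hD).off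
          _ = (Nat.card A₁ * Nat.card D) * (Nat.card (fx V A₁) * Nat.card (fx V D)) := by ring
          _ = Nat.card ↥(A₁ ⊓ D) * Nat.card ↥(fx V A₁ ⊔ fx V D) *
              (Nat.card ↥(A₁ ⊔ D) * Nat.card ↥(fx V A₁ ⊓ fx V D)) := by rw [← e1, ← e2]; ring
          _ ≤ _ := Nat.mul_le_mul (Nat.mul_le_mul_left _ (Subgroup.card_le_of_le hprod))
              ((Nat.mul_le_mul_left _ (Subgroup.card_le_of_le hinf)).trans hex)
      exact absurd (Nat.le_of_mul_le_mul_right h4 Nat.card_pos) (not_le.2 hstrict)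
    have e1 := H10.card_mul_card_inf (le_normalizer_of_le_elem hVel
      (inf_le_left : fx V A₁ ≤ V) (inf_le_left : fx V D ≤ V))
    have e2 := H10.card_mul_card_inf (le_normalizer_of_le_elem hel
      (le_sup_left : A₁ ≤ A₁ ⊔ D) (le_sup_right : D ≤ A₁ ⊔ D))
    rw [hI, Subgroup.card_bot, mul_one] at e2
    have hinf : fx V A₁ ⊓ fx V D ≤ fx V (A₁ ⊔ D) := fun v hv => fx_mem_sup hv.1 hv.2
    refine Subgroup.eq_of_le_of_card_ge (sup_le inf_le_left inf_le_left)
      (Nat.le_of_mul_le_mul_right ?_ (Nat.card_pos : 0 < Nat.card V))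
    calc Nat.card V * Nat.card V
        ≤ (Nat.card A₁ * Nat.card (fx V A₁)) * (Nat.card D * Nat.card (fx V D)) :=
          Nat.mul_le_mul hA₁off.2.2 (c.minOff hD).off
      _ = (Nat.card A₁ * Nat.card D) * (Nat.card (fx V A₁) * Nat.card (fx V D)) := by ring
      _ = Nat.card ↥(fx V A₁ ⊔ fx V D) *
          (Nat.card ↥(A₁ ⊔ D) * Nat.card ↥(fx V A₁ ⊓ fx V D)) := by rw [← e1, ← e2]; ring
      _ ≤ _ := Nat.mul_le_mul_left _ ((Nat.mul_le_mul_left _ (Subgroup.card_le_of_le hinf)).trans hex)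
  have haN : a ∈ normalizer (V : Set G) := c.norm_mem haP
  have hstabD : ∀ z ∈ fx V D, ⁅a, z⁆ ∈ fx V D := fun z hz =>
    mul_mem (c.fxD_stab b hC hD hDT haP haD hz) (inv_mem hz)
  obtain ⟨u, hu, huD⟩ : ∃ u ∈ fx V A₁, ⁅a, u⁆ ∉ fx V D := by
    by_contra hno
    push Not at hno
    have hall' : ∀ v ∈ V, ⁅a, v⁆ ∈ fx V D := by
      intro v hv
      rw [← hcover] at hv
      obtain ⟨x, hx, z, hz, rfl⟩ := H10.exists_mul_of_mem_sup
        (le_normalizer_of_le_elem hVel inf_le_left inf_le_left) hv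
      rw [comm_mul hVel haN hx.1 hz.1]
      exact mul_mem (hno x hx) (hstabD z hz)
    refine hmove fun r => ?_
    have h1 := c.tau_mu b hC hD hDT haP (hAE a ha) haD 1 r
    have h2 : ∀ y, b.mu a y = y := fun y => by
      have hV' := b.vy_mem y
      have hmul : b.ψ (a * b.vy y * a⁻¹) = b.ψ ⁅a, b.vy y⁆ + b.ψ (b.vy y) := by
        rw [← b.map_mul _ (hall' _ hV').1 _ hV', commutatorElement_def, inv_mul_cancel_right]
      show b.ψ (a * b.vy y * a⁻¹) 1 = y
      rw [hmul, Pi.add_apply, c.psi_fxD b hC hD hDT (hall' _ hV'), b.vy_spec]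
      simp
    rwa [one_mul, h2, h2, mul_one] at h1
  -- too many classes
  have hχ : ∀ {x : G}, x ∈ V → ∀ i : ℕ, ⁅a, x ^ i⁆ = ⁅a, x⁆ ^ i := by
    intro x hx i
    induction i with
    | zero => simp
    | succ i ihi => rw [pow_succ, pow_succ, comm_mul hVel haN (pow_mem hx i) hx, ihi]
  obtain ⟨hle, -⟩ := c.count hA hA₁A hidx
    (fun q : Fin p × Fin p => w ^ (q.1 : ℕ) * u ^ (q.2 : ℕ))
    (fun q => mul_mem (pow_mem hwA₁ _) (pow_mem hu _)) (by
      rintro ⟨i, j⟩ ⟨i', j'⟩ h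
      dsimp only at h
      set x := w ^ (i : ℕ) * u ^ (j : ℕ) with hx
      set x' := w ^ (i' : ℕ) * u ^ (j' : ℕ) with hx'
      have hxV : x ∈ V := mul_mem (pow_mem hwD.1 _) (pow_mem hu.1 _)
      have hχeq : ⁅a, x'⁆ = ⁅a, x⁆ := by
        conv_lhs => rw [show x' = x * (x⁻¹ * x') by group]
        rw [comm_mul hVel haN hxV h.1, commutatorElement_eq_one_iff_mul_comm.2 (fx_comm h ha),
          mul_one]
      rw [hx, hx', comm_mul hVel haN (pow_mem hwD.1 _) (pow_mem hu.1 _),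
        comm_mul hVel haN (pow_mem hwD.1 _) (pow_mem hu.1 _), hχ hwD.1, hχ hwD.1, hχ hu.1,
        hχ hu.1] at hχeq
      set X₁ := ⁅a, w⁆
      set X₂ := ⁅a, u⁆
      have hX₁ : X₁ ∈ fx V D := hstabD w hwD
      have hX₂p : X₂ ^ p = 1 := hVel.2 _ (mul_mem (c.conj_V haP hu.1) (inv_mem hu.1))
      have hjj : j = j' := hpinj hX₂p huD (by
        rw [show X₂ ^ (j' : ℕ) = (X₁ ^ (i' : ℕ))⁻¹ * (X₁ ^ (i : ℕ) * X₂ ^ (j : ℕ)) by
          rw [← hχeq, inv_mul_cancel_left]]
        have hXV : X₁ ∈ V := hX₁.1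
        have hX₂V : X₂ ∈ V := mul_mem (c.conj_V haP hu.1) (inv_mem hu.1)
        rw [← mul_assoc (X₁ ^ (i' : ℕ))⁻¹, H10.comm_of_elem hVel
          (mul_mem (inv_mem (pow_mem hXV _)) (pow_mem hXV _)) (pow_mem hX₂V _), inv_mul_cancel_left]
        exact mul_mem (inv_mem (pow_mem hX₁ _)) (pow_mem hX₁ _))
      subst hjj
      have hii : i' = i := hpinj (X := ⊥) (g := X₁) (hVel.2 _ hX₁.1)
        (fun h0 => hs (mul_inv_eq_iff_eq_mul.2
          (commutatorElement_eq_one_iff_mul_comm.1 (Subgroup.mem_bot.1 h0))))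
        (by rw [mul_right_cancel hχeq, inv_mul_cancel]; exact one_mem _)
      subst hii
      rfl)
  simp at hle
  have := (Fact.out : p.Prime).two_le
  nlinarith

end Ctx

end H78.PMin
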