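import Cfsg.Agent.H78.PMin.OffBasic

/-!
Elementary offenders lie in the product of the symmetric components.
-/

set_option autoImplicit false
set_option linter.unusedSectionVars false
set_option linter.unusedSimpArgs false
set_option linter.style.haveILetI false

open Subgroup
open scoped commutatorElement
open H70 (cj)

namespace H78.PMin

variable {G : Type*} [Group G] [Finite G] [Fact (Nat.Prime 2)] {V P T M A : Subgroup G}

namespace MaxFrame

variable {c : Ctx 2 V P T M A} {hA : Nat.card A = 2} {n : ℕ} {e : Fin n → Tv P A → ZMod 2}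
  (f : MaxFrame c hA e)
include f

/-- An element normalising the component permutes the points. -/
theorem exists_compat_three {g : G} (hg : g ∈ P) (hgn : cj g f.grp = f.grp) :
    ∃ σ : Equiv.Perm (Fin n), Compat c hA e g σ := by
  classical
  set t : Tv P A → Tv P A := c.tvConj hA hg with ht
  have hphi : ∀ x y, phi (t x : G) (c.ctr hA (t y)) = phi (x : G) (c.ctr hA y) :=
    c.phi_tvConj hA hg
  have htinj : Function.Injective t := fun x y h => Subtype.ext (by
    have := congrArg Subtype.val h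
    simpa [ht, Ctx.tvConj] using this)
  -- the common point of the images
  have hstar : ∀ i, ∃ p, ∀ l, l ≠ i → ∀ x, Pr c hA e x i l → ∃ q, Pr c hA e (t x) p q := by
    intro i
    obtain ⟨l₁, hl₁, -⟩ := f.exists_third i i
    obtain ⟨l₂, hl₂, hl12⟩ := f.exists_third i l₁
    obtain ⟨x₁, hx₁⟩ := f.exists_pr (Ne.symm hl₁)
    obtain ⟨x₂, hx₂⟩ := f.exists_pr (Ne.symm hl₂)
    obtain ⟨a, b, hab, hxa⟩ := f.stable_of_norm hg hgn hx₁
    obtain ⟨a', b', hab', hxa'⟩ := f.stable_of_norm hg hgn hx₂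
    have h12 : phi (x₁ : G) (c.ctr hA x₂) = 1 := by
      rw [f.val hx₁ hx₂]; simp [hl₁, Ne.symm hl₂, Ne.symm hl12]
    have key : ∀ p q r, Pr c hA e (t x₁) p q → Pr c hA e (t x₂) p r →
        ∀ l, l ≠ i → ∀ x, Pr c hA e x i l → ∃ s, Pr c hA e (t x) p s := by
      intro p q r h1 h2 l hl x hx
      by_cases e1 : x = x₁
      · exact ⟨q, e1 ▸ h1⟩
      by_cases e2 : x = x₂
      · exact ⟨r, e2 ▸ h2⟩
      have hll : l ≠ l₁ ∧ l ≠ l₂ := ⟨fun he => e1 (f.pr_inj (he ▸ hx) hx₁),
        fun he => e2 (f.pr_inj (he ▸ hx) hx₂)⟩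
      obtain ⟨u, v, huv, hxu⟩ := f.stable_of_norm hg hgn hx
      have hu : Pr c hA e (t x) u v := ⟨huv, hxu⟩
      by_cases hup : u = p
      · exact ⟨v, hup ▸ hu⟩
      by_cases hvp : v = p
      · exact ⟨u, hvp ▸ f.pr_symm hu⟩
      exfalso
      have hqr : q ≠ r := fun he => e1 (absurd (htinj (f.pr_inj h1 (he ▸ h2))) (fun h0 => hl12
        (((f.pr_unique hx₁ (h0 ▸ hx₂)).2.resolve_left hl₂))))
      have hm : ∀ {w q'}, Pr c hA e (t w) p q' → phi (x : G) (c.ctr hA w) = 1 → q' = u ∨ q' = v := by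
        intro w q' hw h
        rw [← hphi, f.val hu hw, if_neg hup, if_neg hvp, zero_add, zero_add] at h
        by_contra hno
        push Not at hno
        rw [if_neg (Ne.symm hno.1), if_neg (Ne.symm hno.2), add_zero] at h
        exact zero_ne_one h
      have hq := hm h1 (by rw [f.val hx hx₁]; simp [Ne.symm hl₁, hl, hll.1])
      have hr := hm h2 (by rw [f.val hx hx₂]; simp [Ne.symm hl₂, hl, hll.2])
      have hqr' : Pr c hA e (t x) q r := by
        rcases hq with rfl | rfl <;> rcases hr with rfl | rfl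
        · exact absurd rfl hqr
        · exact hu
        · exact f.pr_symm hu
        · exact absurd rfl hqr
      -- the images satisfy a linear relation
      have hlin : c.cc hA x = e l₁ + e l₂ := by
        funext w
        have h3 : c.cc hA (t x) (t w) = c.cc hA (t x₁) (t w) + c.cc hA (t x₂) (t w) := by
          rw [hqr'.2, h1.2, h2.2]
          simp only [Pi.add_apply]
          rw [show e p (t w) + e q (t w) + (e p (t w) + e r (t w)) =
            e q (t w) + e r (t w) + (e p (t w) + e p (t w)) by abel, CharTwo.add_self_eq_zero,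
            add_zero]
        simp only [Ctx.cc, hphi] at h3
        show phi (w : G) (c.ctr hA x) = e l₁ w + e l₂ w
        rw [h3, show phi (w : G) (c.ctr hA x₁) = e i w + e l₁ w from congrFun hx₁.2 w,
          show phi (w : G) (c.ctr hA x₂) = e i w + e l₂ w from congrFun hx₂.2 w,
          show e i w + e l₁ w + (e i w + e l₂ w) = e l₁ w + e l₂ w + (e i w + e i w) by abel,
          CharTwo.add_self_eq_zero, add_zero]
      rcases (f.pr_unique (⟨Ne.symm hl12, hlin⟩ : Pr c hA e x l₁ l₂) hx).1 with h' | h'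
      · exact hl₁ h'.symm
      · exact hl₂ h'.symm
    rw [← hphi, f.val ⟨hab, hxa⟩ ⟨hab', hxa'⟩] at h12
    by_cases e1 : a = a'
    · exact ⟨a, key a b b' ⟨hab, hxa⟩ (e1.symm ▸ (⟨hab', hxa'⟩ : Pr c hA e (t x₂) a' b'))⟩
    by_cases e2 : a = b'
    · exact ⟨a, key a b a' ⟨hab, hxa⟩ (e2.symm ▸ f.pr_symm (⟨hab', hxa'⟩ : Pr c hA e (t x₂) a' b'))⟩
    by_cases e3 : b = a'
    · exact ⟨b, key b a b' (f.pr_symm ⟨hab, hxa⟩) (e3.symm ▸ (⟨hab', hxa'⟩ : Pr c hA e (t x₂) a' b'))⟩
    by_cases e4 : b = b'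
    · exact ⟨b, key b a a' (f.pr_symm ⟨hab, hxa⟩)
        (e4.symm ▸ f.pr_symm (⟨hab', hxa'⟩ : Pr c hA e (t x₂) a' b'))⟩
    rw [if_neg e1, if_neg e2, if_neg e3, if_neg e4] at h12
    simp at h12
  choose σ hσ using hstar
  have hσinj : Function.Injective σ := by
    intro i i' he
    by_contra hne
    obtain ⟨l, hli, hli'⟩ := f.exists_third i i'
    by_cases h3 : n = 3
    · subst h3
      obtain ⟨x, hx⟩ := f.exists_pr (Ne.symm hli)
      obtain ⟨y, hy⟩ := f.exists_pr (Ne.symm hli')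
      obtain ⟨z, hz⟩ := f.exists_pr hne
      obtain ⟨q, hq⟩ := hσ i l hli x hx
      obtain ⟨r, hr⟩ := hσ i' l hli' y hy
      obtain ⟨u, hu⟩ := hσ i i' (Ne.symm hne) z hz
      rw [← he] at hr
      have hxy : q ≠ r := fun h' => by
        rcases (f.pr_unique hy (htinj (f.pr_inj hq (h' ▸ hr)) ▸ hx)).1 with h | h
        · exact hne h
        · exact hli h.symm
      have hxz : q ≠ u := fun h' => by
        rcases (f.pr_unique hz (htinj (f.pr_inj hq (h' ▸ hu)) ▸ hx)).2 with h | h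
        · exact hli h
        · exact hli' h
      have hyz : r ≠ u := fun h' => by
        rcases (f.pr_unique hz (htinj (f.pr_inj hr (h' ▸ hu)) ▸ hy)).2 with h | h
        · exact hli h
        · exact hli' h
      have hsub : ({σ i, q, r, u} : Finset (Fin 3)).card ≤ 3 :=
        (Finset.card_le_univ _).trans (by simp)
      have hcard : ({σ i, q, r, u} : Finset (Fin 3)).card = 4 := by
        rw [Finset.card_insert_of_notMem, Finset.card_insert_of_notMem,
          Finset.card_pair hyz]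
        · simp [hxy, hxz]
        · simp [hq.1, hr.1, hu.1]
      omega
    obtain ⟨l', hl'⟩ : ∃ l', l' ∉ ({i, i', l} : Finset (Fin n)) :=
      H63.exists_not_mem _ (lt_of_le_of_lt Finset.card_le_three (by rw [Fintype.card_fin]; omega))
    simp at hl'
    obtain ⟨hl'i, hl'i', hl'l⟩ := hl'
    obtain ⟨x, hx⟩ := f.exists_pr (Ne.symm hli)
    obtain ⟨y, hy⟩ := f.exists_pr (Ne.symm hl'i')
    obtain ⟨q, hq⟩ := hσ i l hli x hx
    obtain ⟨r, hr⟩ := hσ i' l' hl'i' y hy
    rw [← he] at hr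
    have h0 : phi (x : G) (c.ctr hA y) = 0 := by
      rw [f.val hx hy]; simp [hne, hli', Ne.symm hl'i, Ne.symm hl'l]
    rw [← hphi, f.val hq hr] at h0
    have hqr : q ≠ r := fun he' => by
      have h2 := f.pr_unique hy (htinj (f.pr_inj hq (he' ▸ hr)) ▸ hx)
      rcases h2.1 with h | h
      · exact hne h
      · exact hl'i h.symm
    simp [hq.1, Ne.symm hq.1, hr.1, Ne.symm hr.1, hqr] at h0
  refine ⟨Equiv.ofBijective σ (Finite.injective_iff_bijective.1 hσinj), hg, fun x k l hx => ?_⟩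
  refine ⟨t x, rfl, fun h => hx.1 (hσinj h), ?_⟩
  show c.cc hA (t x) = e (σ k) + e (σ l)
  obtain ⟨q, hq⟩ := hσ k l (Ne.symm hx.1) x hx
  obtain ⟨r, hr⟩ := hσ l k hx.1 x (f.pr_symm hx)
  rcases (f.pr_unique hq hr).1 with h | h
  · exact absurd (hσinj h) (Ne.symm hx.1)
  · rw [hq.2, ← h]


theorem wsp_fx {w : G} (hw : w ∈ f.wsp) (h : w ∈ fx V f.grp) : w = 1 := by
  have h1 := f.sec_psi hw
  rw [(f.mem_fx_grp (f.wsp_le hw)).1 h, f.sec_zero] at h1
  exact h1.symm

theorem two_centres : ∃ u w, (u ∈ f.wsp ∧ u ≠ 1) ∧ (w ∈ f.wsp ∧ w ≠ 1) ∧ u⁻¹ * w ≠ 1 := by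
  obtain ⟨k, -, -⟩ := f.exists_third f.o f.o
  obtain ⟨l, hlk, -⟩ := f.exists_third k k
  obtain ⟨m, hmk, hml⟩ := f.exists_third k l
  obtain ⟨x, hx⟩ := f.exists_pr (Ne.symm hlk)
  obtain ⟨y, hy⟩ := f.exists_pr (Ne.symm hmk)
  refine ⟨_, _, ⟨f.ctr_wsp hx, c.ctr_ne_one hA x⟩, ⟨f.ctr_wsp hy, c.ctr_ne_one hA y⟩, fun h => ?_⟩
  rw [inv_mul_eq_one] at h
  have hxy : x = y := (c.sys hA).inj (funext fun z => by
    show phi (z : G) (c.ctr hA x) = phi (z : G) (c.ctr hA y)
    rw [h])
  rcases (f.pr_unique hx (hxy ▸ hy)).2 with h' | h'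
  · exact hmk h'
  · exact hml h'

theorem fix_symm (hC : Comp V P T f.grp) {K : Subgroup G} (hKT : K ≤ T)
    (hK : ∀ k ∈ K, cj k f.grp = f.grp) :
    ∃ w ∈ brk V f.grp, w ∈ fx V K ∧ w ∉ fx V f.grp := by
  have hKn : K ≤ normalizer (f.wsp : Set G) := fun k hk => mem_normalizer_iff_cj.2 (by
    rw [← f.brk_grp, cj_brk (c.norm_mem (hC.T_le (hKT hk))), hK k hk])
  have hp' : IsPGroup 2 f.wsp := fun w =>
    ⟨1, Subtype.ext (by simpa using c.env.elem.2 _ (f.wsp_le w.2))⟩
  have hne : f.wsp ≠ ⊥ := by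
    obtain ⟨u, -, ⟨hu, hu1⟩, -, -⟩ := f.two_centres
    intro h
    rw [h, Subgroup.mem_bot] at hu
    exact hu1 hu
  obtain ⟨w, hw, hw1, hwK⟩ := H80.MP.exists_fixed_elem
    (H10.elementaryAbelian_of_le c.env.elem f.wsp_le) (c.env.pm.pgroup.to_le hKT) hKn hne
  exact ⟨w, f.brk_grp.symm ▸ hw, ⟨f.wsp_le hw, mem_centralizer_iff.2 hwK⟩,
    fun h => hw1 (f.wsp_fx hw h)⟩

theorem rich_symm (hC : Comp V P T f.grp) {K : Subgroup G}
    (hKN : K ≤ comps T f.grp) (hK : Off 2 V P K) {a : G} (ha : a ∈ T) (hne : cj a f.grp ≠ f.grp)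
    (hcomm : ∀ k ∈ K, k * a = a * k) :
    ∃ w₁ w₂, (w₁ ∈ brk V f.grp ∧ w₁ ∈ fx V K ∧ w₁ ∉ fx V f.grp) ∧
      (w₂ ∈ brk V f.grp ∧ w₂ ∈ fx V K ∧ w₂ ∉ fx V f.grp) ∧ w₁⁻¹ * w₂ ∉ fx V f.grp := by
  have hEV := f.grp_le
  -- the components of the elements of `K` are trivial
  have htriv : K ≤ others T f.grp := by
    intro x hx
    obtain ⟨e', he, y, hy, rfl⟩ := c.comps_split hC (hKN hx)
    have hey := c.others_comm hC he hy
    have he2 : e' ^ 2 = 1 := by
      have h1 := hK.2.1.2 _ hx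
      rw [(show Commute e' y from hey).mul_pow] at h1
      exact (c.split_unique hC (pow_mem he 2) (one_mem _) (pow_mem hy 2) (one_mem _)
        (by rw [h1, one_mul])).1
    have hcK : ∀ k ∈ K, e' * k = k * e' := by
      intro k hk
      obtain ⟨d, hd, z, hz, rfl⟩ := c.comps_split hC (hKN hk)
      have hdy := c.others_comm hC hd hy
      have hez := c.others_comm hC he hz
      have h1 := H10.comm_of_elem hK.2.1 hx hk
      have h2 : e' * d = d * e' := (c.split_unique hC (mul_mem he hd) (mul_mem hd he) (mul_mem hy hz)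
        (mul_mem hz hy) (calc e' * d * (y * z) = e' * (d * y) * z := by group
          _ = e' * (y * d) * z := by rw [hdy]
          _ = e' * y * (d * z) := by group
          _ = d * z * (e' * y) := h1
          _ = d * (z * e') * y := by group
          _ = d * (e' * z) * y := by rw [hez]
          _ = d * e' * (z * y) := by group)).1
      calc e' * (d * z) = e' * d * z := by group
        _ = d * (e' * z) := by rw [h2]; group
        _ = d * z * e' := by rw [hez]; group
    have hfixK : fx V K ≤ fx V (zpowers e') := by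
      intro v hv
      refine ⟨hv.1, mem_centralizer_iff.2 fun g hg => ?_⟩
      suffices h : e' * v = v * e' by
        obtain ⟨i, rfl⟩ := mem_zpowers_iff.1 hg
        exact ((show Commute e' v from h).zpow_left i).eq
      obtain ⟨w, hw, z, hz, rfl⟩ := f.split v hv.1
      have heP := hEV he
      have hyP := c.others_le hC hy
      have hyw : y * w * y⁻¹ = w := by
        rw [← mem_centralizer_iff.1 (c.others_le_centralizer hC hy).2 w hw, mul_inv_cancel_right]
      have hy' : cj y f.grp = f.grp := mem_normalizer_iff_cj.1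
        (centralizer_le_normalizer _ (c.others_le_centralizer hC hy).1)
      have hyz := Ctx.fx_stab (c.norm_mem hyP) hy' hz
      have hzf : e' * (y * z * y⁻¹) * e'⁻¹ = y * z * y⁻¹ := fx_conj hyz he
      have hxv := fx_conj hv hx
      have h1 : e' * w * e'⁻¹ * (y * z * y⁻¹) = w * z := by
        conv_rhs => rw [← hxv]
        calc e' * w * e'⁻¹ * (y * z * y⁻¹) = e' * (y * w * y⁻¹) * e'⁻¹ * (e' * (y * z * y⁻¹) * e'⁻¹) := by
              rw [hyw, hzf]
          _ = e' * y * (w * z) * (e' * y)⁻¹ := by group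
      have hwV : w ∈ V := c.brk_E_V hC hw
      have hew : ⁅e', w⁆ ∈ brk V f.grp := mem_brk he hwV
      have h2 : ⁅e', w⁆ = z * (y * z * y⁻¹)⁻¹ := by
        rw [commutatorElement_def, eq_mul_inv_iff_mul_eq]
        have hV1 : e' * w * e'⁻¹ ∈ V := c.conj_V heP hwV
        calc e' * w * e'⁻¹ * w⁻¹ * (y * z * y⁻¹)
            = w⁻¹ * (e' * w * e'⁻¹) * (y * z * y⁻¹) := by
              rw [H10.comm_of_elem c.env.elem hV1 (inv_mem hwV)]
          _ = z := by rw [mul_assoc, h1, inv_mul_cancel_left]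
      have h3 : ⁅e', w⁆ = 1 := f.wsp_fx (f.brk_grp ▸ hew) (h2 ▸ mul_mem hz (inv_mem hyz))
      exact ((show Commute e' w from commutatorElement_eq_one_iff_mul_comm.1 h3).mul_right
        (show Commute e' z from fx_comm hz he)).eq
    -- `e'` can be added to `K`
    have hz2 : Cfsg.IsElementaryAbelian 2 (zpowers e') := by
      refine ⟨inferInstance, ?_⟩
      rintro _ ⟨i, rfl⟩
      rw [← zpow_natCast, ← zpow_mul, mul_comm, zpow_mul, zpow_natCast, he2, one_zpow]
    have hYP : K ⊔ zpowers e' ≤ P := sup_le hK.1 (zpowers_le.2 (hEV he))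
    have hYel := H10.elementaryAbelian_sup hK.2.1 hz2 fun k hk g hg => by
      obtain ⟨i, rfl⟩ := mem_zpowers_iff.1 hg
      exact ((show Commute e' k from hcK k hk).zpow_left i).eq.symm
    have hex := c.exact_of hYP hYel
    have hYK : K ⊔ zpowers e' = K := by
      refine (Subgroup.eq_of_le_of_card_ge le_sup_left ?_).symm
      refine Nat.le_of_mul_le_mul_right ((Nat.mul_le_mul_left _ ?_).trans (hex.trans hK.2.2))
        (Nat.card_pos : 0 < Nat.card (fx V K))
      exact Subgroup.card_le_of_le fun v hv => fx_mem_sup hv (hfixK hv)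
    have heK : e' ∈ K := hYK ▸ mem_sup_right (mem_zpowers e')
    have hea : e' ∈ others T f.grp := by
      have h1 : a * e' * a⁻¹ = e' := by rw [← hcomm e' heK, mul_inv_cancel_right]
      refine (le_iSup₂ (f := fun t (_ : t ∈ {t | t ∈ T ∧ cj t f.grp ≠ f.grp}) => cj t f.grp) a
        ⟨ha, hne⟩) (h1 ▸ H70.mem_cj.2 ?_)
      simpa [mul_assoc] using he
    rw [c.eq_one_of_others hC he hea, one_mul]
    exact hy
  obtain ⟨u, w, ⟨hu, hu1⟩, ⟨hw, hw1⟩, huw⟩ := f.two_centres
  have hfx : ∀ {u}, u ∈ f.wsp → u ∈ fx V K := fun {u} hu => ⟨f.wsp_le hu,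
    mem_centralizer_iff.2 fun k hk => (mem_centralizer_iff.1
      (c.others_le_centralizer hC (htriv hk)).2 u (f.brk_grp.symm ▸ hu)).symm⟩
  exact ⟨u, w, ⟨f.brk_grp.symm ▸ hu, hfx hu, fun h => hu1 (f.wsp_fx hu h)⟩,
    ⟨f.brk_grp.symm ▸ hw, hfx hw, fun h => hw1 (f.wsp_fx hw h)⟩,
    fun h => huw (f.wsp_fx (mul_mem (inv_mem hu) hw) h)⟩

theorem local_symm {a : G} (ha : a ∈ P) (ha2 : a ^ 2 = 1) (han : cj a f.grp = f.grp) :
    ∃ x ∈ f.grp, x ^ 2 = 1 ∧ a * x = x * a ∧ a * x⁻¹ ∈ centralizer (f.grp : Set G) := by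
  obtain ⟨σ, hσ⟩ := f.exists_compat_three ha han
  obtain ⟨ρ, hρ⟩ := f.exists_iso
  set g := ρ.symm σ with hg
  have hgσ : Compat c hA e (g : G) σ := by
    have := hρ g
    rwa [hg, MulEquiv.apply_symm_apply] at this
  have hσ2 : σ * σ = 1 := by
    have := f.compat_mul hσ hσ
    rw [← pow_two, ha2] at this
    exact (f.compat_eq this f.compat_one)
  refine ⟨g, g.2, ?_, ?_, ?_⟩
  · have h1 : g * g = 1 := ρ.injective (by
      rw [_root_.map_mul, _root_.map_one, hg, MulEquiv.apply_symm_apply, hσ2])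
    rw [pow_two]
    exact congrArg Subtype.val h1
  · have hmem : a * (g : G) * a⁻¹ ∈ f.grp := by
      have h0 : a * (g : G) * a⁻¹ ∈ cj a f.grp := H70.mem_cj.2 (by simp [mul_assoc])
      rwa [han] at h0
    have h1 := f.compat_eq (hρ ⟨_, hmem⟩) (f.compat_mul (f.compat_mul hσ hgσ) (f.compat_inv hσ))
    rw [mul_inv_cancel_right] at h1
    have h2 : (⟨a * (g : G) * a⁻¹, hmem⟩ : f.grp) = g :=
      ρ.injective (by rw [h1, hg, MulEquiv.apply_symm_apply])
    exact mul_inv_eq_iff_eq_mul.1 (congrArg Subtype.val h2)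
  · have hh := f.compat_mul hσ (f.compat_inv hgσ)
    rw [mul_inv_cancel] at hh
    set h := a * (g : G)⁻¹
    have hle : f.grp ≤ centralizer ({h} : Set G) := by
      refine (closure_le _).2 ?_
      rintro _ ⟨x, ⟨k, l, hkl, hx⟩, rfl⟩
      obtain ⟨x', hx', hx''⟩ := hh.2 x k l ⟨hkl, hx⟩
      rw [f.pr_inj hx'' ⟨hkl, hx⟩] at hx'
      exact mem_centralizer_singleton_iff.2 (eq_mul_inv_iff_mul_eq.1 hx')
    exact mem_centralizer_iff.2 fun x hx => mem_centralizer_singleton_iff.1 (hle hx)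

end MaxFrame

end H78.PMin
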