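import Cfsg.Agent.H78.PMin.Setup
import Cfsg.Agent.H78.PMin.OffBig
import Cfsg.Agent.H78.PMin.BigMem
import Cfsg.Agent.H78.PMin.OffSymm

/-!
The components contain all elementary offenders.
-/

set_option autoImplicit false
set_option linter.unusedSectionVars false
set_option linter.style.haveILetI false

open Subgroup
open scoped commutatorElement MatrixGroups
open H70 (cj)

namespace H78.PMin

variable {G : Type*} [Group G] [Finite G] {p : ℕ} [Fact p.Prime] {V P T M A : Subgroup G}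

theorem Ctx.off_le (c : Ctx p V P T M A) {E : Subgroup G} (hC : Comp V P T E)
    (hfix : ∀ K ≤ T, (∀ k ∈ K, cj k E = E) → ∃ w ∈ brk V E, w ∈ fx V K ∧ w ∉ fx V E)
    (hrich : p = 2 → ∀ K ≤ T, K ≤ comps T E → Off p V P K →
      (∃ a ∈ T, cj a E ≠ E ∧ ∀ k ∈ K, k * a = a * k) →
      ∃ w₁ w₂, (w₁ ∈ brk V E ∧ w₁ ∈ fx V K ∧ w₁ ∉ fx V E) ∧
        (w₂ ∈ brk V E ∧ w₂ ∈ fx V K ∧ w₂ ∉ fx V E) ∧ w₁⁻¹ * w₂ ∉ fx V E)
    (hlocal : ∀ B : Subgroup G, Off p V P B → B ≤ T → (∀ a ∈ B, cj a E = E) → ∀ a ∈ B,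
      ∃ e ∈ E, e ^ p = 1 ∧ a * e = e * a ∧ a * e⁻¹ ∈ centralizer (E : Set G))
    {B : Subgroup G} (hB : Off p V P B) : B ≤ comps T E := by
  induction hn : Nat.card B using Nat.strong_induction_on generalizing B with
  | _ k ih =>
  obtain ⟨g, hg, hle⟩ := exists_conj_into c.env.pm.sylow hB.1
    (fun x => ⟨1, Subtype.ext (by simpa using hB.2.1.2 _ x.2)⟩)
  set B' := cj g⁻¹ B
  have hB' : Off p V P B' := c.off_conj hB (inv_mem hg)
  have hB'T : B' ≤ T := (H70.cj_mono _ hle).trans (cj_cancel' g T).le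
  suffices h : B' ≤ comps T E by
    rw [← cj_cancel g B, ← mem_normalizer_iff_cj.1 (c.comps_norm hC hg)]
    exact H70.cj_mono g h
  refine c.off_le_of_local hC hB' hB'T fun t ht a ha => ?_
  set C := cj t⁻¹ B'
  have hC' : Off p V P C := c.off_conj hB' (hC.T_le (inv_mem ht))
  have hCT : C ≤ T := cj_le (inv_mem ht) hB'T
  have hih : ∀ D ≤ C, D ≠ C → Off p V P D → D ≤ comps T E := fun D hD hne hoff =>
    ih _ (by
      rw [← hn, ← H70.card_cj g⁻¹ B, ← H70.card_cj t⁻¹ (cj g⁻¹ B)]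
      exact lt_of_le_of_ne (Subgroup.card_le_of_le hD) fun he =>
        hne (Subgroup.eq_of_le_of_card_ge hD he.ge)) hoff rfl
  obtain ⟨e, he, hep, hea, hec⟩ := hlocal C hC' hCT (c.off_stab hC hC' hCT hih hfix hrich)
    (t⁻¹ * a * t) (H70.mem_cj.2 (by simpa [mul_assoc] using ha))
  refine ⟨t * e * t⁻¹, H70.mem_cj.2 (by simpa [mul_assoc] using he), ?_, ?_, ?_⟩
  · rw [conj_pow, hep]; group
  · calc a * (t * e * t⁻¹) = t * (t⁻¹ * a * t * e) * t⁻¹ := by group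
      _ = t * (e * (t⁻¹ * a * t)) * t⁻¹ := by rw [hea]
      _ = _ := by group
  · rw [← cj_centralizer, H70.mem_cj,
      show t⁻¹ * (a * (t * e * t⁻¹)⁻¹) * t = t⁻¹ * a * t * e⁻¹ by group]
    exact hec

/-- The structure theorem, with all offenders inside the product of the components. -/
theorem Ctx.exists_comp_off (c : Ctx p V P T M A) :
    ∃ E, Comp V P T E ∧ (∀ t ∈ T, IsPiece p V (cj t E)) ∧
      E ≤ sSup {X | Mem P A X} ∧ ∀ B, Off p V P B → B ≤ comps T E := by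
  obtain ⟨k, hk⟩ := c.mem.pgroup.exists_card_eq
  have hk1 : 1 ≤ k := by
    rcases k with _ | k
    · exact absurd (Subgroup.card_eq_one.1 (by simpa using hk)) c.mem.ne
    · omega
  have htwo : 2 ≤ Nat.card A := by
    rw [hk]
    exact le_trans (Fact.out : p.Prime).two_le (Nat.le_self_pow (by omega) p)
  by_cases h2 : 2 < Nat.card A
  · obtain ⟨E, hE, D, F, iF, iFf, ⟨hcard, hD, hDT⟩, ⟨b⟩⟩ := c.comp_big' h2
    refine ⟨E, hE, fun t ht => ⟨k, hk1, Or.inl ⟨F, iF, iFf, hcard.trans hk, ?_⟩⟩, ?_,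
      fun B hB => c.off_le hE (fun K hKT hK => c.fix_big b hE hD hDT hKT hK)
        (fun _ K hKT hKN _ _ => c.rich_big b hE hD hDT hcard h2 hKT hKN)
        (fun C hC hCT hCE => c.local_big b hE hD hDT hcard hC hCT hCE) hB⟩
    · obtain ⟨b'⟩ := b.exists_map (c.norm_mem (c.env.pm.T_le ht))
      exact b'.acts
    · rw [← b.sup_opp]
      exact sup_le (le_sSup hD) (le_sSup (c.opp_mem b hE.le hD))
  have hA : Nat.card A = 2 := by omega
  obtain rfl : p = 2 := by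
    have hd : p ∣ 2 := hA ▸ hk ▸ dvd_pow_self p (by omega)
    exact (Nat.prime_dvd_prime_iff_eq Fact.out Nat.prime_two).1 hd
  obtain ⟨n, e, f, hE, m, hm, rfl⟩ := c.comp_two hA
  refine ⟨f.grp, hE, fun t ht => ⟨m, hm, Or.inr ⟨rfl, ?_⟩⟩, (closure_le _).2 ?_,
    fun B hB => c.off_le hE (fun K hKT hK => f.fix_symm hE hKT hK)
      (fun _ K _ hKN hK ⟨a, ha, hne, hcomm⟩ => f.rich_symm hE hKN hK ha hne hcomm)
      (fun C hC _ hCE a ha => f.local_symm (hC.1 ha) (hC.2.1.2 a ha) (hCE a ha)) hB⟩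
  swap
  · rintro _ ⟨x, -, rfl⟩
    exact le_sSup (show zpowers (x : G) ∈ {X | Mem P A X} from x.2) (mem_zpowers _)
  have hacts := f.acts
  rw [← brk_eq_commutator] at hacts
  obtain ⟨⟨ρ⟩, hn, hle, ρ', ψ, hr, hψ0, hsur, hker, hact⟩ := hacts
  have htV := c.norm_mem (c.env.pm.T_le ht)
  let ε : ↥(cj t f.grp) ≃* ↥f.grp := (f.grp.equivMapOfInjective _ (MulAut.conj t).injective).symm
  have hε : ∀ g : ↥(cj t f.grp), (ε g : G) = t⁻¹ * (g : G) * t := fun g => by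
    obtain ⟨y, rfl⟩ := ε.symm.surjective g
    rw [MulEquiv.apply_symm_apply]
    show (y : G) = t⁻¹ * (t * (y : G) * t⁻¹) * t
    group
  refine ⟨⟨ε.trans ρ⟩, ?_⟩
  rw [← brk_eq_commutator]
  have hU : ∀ {u}, u ∈ brk V (cj t f.grp) ↔ t⁻¹ * u * t ∈ brk V f.grp := fun {u} => by
    rw [← cj_brk htV, H70.mem_cj]
  let δ : ↥(brk V (cj t f.grp)) →* ↥(brk V f.grp) :=
    MonoidHom.mk' (fun u => ⟨t⁻¹ * (u : G) * t, hU.1 u.2⟩) fun u v => Subtype.ext (by simp [mul_assoc])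
  refine ⟨fun g hg => mem_normalizer_iff_cj.2 (by
      rw [cj_brk (c.norm_mem (cj_le (c.env.pm.T_le ht) f.grp_le hg)), H70.cj_of_mem hg]), inf_le_left,
    ρ'.comp ε.toMonoidHom, ψ.comp δ, ?_, fun u => hψ0 _, fun v hv => ?_, fun u => ?_, fun g u => ?_⟩
  · rw [MonoidHom.range_comp, MonoidHom.range_eq_top.2 ε.surjective, ← MonoidHom.range_eq_map, hr]
  · obtain ⟨u, hu⟩ := hsur v hv
    refine ⟨⟨t * (u : G) * t⁻¹, hU.2 (by simp [mul_assoc])⟩, ?_⟩
    rw [← hu]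
    show Multiplicative.toAdd (ψ _) = _
    congr 2
    exact Subtype.ext (show t⁻¹ * (t * (u : G) * t⁻¹) * t = u by group)
  · show ψ (δ u) = 1 ↔ _
    rw [hker]
    show t⁻¹ * (u : G) * t ∈ brk V f.grp ⊓ centralizer (f.grp : Set G) ↔ _
    simp only [Subgroup.mem_inf, hU.1 u.2, u.2, true_and]
    rw [← cj_centralizer, H70.mem_cj]
  · obtain ⟨w, hw, hwe⟩ := hact (ε g) (δ u)
    refine ⟨⟨t * (w : G) * t⁻¹, hU.2 (by simp [mul_assoc])⟩, ?_, fun i => ?_⟩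
    · show t * (w : G) * t⁻¹ = (g : G) * u * (g : G)⁻¹
      rw [hw, hε g]
      show t * (t⁻¹ * (g : G) * t * (t⁻¹ * (u : G) * t) * (t⁻¹ * (g : G) * t)⁻¹) * t⁻¹ = _
      group
    · show Multiplicative.toAdd (ψ (δ _)) i = _
      rw [show δ ⟨t * (w : G) * t⁻¹, hU.2 (by simp [mul_assoc])⟩ = w from
        Subtype.ext (show t⁻¹ * (t * (w : G) * t⁻¹) * t = w by group)]
      exact hwe i

end H78.PMin
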