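import Cfsg.Agent.H78.PMin.Commuting

/-!
Points: the members commuting with all but one member of a Sylow subgroup, and the blocks spanned
by two of them at different points.
-/

set_option autoImplicit false
set_option linter.unusedSectionVars false
set_option linter.unusedSimpArgs false
set_option linter.style.haveILetI false

open Subgroup
open scoped commutatorElement MatrixGroups
open H70 (cj)

namespace H78.PMin

variable {G : Type*} [Group G] [Finite G]

namespace Block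

variable {V L A : Subgroup G} {F : Type} [Field F] (b : Block V L A F)
include b

/-- Upper triangular elements normalise the root group. -/
theorem borel_norm {g : L} (hg : (b.ρ g : Matrix (Fin 2) (Fin 2) F) 1 0 = 0) :
    cj (g : G) A = A := by
  refine H70.eq_of_cj_le fun y hy => ?_
  have ha := H70.mem_cj.1 hy
  have hdet : Matrix.det (b.ρ g : Matrix (Fin 2) (Fin 2) F) = 1 := (b.ρ g).2
  rw [Matrix.det_fin_two, hg, mul_zero, sub_zero] at hdet
  have key : b.ρ (g * ⟨_, b.le ha⟩) = H98.uu ((b.ρ g : Matrix (Fin 2) (Fin 2) F) 0 0 * (b.ρ g : Matrix (Fin 2) (Fin 2) F) 0 0 * b.par ha) * b.ρ g := by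
    rw [_root_.map_mul, b.par_spec ha]
    refine Subtype.ext ?_
    ext i j
    fin_cases i <;> fin_cases j <;>
      simp [H98.coe_uu, Matrix.mul_apply, Fin.sum_univ_two, hg] <;>
      linear_combination (-(b.par ha) * (b.ρ g : Matrix (Fin 2) (Fin 2) F) 0 0) * hdet
  have h2 := (b.upper (g * ⟨_, b.le ha⟩ * g⁻¹)).2 ⟨_, by
    rw [_root_.map_mul, key, _root_.map_inv, mul_inv_cancel_right]⟩
  simpa [mul_assoc] using h2

/-- The opposite root group moved by a root element is moved from the root group. -/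
theorem exists_opp_conj {a : G} (ha : a ∈ A) (h1 : a ≠ 1) :
    ∃ o ∈ b.opp, cj a b.opp = cj o A := by
  set s := b.par ha
  have hs : s ≠ 0 := b.par_ne_zero ha h1
  let o : L := b.ρ.symm (H98.ll s⁻¹)
  have hg := b.borel_norm (g := o⁻¹ * ⟨a, b.le ha⟩ * b.weyl) (by
    rw [_root_.map_mul, _root_.map_mul, _root_.map_inv, b.par_spec ha,
      show b.ρ b.weyl = _ from b.ρ.apply_symm_apply _,
      show b.ρ o = _ from b.ρ.apply_symm_apply _,
      show (H98.ll s⁻¹)⁻¹ = H98.ll (-s⁻¹) from inv_eq_of_mul_eq_one_right (Subtype.ext (by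
        ext i j; fin_cases i <;> fin_cases j <;>
          simp [H98.coe_ll, Matrix.mul_apply, Fin.sum_univ_two]))]
    simp [H98.coe_uu, H98.coe_ll, H78.Nat2.coe_ww, Matrix.mul_apply, Fin.sum_univ_two, s, hs])
  refine ⟨(o : G), ?_, ?_⟩
  · have h2 : (b.weyl : G) * (b.root (-s⁻¹) : G) * (b.weyl : G)⁻¹ ∈ b.opp := by
      rw [opp, H70.mem_cj]; simpa [mul_assoc] using b.root_mem (-s⁻¹)
    have h3 : b.weyl * b.root (-s⁻¹) * b.weyl⁻¹ = o := by
      apply b.ρ.injective
      rw [_root_.map_mul, _root_.map_mul, _root_.map_inv, b.root_spec,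
        show b.ρ b.weyl = _ from b.ρ.apply_symm_apply _,
        show b.ρ o = _ from b.ρ.apply_symm_apply _, mul_inv_eq_iff_eq_mul]
      refine Subtype.ext ?_
      ext i j
      fin_cases i <;> fin_cases j <;>
        simp [H78.Nat2.coe_ww, H98.coe_uu, H98.coe_ll, Matrix.mul_apply, Fin.sum_univ_two]
    rw [← h3]
    simpa using h2
  · conv_rhs => rw [← hg]
    rw [opp, H70.cj_cj, H70.cj_cj]
    congr 1
    simp [mul_assoc]

/-- The block with a conjugate root group. -/
theorem exists_conj (l : L) : Nonempty (Block V L (cj (l : G) A) F) := by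
  have hl : (l : G)⁻¹ ∈ L := inv_mem l.2
  refine ⟨{
    ψ := fun v => b.ψ ((l : G)⁻¹ * v * (l : G))
    ρ := (MulAut.conj l⁻¹).trans b.ρ
    norm := b.norm
    map_mul := fun u hu v hv => by
      rw [show (l : G)⁻¹ * (u * v) * (l : G) = (l : G)⁻¹ * u * l * ((l : G)⁻¹ * v * l) by group]
      exact b.map_mul _ (by simpa using b.conj_mem hl hu) _ (by simpa using b.conj_mem hl hv)
    surj := fun t => by
      obtain ⟨v, hv, he⟩ := b.surj t
      refine ⟨(l : G) * v * (l : G)⁻¹, b.conj_mem l.2 hv, ?_⟩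
      rwa [show (l : G)⁻¹ * ((l : G) * v * (l : G)⁻¹) * (l : G) = v by group]
    zero_iff := fun v hv => by
      rw [b.zero_iff _ (by simpa using b.conj_mem hl hv)]
      constructor
      · intro h
        have := fx_conj h l.2
        rw [show (l : G) * ((l : G)⁻¹ * v * l) * (l : G)⁻¹ = v by group] at this
        rwa [← this] at h
      · intro h
        have := fx_conj h hl
        rw [inv_inv] at this
        rwa [this]
    equiv := fun x v hv => by
      have h1 := b.equiv (l⁻¹ * x * l) ((l : G)⁻¹ * v * l) (by simpa using b.conj_mem hl hv)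
      simp only [MulEquiv.trans_apply, MulAut.conj_apply, inv_inv]
      rw [← h1]
      congr 1
      simp [mul_assoc]
    upper := fun x => by
      simp only [MulEquiv.trans_apply, MulAut.conj_apply, inv_inv]
      rw [← b.upper, H70.mem_cj]
      simp
    le := cj_le l.2 b.le }⟩

/-- Every vector lies on a line. -/
theorem cover {p : ℕ} [Fact p.Prime] (hquad : ∀ a ∈ A, ∀ v ∈ V, ⁅a, v⁆ ∈ fx V A)
    {v : G} (hv : v ∈ V) : v ∈ fx V A ∨ ∃ a ∈ A, v ∈ fx V (cj a b.opp) := by
  by_cases h1 : b.ψ v 1 = 0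
  · exact Or.inl ((b.mem_fx_iff hquad hv).2 h1)
  refine Or.inr ⟨_, b.root_mem (b.ψ v 0 / b.ψ v 1), ?_⟩
  set r := b.root (b.ψ v 0 / b.ψ v 1)
  have hv' : (r : G)⁻¹ * v * r ∈ V := by simpa using b.conj_mem (inv_mem r.2) hv
  rw [← cj_fx (b.norm r.2), H70.mem_cj, b.mem_fx_opp_iff hquad hv']
  have h2 := congrFun (b.equiv r⁻¹ v hv) 0
  rw [_root_.map_inv, b.root_spec, show (H98.uu (b.ψ v 0 / b.ψ v 1))⁻¹ =
    H98.uu (-(b.ψ v 0 / b.ψ v 1)) from inv_eq_of_mul_eq_one_right (Subtype.ext (by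
      ext i j; fin_cases i <;> fin_cases j <;>
        simp [H98.coe_uu, Matrix.mul_apply, Fin.sum_univ_two]))] at h2
  simp [H98.coe_uu, Matrix.mulVec, dotProduct, Fin.sum_univ_two] at h2
  rw [h2]
  field_simp
  ring

theorem card_V [Fintype F] :
    Nat.card V = Fintype.card F * Fintype.card F * Nat.card (fx V L) := by
  let sec : (Fin 2 → F) → G := fun t => Classical.choose (b.surj t)
  have hsec : ∀ t, sec t ∈ V ∧ b.ψ (sec t) = t := fun t => Classical.choose_spec (b.surj t)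
  let f : (Fin 2 → F) × fx V L → V := fun x => ⟨sec x.1 * x.2, mul_mem (hsec _).1 x.2.2.1⟩
  have hψ : ∀ x, b.ψ (f x : G) = x.1 := fun x => by
    show b.ψ (sec x.1 * x.2) = _
    rw [b.map_mul _ (hsec _).1 _ x.2.2.1, (hsec _).2, (b.zero_iff _ x.2.2.1).2 x.2.2, add_zero]
  have hf : Function.Bijective f := by
    refine ⟨fun x y h => ?_, fun v => ?_⟩
    · have h1 : x.1 = y.1 := by rw [← hψ x, h, hψ y]
      have h2 : sec x.1 * x.2 = sec y.1 * (y.2 : G) := congrArg Subtype.val h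
      rw [h1] at h2
      exact Prod.ext h1 (Subtype.ext (mul_left_cancel h2))
    · refine ⟨(b.ψ v, ⟨(sec (b.ψ v))⁻¹ * v, b.eq_of_map_eq (hsec _).1 v.2 (hsec _).2⟩),
        Subtype.ext ?_⟩
      show sec (b.ψ v) * ((sec (b.ψ v))⁻¹ * v) = v
      group
  rw [← Nat.card_congr (Equiv.ofBijective f hf), Nat.card_prod, Nat.card_fun,
    Nat.card_eq_fintype_card (α := Fin 2), Fintype.card_fin, Nat.card_eq_fintype_card (α := F), sq]

end Block

variable {p : ℕ} {V P T M A : Subgroup G}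

/-- The members in `R` other than `D`. -/
def jset (P A R D : Subgroup G) : Set (Subgroup G) := {X | Mem P A X ∧ X ≤ R ∧ X ≠ D}

/-- A member `D` in `T`. -/
structure Base (p : ℕ) (V P T M A D : Subgroup G) : Prop where
  ctx : Ctx p V P T M A
  mem : Mem P A D
  le_T : D ≤ T
  two : 2 < Nat.card A

/-- The product of the other members in `T`. -/
def jm (P A T D : Subgroup G) : Subgroup G := sSup (jset P A T D)

/-- Its centraliser. -/
def hc (P A T D : Subgroup G) : Subgroup G := P ⊓ centralizer (jm P A T D : Set G)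

/-- The conjugates of `D` under it. -/
abbrev Near (P A T D X : Subgroup G) : Prop := Cnjs (hc P A T D) D X

/-- Having the same point. -/
def Same (P A T M D X Y : Subgroup G) : Prop :=
  ∃ h k, h ∈ hc P A T D ∧ k ∈ hc P A T D ∧ cj h D = X ∧ cj k D = Y ∧ cj h M = cj k M

namespace Base

variable [Fact p.Prime] {D : Subgroup G} (s : Base p V P T M A D)
include s

theorem jm_le : jm P A T D ≤ T := sSup_le fun _ hX => hX.2.1

theorem hc_le : hc P A T D ≤ P := inf_le_left

theorem jm_comm : jm P A T D ≤ centralizer (jm P A T D : Set G) := by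
  refine sSup_le fun X hX => ?_
  rw [Subgroup.le_centralizer_iff]
  refine sSup_le fun Y hY => ?_
  intro y hy
  exact mem_centralizer_iff.2 fun x hx =>
    s.ctx.comm_of_pgroup hX.1 hY.1 s.ctx.env.pm.pgroup hX.2.1 hY.2.1 x hx y hy

theorem jm_hc : jm P A T D ≤ hc P A T D := le_inf (s.jm_le.trans s.ctx.env.pm.T_le) s.jm_comm

theorem mem_hc_iff {g : G} : g ∈ hc P A T D ↔
    g ∈ P ∧ ∀ X ∈ jset P A T D, ∀ x ∈ X, x * g = g * x := by
  constructor
  · exact fun hg => ⟨hg.1, fun X hX x hx => mem_centralizer_iff.1 hg.2 x (le_sSup (s := jset P A T D) hX hx)⟩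
  · rintro ⟨hg, h⟩
    refine Subgroup.mem_inf.2 ⟨hg, mem_centralizer_iff.2 fun x hx => ?_⟩
    have : jm P A T D ≤ centralizer ({g} : Set G) := sSup_le fun X hX x hx =>
      mem_centralizer_singleton_iff.2 (h X hX x hx)
    exact mem_centralizer_singleton_iff.1 (this hx)

theorem D_hc : D ≤ hc P A T D := fun d hd => s.mem_hc_iff.2
  ⟨(s.ctx.minOff s.mem).le hd, fun _ hX x hx =>
    s.ctx.comm_of_pgroup hX.1 s.mem s.ctx.env.pm.pgroup hX.2.1 s.le_T x hx d hd⟩

theorem block_hc {L : Subgroup G} {F : Type} [Field F] [Fintype F] (b : Block V L D F)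
    (hLP : L ≤ P) (hq : Fintype.card F = Nat.card A) : L ≤ hc P A T D := by
  rw [← b.sup_opp]
  refine sup_le s.D_hc fun y hy => s.mem_hc_iff.2 ⟨hLP (b.opp_le hy), fun X hX x hx => ?_⟩
  exact (s.ctx.comm_opp b hLP hq s.two s.mem hX.1 hX.2.2.symm
    (s.ctx.comm_of_pgroup s.mem hX.1 s.ctx.env.pm.pgroup s.le_T hX.2.1) y hy x hx).symm

theorem cj_jm {h : G} (hh : h ∈ hc P A T D) : cj h (jm P A T D) = jm P A T D :=
  mem_normalizer_iff_cj.1 (centralizer_le_normalizer _ hh.2)

theorem near_self : Near P A T D D := ⟨1, one_mem _, H70.cj_of_mem (one_mem D)⟩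

theorem near_cj {X : Subgroup G} (hX : Near P A T D X) {g : G} (hg : g ∈ hc P A T D) :
    Near P A T D (cj g X) := by
  obtain ⟨h, hh, rfl⟩ := hX
  exact ⟨g * h, mul_mem hg hh, (H70.cj_cj g h D).symm⟩

theorem near_mem {X : Subgroup G} (hX : Near P A T D X) : Mem P A X := by
  obtain ⟨h, hh, rfl⟩ := hX
  exact s.ctx.cj_mem s.mem hh.1

theorem near_le {X : Subgroup G} (hX : Near P A T D X) : X ≤ hc P A T D := by
  obtain ⟨h, hh, rfl⟩ := hX
  exact cj_le hh s.D_hc

theorem near_not {X : Subgroup G} (hX : Near P A T D X) : X ∉ jset P A T D := by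
  intro h
  obtain ⟨g, hg, rfl⟩ := hX
  refine h.2.2 ?_
  have h1 : cj g (cj g D) = cj g D := mem_normalizer_iff_cj.1
    (centralizer_le_normalizer _ (mem_centralizer_iff.2 fun x hx => (s.mem_hc_iff.1 hg).2 _ h x hx))
  have := congrArg (cj g⁻¹) h1
  rwa [cj_cancel', cj_cancel'] at this

theorem card_members {k : G} (hk : k ∈ P) :
    {X | Mem P A X ∧ X ≤ cj k T}.ncard ≤ (jset P A T D).ncard + 1 := by
  refine le_trans ?_ (Set.ncard_insert_le D _)
  refine Set.ncard_le_ncard_of_injOn (cj k⁻¹) (fun X hX => ?_) (fun X _ Y _ he => ?_) (Set.toFinite _)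
  · by_cases he : cj k⁻¹ X = D
    · exact Or.inl he
    · exact Or.inr ⟨s.ctx.cj_mem hX.1 (inv_mem hk), (H70.cj_mono _ hX.2).trans (cj_cancel' k T).le, he⟩
  · rw [← cj_cancel k X, he, cj_cancel]

/-- A `p`-group contains at most one of the conjugates. -/
theorem eq_of_pgroup {X Y R : Subgroup G} (hX : Near P A T D X) (hY : Near P A T D Y)
    (hR : IsPGroup p R) (hXR : X ≤ R) (hYR : Y ≤ R) : X = Y := by
  by_contra hne
  have h1 : IsPGroup p ↥(X ⊔ Y ⊔ jm P A T D) :=
    (hR.to_le (sup_le hXR hYR)).to_sup_of_normal_right' (s.ctx.env.pm.pgroup.to_le s.jm_le)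
      ((sup_le ((s.near_le hX).trans inf_le_right) ((s.near_le hY).trans inf_le_right)).trans
        (centralizer_le_normalizer _))
  obtain ⟨k, hk, hle⟩ := exists_conj_into s.ctx.env.pm.sylow
    (sup_le (sup_le ((s.near_le hX).trans s.hc_le) ((s.near_le hY).trans s.hc_le))
      (s.jm_le.trans s.ctx.env.pm.T_le)) h1
  have hsub : insert X (insert Y (jset P A T D)) ⊆ {Z | Mem P A Z ∧ Z ≤ cj k T} := by
    rintro Z (rfl | rfl | hZ)
    · exact ⟨s.near_mem hX, le_trans (le_sup_left.trans le_sup_left) hle⟩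
    · exact ⟨s.near_mem hY, le_trans (le_sup_right.trans le_sup_left) hle⟩
    · exact ⟨hZ.1, ((le_sSup hZ).trans le_sup_right).trans hle⟩
  have h2 := (Set.ncard_le_ncard hsub (Set.toFinite _)).trans (s.card_members hk)
  rw [Set.ncard_insert_of_notMem (by simp [hne, s.near_not hX]),
    Set.ncard_insert_of_notMem (s.near_not hY)] at h2
  omega

theorem not_comm {X Y : Subgroup G} (hX : Near P A T D X) (hY : Near P A T D Y)
    (h : Ctx.Comm X Y) : X = Y :=
  s.eq_of_pgroup hX hY ((s.ctx.minOff (s.near_mem hY)).pgroup.to_sup_of_normal_right'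
    (s.ctx.minOff (s.near_mem hX)).pgroup fun _ hy => s.ctx.norm_of_comm h hy)
    le_sup_right le_sup_left

/-- Only one conjugate of `M` belongs to a member. -/
theorem pt_unique {h k : G} (hh : h ∈ hc P A T D) (hk : k ∈ P)
    (hle : cj h D ⊔ jm P A T D ≤ cj k T) : cj k M = cj h M := by
  set R := cj h D ⊔ jm P A T D with hR
  have hgen : ∀ {g : G}, g ∈ P → R ≤ cj g T → cj g T ≤ normalizer (R : Set G) := by
    intro g hg hRg
    have heq : gen P A (cj g T) = R := by
      have hsub : insert (cj h D) (jset P A T D) ⊆ {Z | Mem P A Z ∧ Z ≤ cj g T} := by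
        rintro Z (rfl | hZ)
        · exact ⟨s.ctx.cj_mem s.mem hh.1, le_sup_left.trans hRg⟩
        · exact ⟨hZ.1, ((le_sSup hZ).trans le_sup_right).trans hRg⟩
      have he := Set.eq_of_subset_of_ncard_le hsub (by
        rw [Set.ncard_insert_of_notMem (s.near_not ⟨h, hh, rfl⟩)]
        exact s.card_members hg) (Set.toFinite _)
      refine le_antisymm (sSup_le fun Z hZ => ?_) (sup_le (le_gen (s.ctx.cj_mem s.mem hh.1)
        (le_sup_left.trans hRg)) (sSup_le fun Z hZ => le_gen hZ.1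
          (((le_sSup hZ).trans le_sup_right).trans hRg)))
      rcases (he ▸ hZ : Z ∈ insert (cj h D) (jset P A T D)) with rfl | hZ'
      · exact le_sup_left
      · exact (le_sSup hZ').trans le_sup_right
    calc cj g T ≤ P ⊓ normalizer ((cj g T : Subgroup G) : Set G) :=
          le_inf (s.ctx.env.pm.conj_mem hg).T_le le_normalizer
      _ ≤ normalizer ((gen P A (cj g T) : Subgroup G) : Set G) := normalizer_le_normalizer_gen
      _ = _ := by rw [heq]
  have hRh : R ≤ cj h T := by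
    refine sup_le (H70.cj_mono _ s.le_T) ?_
    conv_lhs => rw [← s.cj_jm hh]
    exact H70.cj_mono _ s.jm_le
  have hpm := s.ctx.env.pm.conj_mem hh.1
  have hne : P ⊓ normalizer (R : Set G) ≠ P := fun he => by
    have h1 : R ≤ ⊥ := (H75.le_pCoreOf (hRh.trans hpm.T_le) (inf_eq_left.1 he)
      (hpm.pgroup.to_le hRh)).trans s.ctx.core_bot.le
    exact (s.ctx.minOff (s.ctx.cj_mem s.mem hh.1)).ne (le_bot_iff.1 (le_sup_left.trans h1))
  have hN := hpm.uniq _ (le_inf hpm.T_le (hgen hh.1 hRh)) inf_le_left hne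
  exact s.ctx.env.pm.cj_M_unique hk hh.1
    ((le_inf (s.ctx.env.pm.conj_mem hk).T_le (hgen hk hle)).trans hN)

theorem pt_wd {h k : G} (hh : h ∈ hc P A T D) (hk : k ∈ hc P A T D) (he : cj h D = cj k D) :
    cj h M = cj k M := by
  refine s.pt_unique hk hh.1 (sup_le (he ▸ H70.cj_mono _ s.le_T) ?_)
  conv_lhs => rw [← s.cj_jm hh]
  exact H70.cj_mono _ s.jm_le

theorem same_iff {h k : G} (hh : h ∈ hc P A T D) (hk : k ∈ hc P A T D) :
    Same P A T M D (cj h D) (cj k D) ↔ cj h M = cj k M :=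
  ⟨fun ⟨h', k', hh', hk', e1, e2, e⟩ => by rw [← s.pt_wd hh' hh e1, ← s.pt_wd hk' hk e2, e],
    fun e => ⟨h, k, hh, hk, rfl, rfl, e⟩⟩

theorem same_refl {X : Subgroup G} (hX : Near P A T D X) : Same P A T M D X X :=
  let ⟨h, hh, e⟩ := hX
  ⟨h, h, hh, hh, e, e, rfl⟩

theorem same_symm {X Y : Subgroup G} (hs : Same P A T M D X Y) : Same P A T M D Y X :=
  let ⟨h, k, hh, hk, e1, e2, e⟩ := hs
  ⟨k, h, hk, hh, e2, e1, e.symm⟩

theorem same_trans {X Y Z : Subgroup G} (h1 : Same P A T M D X Y) (h2 : Same P A T M D Y Z) :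
    Same P A T M D X Z := by
  obtain ⟨h, k, hh, hk, e1, e2, e⟩ := h1
  obtain ⟨k', l, hk', hl, f1, f2, f⟩ := h2
  exact ⟨h, l, hh, hl, e1, f2, by rw [e, s.pt_wd hk hk' (e2.trans f1.symm), f]⟩

theorem same_cj {X Y : Subgroup G} {g : G} (hg : g ∈ hc P A T D) (hs : Same P A T M D X Y) :
    Same P A T M D (cj g X) (cj g Y) := by
  obtain ⟨h, k, hh, hk, rfl, rfl, e⟩ := hs
  exact ⟨g * h, g * k, mul_mem hg hh, mul_mem hg hk, (H70.cj_cj g h D).symm,
    (H70.cj_cj g k D).symm, by rw [← H70.cj_cj, e, H70.cj_cj]⟩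

theorem same_cj_iff {X Y : Subgroup G} {g : G} (hg : g ∈ hc P A T D) :
    Same P A T M D (cj g X) (cj g Y) ↔ Same P A T M D X Y :=
  ⟨fun h => by simpa [cj_cancel'] using s.same_cj (inv_mem hg) h, s.same_cj hg⟩

/-- A conjugate of `D` and its images under itself. -/
theorem cj_self {X : Subgroup G} {a : G} (ha : a ∈ X) : cj a X = X := H70.cj_of_mem ha

/-- Two members at different points contain a block with the same fixed points. -/
theorem exists_sub_block {X Y : Subgroup G} (hX : Near P A T D X) (hY : Near P A T D Y)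
    (hns : ¬ Same P A T M D X Y) :
    ∃ L X₂, L ≤ X ⊔ Y ∧ Near P A T D X₂ ∧ fx V L = fx V (X ⊔ Y) ∧
      ∃ (F : Type) (_ : Field F) (_ : Fintype F), Fintype.card F = Nat.card A ∧
        ∃ b : Block V L X₂ F, ¬ Same P A T M D X₂ b.opp := by
  have hc' := s.ctx
  obtain ⟨hXP, hYP⟩ := And.intro ((s.near_le hX).trans s.hc_le) ((s.near_le hY).trans s.hc_le)
  set K0 := X ⊔ Y
  set K := K0 ⊔ jm P A T D
  have hK0 : K0 ≤ hc P A T D := sup_le (s.near_le hX) (s.near_le hY)
  have hKh : K ≤ hc P A T D := sup_le hK0 s.jm_hc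
  have hKn : K ≤ normalizer (K0 : Set G) := sup_le le_normalizer (le_trans
    (Subgroup.le_centralizer_iff.1 (hK0.trans inf_le_right)) (centralizer_le_normalizer _))
  have hRp : IsPGroup p ↥(X ⊔ jm P A T D) :=
    (hc'.minOff (s.near_mem hX)).pgroup.to_sup_of_normal_right'
      (hc'.env.pm.pgroup.to_le s.jm_le)
      (((s.near_le hX).trans inf_le_right).trans (centralizer_le_normalizer _))
  obtain ⟨TK, hTK, hRT⟩ := exists_sylIn_ge (p := p)
    (sup_le_sup_right le_sup_left _ : X ⊔ jm P A T D ≤ K) hRp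
  obtain ⟨k, hk, hTk⟩ := exists_conj_into hc'.env.pm.sylow
    (hTK.le.trans (hKh.trans s.hc_le)) hTK.isPGroup
  obtain ⟨h, hh, hhX⟩ := id hX
  have hkM : cj k M = cj h M := s.pt_unique hh hk (by rw [hhX]; exact hRT.trans hTk)
  have hJM : jm P A T D ≤ cj k M := ((le_sup_right.trans hRT).trans hTk).trans
    (H70.cj_mono _ hc'.env.pm.le_M)
  have hYM : ¬ Y ≤ cj k M := fun hle => hns <| by
    obtain ⟨h', hh', hhY⟩ := id hY
    have hp : IsPGroup p ↥(Y ⊔ jm P A T D) :=
      (hc'.minOff (s.near_mem hY)).pgroup.to_sup_of_normal_right'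
        (hc'.env.pm.pgroup.to_le s.jm_le)
        (((s.near_le hY).trans inf_le_right).trans (centralizer_le_normalizer _))
    obtain ⟨k', hk', hle', hk'M⟩ := hc'.env.pm.exists_sylow_le hk hp (sup_le hle hJM)
    refine ⟨h, h', hh, hh', hhX, hhY, ?_⟩
    rw [← hkM, ← hk'M, s.pt_unique hh' hk' (by rw [hhY]; exact hle')]
  obtain ⟨Q, MQ, hQK, hpm, hQM⟩ := exists_pm_over hTK (hTk.trans (H70.cj_mono _ hc'.env.pm.le_M))
    (hc'.minOff (s.near_mem hY)).pgroup (le_sup_right.trans le_sup_left) hYM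
  have hQh := hQK.trans hKh
  have hQP := hQh.trans s.hc_le
  have hnc : ¬ X ≤ Cfsg.pCoreOf p Q := by
    intro hle
    have hJO : jm P A T D ≤ Cfsg.pCoreOf p Q :=
      H75.le_pCoreOf ((le_sup_right.trans hRT).trans hpm.T_le)
        ((hQh.trans inf_le_right).trans (centralizer_le_normalizer _))
        (hc'.env.pm.pgroup.to_le s.jm_le)
    obtain ⟨x, hx, hxM⟩ := SetLike.not_le_iff_exists.1 hQM
    have h1 : cj (x * k) M = cj h M := s.pt_unique hh (mul_mem (hQP hx) hk) (by
      rw [hhX, ← H70.cj_cj]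
      refine le_trans ?_ (H70.cj_mono x (hpm.pCore_le.trans hTk))
      rw [mem_normalizer_iff_cj.1 (H75.le_normalizer_pCoreOf Q hx)]
      exact sup_le hle hJO)
    rw [← hkM, ← H70.cj_cj] at h1
    exact hxM ((hc'.env.pm.conj_mem hk).norm_M (hQP hx) h1)
  have hU := hc'.env.sub hQP hpm hk hTk hQM
  obtain ⟨L, TL, ML, g, k2, hL, hpmL, hg, hTL, hLM, hk2, hk2T, F, iF, iFf, hcard, ⟨b⟩⟩ :=
    H78.PMin.exists_block hc'.env hc'.faith hQP hU (hc'.minOff (s.near_mem hX))
      (le_sup_left.trans hRT) hnc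
  rw [hc'.card_mem (s.near_mem hX)] at hcard
  set X₂ := cj k2 X with hX₂def
  have hX₂ : Near P A T D X₂ := s.near_cj hX (hQh hk2)
  have hcjK : ∀ {x}, x ∈ K → cj x K0 = K0 := fun {x} hx => mem_normalizer_iff_cj.1 (hKn hx)
  have hX₂K : X₂ ≤ K0 := (H70.cj_mono _ le_sup_left).trans (hcjK (hQK hk2)).le
  have hLK : L ≤ K0 := by
    rw [← b.sup_opp]
    exact sup_le hX₂K ((H70.cj_mono _ hX₂K).trans (hcjK (hQK (hL b.weyl.2))).le)
  refine ⟨L, X₂, hLK, hX₂, ?_, F, iF, iFf, hcard, b, ?_⟩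
  · refine (Subgroup.eq_of_le_of_card_ge (fx_anti hLK) ?_).symm
    have h1 := b.card_V
    rw [hcard] at h1
    refine Nat.le_of_mul_le_mul_left ?_ (Nat.mul_pos (Nat.card_pos (α := A)) (Nat.card_pos (α := A)))
    rw [← h1]
    have h2 := card_prod_le hc'.env.elem (le_refl V) (inf_le_left : fx V X ≤ V)
      (inf_le_left : fx V Y ≤ V)
    have h3 : fx V X ⊓ fx V Y = fx V K0 := le_antisymm (fun v hv => fx_mem_sup hv.1 hv.2)
      (le_inf (fx_anti le_sup_left) (fx_anti le_sup_right))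
    rw [h3] at h2
    refine Nat.le_of_mul_le_mul_left ?_ (Nat.card_pos (α := V))
    calc Nat.card V * Nat.card V
        = (Nat.card A * Nat.card (fx V X)) * (Nat.card A * Nat.card (fx V Y)) := by
          rw [hc'.card_fx (s.near_mem hX), hc'.card_fx (s.near_mem hY)]
      _ = Nat.card A * Nat.card A * (Nat.card (fx V X) * Nat.card (fx V Y)) := by ring
      _ ≤ Nat.card A * Nat.card A * (Nat.card V * Nat.card (fx V K0)) := Nat.mul_le_mul_left _ h2
      _ = _ := by ring
  · intro hs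
    obtain ⟨h₂, hh₂, hhX₂⟩ := id hX₂
    have hw : (b.weyl : G) ∈ hc P A T D := hQh (hL b.weyl.2)
    have hwM : (b.weyl : G) ∈ cj h₂ M := by
      refine (hc'.env.pm.conj_mem hh₂.1).norm_M hw.1 ?_
      rw [H70.cj_cj]
      refine ((s.same_iff hh₂ (mul_mem hw hh₂)).1 ?_).symm
      rwa [← H70.cj_cj, hhX₂]
    have hgM : cj (g * k) M = cj h₂ M := s.pt_unique hh₂ (mul_mem (hQP hg) hk) (by
      rw [hhX₂, ← H70.cj_cj]
      refine sup_le ((hk2T.trans hTL).trans (H70.cj_mono _ hTk)) ?_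
      conv_lhs => rw [← s.cj_jm (hQh hg)]
      exact H70.cj_mono _ ((le_sup_right.trans hRT).trans hTk))
    have hXM : X₂ ≤ cj h₂ M := by
      rw [← hhX₂]; exact H70.cj_mono _ (s.le_T.trans hc'.env.pm.le_M)
    have hLM2 : L ≤ cj h₂ M := by
      rw [← b.sup_opp]
      refine sup_le hXM ((H70.cj_mono _ hXM).trans ?_)
      rw [cj_eq_of_mem hwM]
    refine hLM ?_
    have hsub : Q ⊓ cj k M ≤ MQ := hpm.uniq _
      (le_inf hpm.T_le (hTk.trans (H70.cj_mono _ hc'.env.pm.le_M))) inf_le_left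
      fun he => hQM (inf_eq_left.1 he)
    refine le_trans (fun x hx => ?_) (H70.cj_mono g hsub)
    rw [H70.mem_cj]
    refine Subgroup.mem_inf.2 ⟨mul_mem (mul_mem (inv_mem hg) (hL hx)) hg, ?_⟩
    rw [← H70.mem_cj, H70.cj_cj, hgM]
    exact hLM2 hx

/-- The fixed points of two members at different points. -/
theorem card_pair {X Y : Subgroup G} (hX : Near P A T D X) (hY : Near P A T D Y)
    (hns : ¬ Same P A T M D X Y) :
    Nat.card V = Nat.card A * Nat.card A * Nat.card (fx V (X ⊔ Y)) := by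
  obtain ⟨L, X₂, -, -, he, F, iF, iFf, hcard, b, -⟩ := s.exists_sub_block hX hY hns
  rw [← he, b.card_V, hcard]

section Lines

variable {L X : Subgroup G} {F : Type} [Field F] [Fintype F] (b : Block V L X F)
  (hq : Fintype.card F = Nat.card A) (hX : Near P A T D X) (hL : L ≤ hc P A T D)
  (hcr : ¬ Same P A T M D X b.opp)
include b hq hX hL hcr

theorem list_cross {a : G} (ha : a ∈ X) : ¬ Same P A T M D X (cj a b.opp) := fun h => hcr <| by
  have h2 := s.same_cj (inv_mem (hL (b.le ha))) h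
  rwa [cj_cancel', H70.cj_of_mem (inv_mem ha)] at h2

theorem list_inj {a a' : G} (ha : a ∈ X) (ha' : a' ∈ X)
    (h : Same P A T M D (cj a b.opp) (cj a' b.opp)) : a = a' := by
  by_contra hne
  have h1 := s.same_cj (inv_mem (hL (b.le ha))) h
  rw [cj_cancel', H70.cj_cj] at h1
  obtain ⟨o, ho, he⟩ := b.exists_opp_conj (mul_mem (inv_mem ha) ha')
    fun h0 => hne (inv_mul_eq_one.1 h0)
  rw [he] at h1
  have h2 := s.same_cj (inv_mem (hL (b.opp_le ho))) h1
  rw [cj_cancel', H70.cj_of_mem (inv_mem ho)] at h2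
  exact hcr (s.same_symm h2)

/-- A member fixing the fixed points of a block is one of its root groups. -/
theorem absorb {Z : Subgroup G} (hZ : Near P A T D Z) (hle : fx V L ≤ fx V Z) :
    Z = X ∨ ∃ a ∈ X, Z = cj a b.opp := by
  have hc' := s.ctx
  have hopp : Near P A T D b.opp := s.near_cj hX (hL b.weyl.2)
  have hline : ∀ {a}, a ∈ X → Near P A T D (cj a b.opp) := fun ha => s.near_cj hopp (hL (b.le ha))
  -- a member with common fixed points outside the block has the point of `Z`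
  have hsame : ∀ {E : Subgroup G} {v : G}, Near P A T D E → fx V L ≤ fx V E → v ∈ fx V Z →
      v ∈ fx V E → v ∉ fx V L → Same P A T M D Z E := by
    intro E v hE hLE hvZ hvE hvL
    by_contra hns
    have h1 := s.card_pair hZ hE hns
    rw [b.card_V, hq] at h1
    have h2 : fx V L = fx V (Z ⊔ E) := Subgroup.eq_of_le_of_card_ge
      (fun x hx => fx_mem_sup (hle hx) (hLE hx))
      (Nat.eq_of_mul_eq_mul_left (Nat.mul_pos Nat.card_pos Nat.card_pos) h1).ge
    exact hvL (h2 ▸ fx_mem_sup hvZ hvE)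
  obtain ⟨v, hv, hvL⟩ : ∃ v ∈ fx V Z, v ∉ fx V L := by
    by_contra hno
    push Not at hno
    have h1 : Nat.card (fx V Z) ≤ Nat.card (fx V L) := Subgroup.card_le_of_le hno
    have h2 := hc'.card_fx (s.near_mem hZ)
    rw [b.card_V, hq, mul_assoc] at h2
    rw [Nat.eq_of_mul_eq_mul_left Nat.card_pos h2] at h1
    exact absurd h1 (not_le.2 (lt_mul_left Nat.card_pos (by have := s.two; omega)))
  have hquad := hc'.quad (s.near_mem hX)
  have hcardE : ∀ {E : Subgroup G}, Near P A T D E → Nat.card (fx V Z) = Nat.card (fx V E) :=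
    fun hE => Nat.eq_of_mul_eq_mul_left (Nat.card_pos (α := A))
      ((hc'.card_fx (s.near_mem hZ)).trans (hc'.card_fx (s.near_mem hE)).symm)
  have hLline : ∀ {a}, a ∈ X → fx V L ≤ fx V (cj a b.opp) := fun ha =>
    fx_anti (cj_le (b.le ha) b.opp_le)
  rcases b.cover (p := p) hquad hv.1 with hvX | ⟨a, ha, hva⟩
  · have h0 := hsame hX (fx_anti b.le) hv hvX hvL
    refine Or.inl (hc'.eq_of_fx (s.near_mem hZ) (s.near_mem hX)
      (Subgroup.eq_of_le_of_card_ge (fun u hu => ?_) (hcardE hX).ge))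
    by_cases huL : u ∈ fx V L
    · exact fx_anti b.le huL
    rcases b.cover (p := p) hquad hu.1 with h | ⟨a', ha', h⟩
    · exact h
    · exact absurd (s.same_trans (s.same_symm h0) (hsame (hline ha') (hLline ha') hu h huL))
        (s.list_cross b hq hX hL hcr ha')
  · have h0 := hsame (hline ha) (hLline ha) hv hva hvL
    refine Or.inr ⟨a, ha, hc'.eq_of_fx (s.near_mem hZ) (s.near_mem (hline ha))
      (Subgroup.eq_of_le_of_card_ge (fun u hu => ?_) (hcardE (hline ha)).ge)⟩
    by_cases huL : u ∈ fx V L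
    · exact hLline ha huL
    rcases b.cover (p := p) hquad hu.1 with h | ⟨a', ha', h⟩
    · exact absurd (s.same_trans (s.same_symm (hsame hX (fx_anti b.le) hu h huL)) h0)
        (s.list_cross b hq hX hL hcr ha)
    · rw [s.list_inj b hq hX hL hcr ha ha'
        (s.same_trans (s.same_symm h0) (hsame (hline ha') (hLline ha') hu h huL))]
      exact h

end Lines

/-- Two members at different points generate a block. -/
theorem exists_pair_block {X Y : Subgroup G} (hX : Near P A T D X) (hY : Near P A T D Y)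
    (hns : ¬ Same P A T M D X Y) :
    ∃ (F : Type) (_ : Field F) (_ : Fintype F), Fintype.card F = Nat.card A ∧
      ∃ b : Block V (X ⊔ Y) X F, ¬ Same P A T M D X b.opp := by
  obtain ⟨L, X₂, hL, hX₂, he, F, iF, iFf, hcard, b, hcr⟩ := s.exists_sub_block hX hY hns
  have hLh : L ≤ hc P A T D := hL.trans (sup_le (s.near_le hX) (s.near_le hY))
  have hconj : ∀ {Z}, Near P A T D Z → fx V L ≤ fx V Z → ∃ l : L, cj (l : G) X₂ = Z := by
    intro Z hZ hle
    rcases s.absorb b hcard hX₂ hLh hcr hZ hle with rfl | ⟨a, ha, rfl⟩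
    · exact ⟨1, H70.cj_of_mem (one_mem _)⟩
    · exact ⟨⟨a, b.le ha⟩ * b.weyl, by rw [Block.opp, H70.cj_cj]; rfl⟩
  obtain ⟨lX, hlX⟩ := hconj hX (he ▸ fx_anti le_sup_left)
  obtain ⟨lY, hlY⟩ := hconj hY (he ▸ fx_anti le_sup_right)
  have hle : X ⊔ Y ≤ L := sup_le (hlX ▸ cj_le lX.2 b.le) (hlY ▸ cj_le lY.2 b.le)
  obtain rfl : L = X ⊔ Y := le_antisymm hL hle
  obtain ⟨b'⟩ := b.exists_conj lX
  rw [hlX] at b'
  refine ⟨F, iF, iFf, hcard, b', fun hs => ?_⟩
  -- the whole block would fix one point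
  obtain ⟨h, hh, hhX⟩ := id hX
  have hw := hLh b'.weyl.2
  have hwM : cj ((b'.weyl : G) * h) M = cj h M := by
    refine ((s.same_iff hh (mul_mem hw hh)).1 ?_).symm
    rwa [← H70.cj_cj, hhX]
  obtain ⟨h', hh', hhY⟩ := id hY
  have hN : X ⊔ Y ≤ normalizer ((cj h M : Subgroup G) : Set G) := by
    refine (b'.sup_opp).ge.trans ?_
    have hXN : X ≤ normalizer ((cj h M : Subgroup G) : Set G) := by
      rw [← hhX]; exact (H70.cj_mono _ (s.le_T.trans s.ctx.env.pm.le_M)).trans le_normalizer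
    have hwN : (b'.weyl : G) ∈ normalizer ((cj h M : Subgroup G) : Set G) :=
      mem_normalizer_iff_cj.2 (by rw [H70.cj_cj]; exact hwM)
    exact sup_le hXN (cj_le hwN hXN)
  obtain ⟨lY', hlY'⟩ : ∃ l : ↥(X ⊔ Y), cj (l : G) X = Y := by
    refine ⟨lY * lX⁻¹, ?_⟩
    have e := congrArg (cj (lX : G)⁻¹) hlX
    rw [cj_cancel'] at e
    rw [Subgroup.coe_mul, Subgroup.coe_inv, ← H70.cj_cj, ← e, hlY]
  refine hns ⟨h, (lY' : G) * h, hh, mul_mem (hLh lY'.2) hh, hhX, ?_, ?_⟩
  · rw [← H70.cj_cj, hhX, hlY']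
  · rw [← H70.cj_cj, mem_normalizer_iff_cj.1 (hN lY'.2)]

/-- All pairs of members at different points in a block generate it. -/
theorem gen_all {X Y Z Z' : Subgroup G} (hX : Near P A T D X) (hY : Near P A T D Y)
    (hns : ¬ Same P A T M D X Y) (hZ : Near P A T D Z) (hZ' : Near P A T D Z')
    (hns' : ¬ Same P A T M D Z Z') (hle : Z ≤ X ⊔ Y) (hle' : Z' ≤ X ⊔ Y) :
    Z ⊔ Z' = X ⊔ Y := by
  refine le_antisymm (sup_le hle hle') ?_
  obtain ⟨F, iF, iFf, hcard, b, hcr⟩ := s.exists_pair_block hZ hZ' hns'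
  have heq : fx V (X ⊔ Y) = fx V (Z ⊔ Z') := Subgroup.eq_of_le_of_card_ge
    (fx_anti (sup_le hle hle'))
    (Nat.eq_of_mul_eq_mul_left (Nat.mul_pos Nat.card_pos Nat.card_pos)
      ((s.card_pair hX hY hns).symm.trans (s.card_pair hZ hZ' hns'))).ge
  have hin : ∀ {W}, Near P A T D W → fx V (Z ⊔ Z') ≤ fx V W → W ≤ Z ⊔ Z' := by
    intro W hW hWle
    rcases s.absorb b hcard hZ (sup_le (s.near_le hZ) (s.near_le hZ')) hcr hW hWle with
      rfl | ⟨a, ha, rfl⟩
    · exact le_sup_left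
    · exact cj_le (b.le ha) b.opp_le
  exact sup_le (hin hX (heq ▸ fx_anti le_sup_left)) (hin hY (heq ▸ fx_anti le_sup_right))

/-- Members in a block at the same point are equal. -/
theorem eq_of_same {X Y Z Z' : Subgroup G} (hX : Near P A T D X) (hY : Near P A T D Y)
    (hns : ¬ Same P A T M D X Y) (hZ : Near P A T D Z) (hZ' : Near P A T D Z')
    (hle : Z ≤ X ⊔ Y) (hle' : Z' ≤ X ⊔ Y) (hs : Same P A T M D Z Z') : Z = Z' := by
  obtain ⟨F, iF, iFf, hcard, b, hcr⟩ := s.exists_pair_block hX hY hns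
  have hL : X ⊔ Y ≤ hc P A T D := sup_le (s.near_le hX) (s.near_le hY)
  rcases s.absorb b hcard hX hL hcr hZ (fx_anti hle) with rfl | ⟨a, ha, rfl⟩ <;>
    rcases s.absorb b hcard hX hL hcr hZ' (fx_anti hle') with rfl | ⟨a', ha', rfl⟩
  · rfl
  · exact absurd hs (s.list_cross b hcard hX hL hcr ha')
  · exact absurd (s.same_symm hs) (s.list_cross b hcard hX hL hcr ha)
  · rw [s.list_inj b hcard hX hL hcr ha ha' hs]

end Base

end H78.PMin
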