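import Cfsg.Agent.H78.PMin.Symm
import Cfsg.Agent.H78.PMin.Big
import Cfsg.Agent.H63.SylowTwoMaximal

/-!
The components for `q = 2`.
-/

set_option autoImplicit false
set_option linter.unusedSectionVars false
set_option linter.unusedSimpArgs false
set_option linter.style.haveILetI false
set_option linter.unnecessarySeqFocus false

open Subgroup
open scoped commutatorElement
open H70 (cj)

namespace H78.PMin

variable {G : Type*} [Group G] [Finite G] [Fact (Nat.Prime 2)] {V P T M A : Subgroup G}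

theorem Ctx.phi_tvConj (c : Ctx 2 V P T M A) (hA : Nat.card A = 2) {g : G} (hg : g ∈ P)
    (x y : Tv P A) :
    phi (c.tvConj hA hg x : G) (c.ctr hA (c.tvConj hA hg y)) = phi (x : G) (c.ctr hA y) := by
  rw [c.ctr_conj hA hg y]
  exact phi_cj g _ _

namespace MaxFrame

variable {c : Ctx 2 V P T M A} {hA : Nat.card A = 2} {n : ℕ} {e : Fin n → Tv P A → ZMod 2}
  (f : MaxFrame c hA e)
include f

theorem exists_third (k l : Fin n) : ∃ m, m ≠ k ∧ m ≠ l := by
  by_contra hno
  push Not at hno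
  have h1 : (Finset.univ : Finset (Fin n)) ⊆ {k, l} := fun m _ => by
    by_cases h : m = k
    · simp [h]
    · simp [hno m h]
  have h2 := (Finset.card_le_card h1).trans Finset.card_le_two
  rw [Finset.card_univ, Fintype.card_fin] at h2
  have := f.three
  omega

/-- Only the identity fixes all pairs as pairs. -/
theorem compat_eq {g : G} {σ τ : Equiv.Perm (Fin n)} (h : Compat c hA e g σ)
    (h' : Compat c hA e g τ) : σ = τ := by
  refine Equiv.ext fun k => ?_
  obtain ⟨l, hlk, -⟩ := f.exists_third k k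
  obtain ⟨m, hmk, hml⟩ := f.exists_third k l
  obtain ⟨x, hx⟩ := f.exists_pr (Ne.symm hlk)
  obtain ⟨y, hy⟩ := f.exists_pr (Ne.symm hmk)
  obtain ⟨x₁, hx₁, hx₁'⟩ := h.2 x k l hx
  obtain ⟨x₂, hx₂, hx₂'⟩ := h'.2 x k l hx
  obtain ⟨y₁, hy₁, hy₁'⟩ := h.2 y k m hy
  obtain ⟨y₂, hy₂, hy₂'⟩ := h'.2 y k m hy
  rw [show x₂ = x₁ from Subtype.ext (hx₂.trans hx₁.symm)] at hx₂'
  rw [show y₂ = y₁ from Subtype.ext (hy₂.trans hy₁.symm)] at hy₂'
  rcases (f.pr_unique hx₂' hx₁').1 with h1 | h1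
  · exact h1
  rcases (f.pr_unique hy₂' hy₁').1 with h2 | h2
  · exact h2
  · exact absurd (τ.injective (h1.symm.trans h2)) (Ne.symm hml)

theorem pair_of_phi {x y : Tv P A} (hx : H78.PermStar.IsPair (c.cc hA) e x)
    (h : phi (x : G) (c.ctr hA y) = 1) : H78.PermStar.IsPair (c.cc hA) e y := by
  obtain ⟨i, j, hij, hx⟩ := hx
  refine (f.max y).resolve_right fun h0 => ?_
  have h1 : evt y (c.cc hA x) = 0 := by rw [hx]; exact h0 i j
  rw [c.phi_symm hA] at h
  exact one_ne_zero (h.symm.trans h1)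

theorem overlap {x y : Tv P A} {i j k l : Fin n} (hx : Pr c hA e x i j) (hy : Pr c hA e y k l)
    (hne : x ≠ y) :
    phi (x : G) (c.ctr hA y) = 1 ∨ (i ≠ k ∧ i ≠ l ∧ j ≠ k ∧ j ≠ l) := by
  rw [f.val hx hy]
  by_cases h1 : i = k <;> by_cases h2 : j = k <;> by_cases h3 : i = l <;> by_cases h4 : j = l
  all_goals first
    | exact absurd (h1.trans h2.symm) hx.1
    | exact absurd (h3.trans h4.symm) hx.1
    | exact absurd (h1.symm.trans h3) hy.1
    | exact absurd (h2.symm.trans h4) hy.1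
    | (subst h1 h4; exact absurd (f.pr_inj hx hy) hne)
    | (subst h2 h3; exact absurd (f.pr_inj hx (f.pr_symm hy)) hne)
    | simp [h1, h2, h3, h4, hy.1, Ne.symm hy.1]

/-- A conjugation taking one pair to a pair takes all. -/
theorem pairs_stable {g : G} (hg : g ∈ P) {x y : Tv P A} {i j k l : Fin n} (hx : Pr c hA e x i j)
    (hy : Pr c hA e y k l) (h : H78.PermStar.IsPair (c.cc hA) e (c.tvConj hA hg x)) :
    H78.PermStar.IsPair (c.cc hA) e (c.tvConj hA hg y) := by
  have step : ∀ {x y : Tv P A}, phi (x : G) (c.ctr hA y) = 1 →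
      H78.PermStar.IsPair (c.cc hA) e (c.tvConj hA hg x) →
      H78.PermStar.IsPair (c.cc hA) e (c.tvConj hA hg y) := fun {x y} h1 h =>
    f.pair_of_phi h ((c.phi_tvConj hA hg x y).trans h1)
  by_cases hxy : x = y
  · exact hxy ▸ h
  rcases f.overlap hx hy hxy with h1 | ⟨hik, hil, hjk, hjl⟩
  · exact step h1 h
  obtain ⟨z, hz⟩ := f.exists_pr hik
  refine step ?_ (step ?_ h) (x := z)
  · rw [f.val hz hy]; simp [hik, hil, Ne.symm hy.1, hy.1]
  · rw [f.val hx hz]; simp [hx.1, Ne.symm hx.1, hik, hjk]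

theorem tv_grp {x : Tv P A} (h : (x : G) ∈ f.grp) : H78.PermStar.IsPair (c.cc hA) e x := by
  refine (f.max x).resolve_right fun h0 => c.tv_ne_one hA x (f.eq_one_of_central h fun y k l hy => ?_)
  refine c.comm_of_phi hA ?_
  have h1 : evt x (c.cc hA y) = 0 := by rw [hy.2]; exact h0 k l
  exact h1

theorem stable_of_norm {g : G} (hg : g ∈ P) (hgn : cj g f.grp = f.grp) {x : Tv P A} {k l : Fin n}
    (hx : Pr c hA e x k l) : H78.PermStar.IsPair (c.cc hA) e (c.tvConj hA hg x) := by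
  refine f.tv_grp ?_
  rw [← hgn, H70.mem_cj]
  simpa [Ctx.tvConj, mul_assoc] using f.mem_grp hx

/-- An element normalising the component permutes the points. -/
theorem exists_compat (h5 : 5 ≤ n) {g : G} (hg : g ∈ P) (hgn : cj g f.grp = f.grp) :
    ∃ σ : Equiv.Perm (Fin n), Compat c hA e g σ := by
  classical
  set t : Tv P A → Tv P A := c.tvConj hA hg with ht
  have hphi : ∀ x y, phi (t x : G) (c.ctr hA (t y)) = phi (x : G) (c.ctr hA y) :=
    c.phi_tvConj hA hg
  have htinj : Function.Injective t := fun x y h => Subtype.ext (by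
    have := congrArg Subtype.val h
    simpa [ht, Ctx.tvConj] using this)
  -- the common point of the images
  have hstar : ∀ i, ∃ p, ∀ l, l ≠ i → ∀ x, Pr c hA e x i l → ∃ q, Pr c hA e (t x) p q := by
    intro i
    obtain ⟨l₁, hl₁, -⟩ := f.exists_third i i
    obtain ⟨l₂, hl₂, hl12⟩ := f.exists_third i l₁
    obtain ⟨x₁, hx₁⟩ := f.exists_pr (Ne.symm hl₁)
    obtain ⟨x₂, hx₂⟩ := f.exists_pr (Ne.symm hl₂)
    obtain ⟨a, b, hab, hxa⟩ := f.stable_of_norm hg hgn hx₁
    obtain ⟨a', b', hab', hxa'⟩ := f.stable_of_norm hg hgn hx₂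
    have h12 : phi (x₁ : G) (c.ctr hA x₂) = 1 := by
      rw [f.val hx₁ hx₂]; simp [hl₁, Ne.symm hl₂, Ne.symm hl12]
    have key : ∀ p q r, Pr c hA e (t x₁) p q → Pr c hA e (t x₂) p r →
        ∀ l, l ≠ i → ∀ x, Pr c hA e x i l → ∃ s, Pr c hA e (t x) p s := by
      intro p q r h1 h2 l hl x hx
      by_cases e1 : x = x₁
      · exact ⟨q, e1 ▸ h1⟩
      by_cases e2 : x = x₂
      · exact ⟨r, e2 ▸ h2⟩
      have hll : l ≠ l₁ ∧ l ≠ l₂ := ⟨fun he => e1 (f.pr_inj (he ▸ hx) hx₁),
        fun he => e2 (f.pr_inj (he ▸ hx) hx₂)⟩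
      obtain ⟨u, v, huv, hxu⟩ := f.stable_of_norm hg hgn hx
      have hu : Pr c hA e (t x) u v := ⟨huv, hxu⟩
      by_cases hup : u = p
      · exact ⟨v, hup ▸ hu⟩
      by_cases hvp : v = p
      · exact ⟨u, hvp ▸ f.pr_symm hu⟩
      exfalso
      have hqr : q ≠ r := fun he => e1 (absurd (htinj (f.pr_inj h1 (he ▸ h2))) (fun h0 => hl12
        (((f.pr_unique hx₁ (h0 ▸ hx₂)).2.resolve_left hl₂))))
      have hm : ∀ {w q'}, Pr c hA e (t w) p q' → phi (x : G) (c.ctr hA w) = 1 → q' = u ∨ q' = v := by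
        intro w q' hw h
        rw [← hphi, f.val hu hw, if_neg hup, if_neg hvp, zero_add, zero_add] at h
        by_contra hno
        push Not at hno
        rw [if_neg (Ne.symm hno.1), if_neg (Ne.symm hno.2), add_zero] at h
        exact zero_ne_one h
      have hq := hm h1 (by rw [f.val hx hx₁]; simp [Ne.symm hl₁, hl, hll.1])
      have hr := hm h2 (by rw [f.val hx hx₂]; simp [Ne.symm hl₂, hl, hll.2])
      have hqr' : Pr c hA e (t x) q r := by
        rcases hq with rfl | rfl <;> rcases hr with rfl | rfl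
        · exact absurd rfl hqr
        · exact hu
        · exact f.pr_symm hu
        · exact absurd rfl hqr
      -- the images satisfy a linear relation
      have hlin : c.cc hA x = e l₁ + e l₂ := by
        funext w
        have h3 : c.cc hA (t x) (t w) = c.cc hA (t x₁) (t w) + c.cc hA (t x₂) (t w) := by
          rw [hqr'.2, h1.2, h2.2]
          simp only [Pi.add_apply]
          rw [show e p (t w) + e q (t w) + (e p (t w) + e r (t w)) =
            e q (t w) + e r (t w) + (e p (t w) + e p (t w)) by abel, CharTwo.add_self_eq_zero,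
            add_zero]
        simp only [Ctx.cc, hphi] at h3
        show phi (w : G) (c.ctr hA x) = e l₁ w + e l₂ w
        rw [h3, show phi (w : G) (c.ctr hA x₁) = e i w + e l₁ w from congrFun hx₁.2 w,
          show phi (w : G) (c.ctr hA x₂) = e i w + e l₂ w from congrFun hx₂.2 w,
          show e i w + e l₁ w + (e i w + e l₂ w) = e l₁ w + e l₂ w + (e i w + e i w) by abel,
          CharTwo.add_self_eq_zero, add_zero]
      rcases (f.pr_unique (⟨Ne.symm hl12, hlin⟩ : Pr c hA e x l₁ l₂) hx).1 with h' | h'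
      · exact hl₁ h'.symm
      · exact hl₂ h'.symm
    rw [← hphi, f.val ⟨hab, hxa⟩ ⟨hab', hxa'⟩] at h12
    by_cases e1 : a = a'
    · exact ⟨a, key a b b' ⟨hab, hxa⟩ (e1.symm ▸ (⟨hab', hxa'⟩ : Pr c hA e (t x₂) a' b'))⟩
    by_cases e2 : a = b'
    · exact ⟨a, key a b a' ⟨hab, hxa⟩ (e2.symm ▸ f.pr_symm (⟨hab', hxa'⟩ : Pr c hA e (t x₂) a' b'))⟩
    by_cases e3 : b = a'
    · exact ⟨b, key b a b' (f.pr_symm ⟨hab, hxa⟩) (e3.symm ▸ (⟨hab', hxa'⟩ : Pr c hA e (t x₂) a' b'))⟩
    by_cases e4 : b = b'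
    · exact ⟨b, key b a a' (f.pr_symm ⟨hab, hxa⟩)
        (e4.symm ▸ f.pr_symm (⟨hab', hxa'⟩ : Pr c hA e (t x₂) a' b'))⟩
    rw [if_neg e1, if_neg e2, if_neg e3, if_neg e4] at h12
    simp at h12
  choose σ hσ using hstar
  have hσinj : Function.Injective σ := by
    intro i i' he
    by_contra hne
    obtain ⟨l, hli, hli'⟩ := f.exists_third i i'
    obtain ⟨l', hl'⟩ : ∃ l', l' ∉ ({i, i', l} : Finset (Fin n)) :=
      H63.exists_not_mem _ (lt_of_le_of_lt Finset.card_le_three (by rw [Fintype.card_fin]; omega))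
    simp at hl'
    obtain ⟨hl'i, hl'i', hl'l⟩ := hl'
    obtain ⟨x, hx⟩ := f.exists_pr (Ne.symm hli)
    obtain ⟨y, hy⟩ := f.exists_pr (Ne.symm hl'i')
    obtain ⟨q, hq⟩ := hσ i l hli x hx
    obtain ⟨r, hr⟩ := hσ i' l' hl'i' y hy
    rw [← he] at hr
    have h0 : phi (x : G) (c.ctr hA y) = 0 := by
      rw [f.val hx hy]; simp [hne, hli', Ne.symm hl'i, Ne.symm hl'l]
    rw [← hphi, f.val hq hr] at h0
    have hqr : q ≠ r := fun he' => by
      have h2 := f.pr_unique hy (htinj (f.pr_inj hq (he' ▸ hr)) ▸ hx)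
      rcases h2.1 with h | h
      · exact hne h
      · exact hl'i h.symm
    simp [hq.1, Ne.symm hq.1, hr.1, Ne.symm hr.1, hqr] at h0
  refine ⟨Equiv.ofBijective σ (Finite.injective_iff_bijective.1 hσinj), hg, fun x k l hx => ?_⟩
  refine ⟨t x, rfl, fun h => hx.1 (hσinj h), ?_⟩
  show c.cc hA (t x) = e (σ k) + e (σ l)
  obtain ⟨q, hq⟩ := hσ k l (Ne.symm hx.1) x hx
  obtain ⟨r, hr⟩ := hσ l k hx.1 x (f.pr_symm hx)
  rcases (f.pr_unique hq hr).1 with h | h
  · exact absurd (hσinj h) (Ne.symm hx.1)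
  · rw [hq.2, ← h]

/-- The component is a component. -/
theorem comp (hM : ¬ f.grp ≤ M) : Comp V P T f.grp := by
  have hsep : ∀ t (ht : t ∈ T), cj t f.grp ≠ f.grp → ∀ x y : Tv P A,
      H78.PermStar.IsPair (c.cc hA) e x → H78.PermStar.IsPair (c.cc hA) e y →
      phi (c.tvConj hA (c.env.pm.T_le ht) y : G) (c.ctr hA x) = 0 := by
    intro t ht hne x y hx hy
    set htP := c.env.pm.T_le ht
    rcases f.max (c.tvConj hA htP y) with h | h
    · exfalso
      refine hne (Subgroup.eq_of_le_of_card_ge ?_ (by rw [H70.card_cj]))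
      obtain ⟨i, j, hij, hy'⟩ := hy
      rw [MaxFrame.grp, H70.cj, MonoidHom.map_closure, closure_le]
      rintro _ ⟨_, ⟨z, ⟨k, l, hkl, hz⟩, rfl⟩, rfl⟩
      obtain ⟨k', l', hkl', hz'⟩ := f.pairs_stable htP ⟨hij, hy'⟩ ⟨hkl, hz⟩ h
      exact f.mem_grp (x := c.tvConj hA htP z) ⟨hkl', hz'⟩
    · obtain ⟨i, j, hij, hx'⟩ := hx
      have h1 : evt (c.tvConj hA htP y) (c.cc hA x) = 0 := by rw [hx']; exact h i j
      exact h1
  refine ⟨c.env.norm, c.env.pm.T_le, f.grp_le, ?_, ?_, f.split, ?_, ?_⟩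
  · intro t ht hne
    have h2 : cj t f.grp ≤ centralizer (f.grp : Set G) := by
      rw [MaxFrame.grp, H70.cj, MonoidHom.map_closure, Subgroup.centralizer_closure, closure_le]
      rintro _ ⟨_, ⟨y, hy, rfl⟩, rfl⟩
      refine mem_centralizer_iff.2 ?_
      rintro _ ⟨x, hx, rfl⟩
      exact (c.comm_of_phi hA (x := c.tvConj hA (c.env.pm.T_le ht) y) (hsep t ht hne x y hx hy)).symm
    exact fun x hx g hg => (mem_centralizer_iff.1 (h2 hx) g hg).symm
  · intro t ht hne
    have h2 : cj t f.grp ≤ centralizer (f.wsp : Set G) := by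
      rw [MaxFrame.grp, MaxFrame.wsp, H70.cj, MonoidHom.map_closure, Subgroup.centralizer_closure,
        closure_le]
      rintro _ ⟨_, ⟨y, hy, rfl⟩, rfl⟩
      refine mem_centralizer_iff.2 ?_
      rintro _ ⟨x, hx, rfl⟩
      exact (phi_eq_zero.1 (hsep t ht hne x y hx hy)).symm
    intro x hx u hu
    exact (mem_centralizer_iff.1 (h2 hx) u (f.brk_grp ▸ hu)).symm
  · exact fun x hx h1 _ => f.eq_one_of_central hx fun y k l hy => (h1 _ (f.mem_grp hy)).symm
  · have hsub : (⨆ t ∈ T, cj t f.grp) ⊔ T ≤ P :=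
      sup_le (iSup₂_le fun t ht => cj_le (c.env.pm.T_le ht) f.grp_le) c.env.pm.T_le
    by_contra hne
    refine hM ((le_trans ?_ le_sup_left).trans (c.env.pm.uniq _ le_sup_right hsub hne))
    conv_lhs => rw [← H70.cj_of_mem (one_mem f.grp)]
    exact le_iSup₂ (f := fun t (_ : t ∈ T) => cj t f.grp) 1 (one_mem T)

/-- The degree. -/
theorem degree (hM : ¬ f.grp ≤ M) : ∃ m, 1 ≤ m ∧ n = 2 ^ m + 1 := by
  classical
  by_cases h5 : n < 5
  · refine ⟨1, le_rfl, ?_⟩
    obtain ⟨m, hm⟩ := f.odd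
    have := f.three
    omega
  push Not at h5
  by_contra hno
  have hne : ¬ ∃ k, 2 ≤ k ∧ Fintype.card (Fin n) = 2 ^ k + 1 := fun ⟨k, hk, he⟩ =>
    hno ⟨k, by omega, by simpa using he⟩
  have h6 : Fintype.card (Fin n) ≠ 6 := by
    rw [Fintype.card_fin]
    intro he
    obtain ⟨m, hm⟩ := f.odd
    omega
  haveI : Nontrivial (Fin n) := Fin.nontrivial_iff_two_le.mpr (by omega)
  have hC := f.comp hM
  obtain ⟨ρ, hρ⟩ := f.exists_iso
  -- the permutations of the Sylow subgroup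
  let Im : Subgroup (Equiv.Perm (Fin n)) :=
    { carrier := {σ | ∃ t ∈ T, Compat c hA e t σ}
      one_mem' := ⟨1, one_mem _, f.compat_one⟩
      mul_mem' := fun ⟨t, ht, h⟩ ⟨t', ht', h'⟩ => ⟨t * t', mul_mem ht ht', f.compat_mul h h'⟩
      inv_mem' := fun ⟨t, ht, h⟩ => ⟨t⁻¹, inv_mem ht, f.compat_inv h⟩ }
  have hIm : IsPGroup 2 Im := by
    rintro ⟨σ, t, ht, hc⟩
    obtain ⟨k, hk⟩ := c.env.pm.pgroup ⟨t, ht⟩
    refine ⟨k, Subtype.ext ?_⟩
    have hk' : t ^ 2 ^ k = 1 := congrArg Subtype.val hk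
    have hpow : ∀ N : ℕ, Compat c hA e (t ^ N) (σ ^ N) := by
      intro N
      induction N with
      | zero => simpa using f.compat_one
      | succ N ih => rw [pow_succ, pow_succ]; exact f.compat_mul ih hc
    have := hpow (2 ^ k)
    rw [hk'] at this
    exact f.compat_eq this f.compat_one
  obtain ⟨S, hS⟩ := hIm.exists_le_sylow
  have hover : ∀ K : Subgroup (Equiv.Perm (Fin n)), (S : Subgroup (Equiv.Perm (Fin n))) ≤ K →
      ¬ alternatingGroup (Fin n) ≤ K → (K.comap ρ.toMonoidHom).map f.grp.subtype ≤ M := by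
    intro K hSK hAK
    set K' := (K.comap ρ.toMonoidHom).map f.grp.subtype with hK'
    have hmemK : ∀ {g : f.grp}, (g : G) ∈ K' ↔ ρ g ∈ K := fun {g} =>
      mem_map_iff_mem f.grp.subtype_injective
    have hK'le : K' ≤ f.grp := map_subtype_le _
    -- `K` contains an even element
    obtain ⟨a, ha, haS, ha1⟩ : ∃ a, a ∈ alternatingGroup (Fin n) ∧
        a ∈ (S : Subgroup (Equiv.Perm (Fin n))) ∧ a ≠ 1 := by
      have h2 : 2 ∣ Nat.card (alternatingGroup (Fin n)) := by
        have h3 := (alternatingGroup (Fin n)).card_mul_index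
        rw [alternatingGroup.index_eq_two, Nat.card_perm, Nat.card_eq_fintype_card (α := Fin n),
          Fintype.card_fin] at h3
        have h4 : 2 * 2 ∣ n.factorial := dvd_trans (by decide) (Nat.factorial_dvd_factorial
          (show 4 ≤ n by omega))
        rw [← h3, mul_comm (Nat.card _) 2] at h4
        exact Nat.dvd_of_mul_dvd_mul_left (by norm_num) h4
      obtain ⟨a, ha⟩ := exists_prime_orderOf_dvd_card' 2 h2
      have hz : IsPGroup 2 (zpowers (a : Equiv.Perm (Fin n))) := IsPGroup.iff_card.2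
        ⟨1, by rw [Nat.card_zpowers, Subgroup.orderOf_coe, ha, pow_one]⟩
      obtain ⟨S', hS'⟩ := hz.exists_le_sylow
      obtain ⟨g, hg⟩ := MulAction.exists_smul_eq (Equiv.Perm (Fin n)) S' S
      refine ⟨g * a * g⁻¹, Subgroup.Normal.conj_mem inferInstance _ a.2 g, ?_, fun h => ?_⟩
      · rw [← hg, Sylow.coe_subgroup_smul]
        exact ⟨a, hS' (mem_zpowers _), rfl⟩
      · rw [conj_eq_one_iff] at h
        rw [show a = 1 from Subtype.ext h, orderOf_one] at ha
        exact absurd ha (by norm_num)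
    have hK'ne : ∃ g : f.grp, (g : G) ∈ K' ∧ g ≠ 1 := ⟨ρ.symm a, hmemK.2 (by simpa using hSK haS),
      fun h => ha1 (by simpa using congrArg ρ h)⟩
    have hstab : ∀ t ∈ T, cj t f.grp = f.grp → cj t K' = K' := by
      intro t ht htn
      obtain ⟨σ, hσ⟩ := f.exists_compat h5 (c.env.pm.T_le ht) htn
      have hσK : σ ∈ K := hSK (hS ⟨t, ht, hσ⟩)
      refine H70.eq_of_cj_le fun g hg => ?_
      rw [H70.mem_cj] at hg
      have hgg : g ∈ f.grp := by
        rw [← htn, H70.mem_cj]; exact hK'le hg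
      set g₀ : f.grp := ⟨t⁻¹ * g * t, hK'le hg⟩
      have h1 := f.compat_mul (f.compat_mul hσ (hρ g₀)) (f.compat_inv hσ)
      rw [show t * (g₀ : G) * t⁻¹ = g by simp [g₀, mul_assoc]] at h1
      rw [show g = ((⟨g, hgg⟩ : f.grp) : G) from rfl, hmemK, f.compat_eq (hρ ⟨g, hgg⟩) h1]
      exact mul_mem (mul_mem hσK (hmemK.1 hg)) (inv_mem hσK)
    let Fam : Set (Subgroup G) := (fun t => cj t K') '' (T : Set G)
    have hsame : ∀ {a b}, a ∈ T → b ∈ T → cj a f.grp = cj b f.grp → cj a K' = cj b K' := by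
      intro a b ha hb he
      have := hstab (b⁻¹ * a) (mul_mem (inv_mem hb) ha) (by
        rw [← H70.cj_cj, he, cj_cancel'])
      conv_rhs => rw [← this, H70.cj_cj, mul_inv_cancel_left]
    set H := T ⊔ ⨆ t ∈ T, cj t K' with hH
    have hperm : ∀ g ∈ H, Set.MapsTo (cj g) Fam Fam := by
      rw [hH]
      intro g hg
      have hcl : T ⊔ ⨆ t ∈ T, cj t K' = closure ((T : Set G) ∪ ⋃ t ∈ T, (cj t K' : Set G)) := by
        rw [Subgroup.closure_union, Subgroup.closure_eq, Subgroup.closure_iUnion]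
        congr 1
        refine iSup_congr fun t => ?_
        rw [Subgroup.closure_iUnion]
        exact iSup_congr fun _ => (Subgroup.closure_eq _).symm
      rw [hcl] at hg
      induction hg using Subgroup.closure_induction with
      | mem g hg =>
        rintro _ ⟨b, hb, rfl⟩
        rcases hg with hg | hg
        · exact ⟨g * b, mul_mem hg hb, (H70.cj_cj g b K').symm⟩
        · simp only [Set.mem_iUnion] at hg
          obtain ⟨a, ha, hga⟩ := hg
          refine ⟨b, hb, ?_⟩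
          by_cases he : cj a f.grp = cj b f.grp
          · rw [hsame ha hb he] at hga
            exact (H70.cj_of_mem hga).symm
          · refine (mem_normalizer_iff_cj.1 (centralizer_le_normalizer _ ?_)).symm
            refine mem_centralizer_iff.2 fun y hy => ?_
            exact (hC.comm' ha hb he g (H70.cj_mono a hK'le hga) y (H70.cj_mono b hK'le hy)).symm
      | one => exact fun X hX => by rw [H70.cj_of_mem (one_mem X)]; exact hX
      | mul a b _ _ ia ib => exact fun X hX => by rw [← H70.cj_cj]; exact ia (ib hX)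
      | inv a _ ia =>
        intro X hX
        haveI : Finite Fam := (Set.toFinite Fam).to_subtype
        let φ : Fam → Fam := fun Y => ⟨cj a Y, ia Y.2⟩
        have hφ : Function.Surjective φ := Finite.injective_iff_surjective.1 fun Y Z h => by
          have := congrArg (cj a⁻¹) (congrArg Subtype.val h : cj a Y.1 = cj a Z.1)
          rw [cj_cancel', cj_cancel'] at this
          exact Subtype.ext this
        obtain ⟨Y, hY⟩ := hφ ⟨X, hX⟩
        rw [show X = cj a Y.1 from (congrArg Subtype.val hY).symm, cj_cancel']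
        exact Y.2
    have hHP : H ≤ P :=
      sup_le c.env.pm.T_le (iSup₂_le fun t ht => cj_le (c.env.pm.T_le ht) (hK'le.trans f.grp_le))
    have hHne : H ≠ P := by
      intro he
      have hnormK : ∀ g : f.grp, cj (g : G) K' = K' := by
        intro g
        obtain ⟨t, ht, htK⟩ := hperm g (he.ge (f.grp_le g.2))
          ⟨1, one_mem _, H70.cj_of_mem (one_mem K')⟩
        rw [← htK]
        by_cases htn : cj t f.grp = f.grp
        · exact hstab t ht htn
        exfalso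
        obtain ⟨k, hk, hk1⟩ := hK'ne
        have h1 : (g : G) * (k : G) * (g : G)⁻¹ ∈ cj (g : G) K' := by
          rw [H70.mem_cj]; simpa [mul_assoc] using hk
        rw [← htK] at h1
        have hmem : (g : G) * (k : G) * (g : G)⁻¹ ∈ f.grp := mul_mem (mul_mem g.2 k.2) (inv_mem g.2)
        have h2 := f.eq_one_of_central hmem fun y a' b' hy =>
          hC.comm t ht htn _ (H70.cj_mono t hK'le h1) _ (f.mem_grp hy)
        rw [conj_eq_one_iff] at h2
        exact hk1 (Subtype.ext h2)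
      have hKn : K.Normal := by
        refine ⟨fun k hk σ => ?_⟩
        have h1 : (ρ.symm σ : G) * (ρ.symm k : G) * (ρ.symm σ : G)⁻¹ ∈ K' := by
          rw [← hnormK (ρ.symm σ), H70.mem_cj]
          simpa [mul_assoc] using (hmemK.2 (by simpa using hk) : ((ρ.symm k : f.grp) : G) ∈ K')
        have h2 := (hmemK (g := ρ.symm σ * ρ.symm k * (ρ.symm σ)⁻¹)).1 (by simpa using h1)
        simpa using h2
      haveI : IsSimpleGroup (alternatingGroup (Fin n)) :=
        alternatingGroup.isSimpleGroup (by simpa using h5)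
      rcases (hKn.subgroupOf (alternatingGroup (Fin n))).eq_bot_or_eq_top with h | h
      · have : (⟨a, ha⟩ : alternatingGroup (Fin n)) ∈ K.subgroupOf _ := hSK haS
        rw [h, Subgroup.mem_bot] at this
        exact ha1 (congrArg Subtype.val this)
      · exact hAK (subgroupOf_eq_top.1 h)
    refine le_trans ?_ (c.env.pm.uniq H le_sup_left hHP hHne)
    rw [← H70.cj_of_mem (one_mem K')]
    exact (le_iSup₂ (f := fun t (_ : t ∈ T) => cj t K') 1 (one_mem T)).trans le_sup_right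
  obtain ⟨K₁, K₂, hK₁, hK₂, hA₁, hA₂, hgen⟩ :=
    H63.exists_two_overgroups (α := Fin n) (by simpa using h5) h6 hne S
  set R := (M.subgroupOf f.grp).map ρ.toMonoidHom
  have hle : ∀ K, (S : Subgroup (Equiv.Perm (Fin n))) ≤ K → ¬ alternatingGroup (Fin n) ≤ K → K ≤ R := by
    intro K h1 h2 σ hσ
    exact ⟨ρ.symm σ, hover K h1 h2 ⟨ρ.symm σ, by simpa using hσ, rfl⟩, by simp⟩
  have htop : R = ⊤ := H63.eq_top_of_alternating_le_of_sylow S
    (hgen R (inf_le_left.trans (hle K₁ hK₁ hA₁)) (inf_le_left.trans (hle K₂ hK₂ hA₂)))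
    (hK₁.trans (hle K₁ hK₁ hA₁))
  refine hM fun g hg => ?_
  obtain ⟨g', hg', he⟩ := (htop.symm ▸ mem_top (ρ ⟨g, hg⟩) : ρ ⟨g, hg⟩ ∈ R)
  rw [show g' = ⟨g, hg⟩ from ρ.injective he] at hg'
  exact hg'

end MaxFrame

namespace Ctx

variable (c : Ctx 2 V P T M A)
include c

/-- The component for `q = 2`. -/
theorem comp_two (hA : Nat.card A = 2) :
    ∃ (n : ℕ) (e : Fin n → Tv P A → ZMod 2) (f : MaxFrame c hA e),
      Comp V P T f.grp ∧ ∃ m, 1 ≤ m ∧ n = 2 ^ m + 1 := by
  obtain ⟨L₁, g, hg, hDT, hLM₁, hLP₁, F, iF, iFf, hcard, ⟨b₁⟩⟩ := c.exists_block c.self_mem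
  obtain ⟨b⟩ := b₁.exists_map (inv_mem (c.norm_mem hg))
  set L := cj g⁻¹ L₁
  set D := cj g⁻¹ A
  have hLP : L ≤ P := cj_le (inv_mem hg) hLP₁
  have hLM : ¬ L ≤ M := fun hle => hLM₁ ((cj_cancel g L₁).ge.trans (H70.cj_mono _ hle))
  have hD : Mem P A D := c.cj_mem c.self_mem (inv_mem hg)
  obtain ⟨x₀, hx₀⟩ := c.tv_of_mem hA hD
  obtain ⟨y₀, hy₀⟩ := c.tv_of_mem hA (c.opp_mem b hLP hD)
  have hcr : phi (x₀ : G) (c.ctr hA y₀) = 1 := by
    refine (phi_zero_or_one _ _).resolve_left fun h0 => b.not_comm_opp ?_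
    have h1 := c.comm_of_phi hA h0
    intro u hu v hv
    replace hu : u ∈ zpowers (x₀ : G) := hx₀.ge hu
    replace hv : v ∈ zpowers (y₀ : G) := hy₀.ge hv
    obtain ⟨i, rfl⟩ := mem_zpowers_iff.1 hu
    obtain ⟨j, rfl⟩ := mem_zpowers_iff.1 hv
    exact (show Commute (x₀ : G) y₀ from h1).zpow_zpow i j
  obtain ⟨n, e, -, hfr, hx, h3, hmax⟩ := H78.PermStar.exists_max (c.sys hA) x₀
  have f : MaxFrame c hA e := ⟨hfr, h3 ⟨y₀, hcr⟩, hmax⟩
  have hy : H78.PermStar.IsPair (c.cc hA) e y₀ := f.pair_of_phi hx hcr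
  have hM : ¬ f.grp ≤ M := fun hle => hLM <| by
    refine b.sup_opp.ge.trans (sup_le (hx₀.ge.trans ?_) (hy₀.ge.trans ?_)) <;> rw [zpowers_le]
    · obtain ⟨i, j, hij, hx'⟩ := hx
      exact hle (f.mem_grp ⟨hij, hx'⟩)
    · obtain ⟨k, l, hkl, hy'⟩ := hy
      exact hle (f.mem_grp ⟨hkl, hy'⟩)
  exact ⟨n, e, f, f.comp hM, f.degree hM⟩

end Ctx

end H78.PMin
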