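import Cfsg.Agent.H78.PMin.Big
import Cfsg.Agent.H78.PMin.SymmComp

/-!
The structure theorem for a `p`-minimal group with an offender.
-/

set_option autoImplicit false
set_option linter.unusedSectionVars false
set_option linter.style.haveILetI false

open Subgroup
open scoped commutatorElement MatrixGroups
open H70 (cj)

namespace H78.PMin

variable {G : Type*} [Group G] [Finite G] {p : ℕ} [Fact p.Prime]

/-- A best offender contains a minimal one. -/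
theorem exists_minOff {V P : Subgroup G} (hfaith : P ⊓ centralizer (V : Set G) = ⊥) {A₀ : Subgroup G}
    (hA₀P : A₀ ≤ P) (hA₀V : ¬ A₀ ≤ centralizer (V : Set G))
    (hbest : Cfsg.IsBestOffenderOn p V A₀) : ∃ A, A ≤ A₀ ∧ MinOff p V P A := by
  obtain ⟨hmax, hab, hexp⟩ := hbest
  have hK : ∀ x ∈ A₀, x ∈ centralizer (V : Set G) → x = 1 := fun x hx hxV =>
    Subgroup.mem_bot.1 (hfaith ▸ Subgroup.mem_inf.2 ⟨hA₀P hx, hxV⟩)
  have hel : Cfsg.IsElementaryAbelian p A₀ := by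
    refine ⟨⟨⟨fun a b => Subtype.ext ?_⟩⟩, fun a ha => hK _ (pow_mem ha p) (hexp a ha)⟩
    have h1 : ⁅(a : G), (b : G)⁆ ∈ A₀ := mul_mem (mul_mem (mul_mem a.2 b.2) (inv_mem a.2)) (inv_mem b.2)
    exact commutatorElement_eq_one_iff_mul_comm.1
      (hK _ h1 (hab (Subgroup.commutator_mem_commutator a.2 b.2)))
  have hne : A₀ ≠ ⊥ := fun h => hA₀V (h.le.trans bot_le)
  have hoff : Nat.card V ≤ Nat.card A₀ * Nat.card (fx V A₀) := by
    refine le_trans ?_ (hmax ⊥ bot_le)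
    rw [Subgroup.card_bot, one_mul]
    refine Subgroup.card_le_of_le (le_inf le_rfl fun v _ => mem_centralizer_iff.2 fun b hb => ?_)
    rw [SetLike.mem_coe, Subgroup.mem_bot] at hb
    simp [hb]
  induction hn : Nat.card A₀ using Nat.strong_induction_on generalizing A₀ with
  | _ k ih =>
  by_cases hmin : ∀ B : Subgroup G, B ≤ A₀ → B ≠ ⊥ → B ≠ A₀ →
      Nat.card B * Nat.card (fx V B) < Nat.card V
  · exact ⟨A₀, le_rfl, hA₀P, hel, hne, hoff, hmin⟩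
  push Not at hmin
  obtain ⟨B, hBA, hB0, hBne, hBoff⟩ := hmin
  have hlt : Nat.card B < k := hn ▸ lt_of_le_of_ne (Subgroup.card_le_of_le hBA) fun he =>
    hBne (Subgroup.eq_of_le_of_card_ge hBA he.ge)
  -- `B` need not be best, so repeat inside elementary offenders
  suffices H : ∀ (m : ℕ) (B : Subgroup G), Nat.card B = m → B ≤ A₀ → B ≠ ⊥ →
      Nat.card V ≤ Nat.card B * Nat.card (fx V B) → ∃ A, A ≤ A₀ ∧ MinOff p V P A from
    H _ B rfl hBA hB0 hBoff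
  intro m
  induction m using Nat.strong_induction_on with
  | _ m ihm =>
  intro B hm hBA hB0 hBoff
  by_cases hmin : ∀ C : Subgroup G, C ≤ B → C ≠ ⊥ → C ≠ B →
      Nat.card C * Nat.card (fx V C) < Nat.card V
  · exact ⟨B, hBA, hBA.trans hA₀P, H10.elementaryAbelian_of_le hel hBA, hB0, hBoff, hmin⟩
  push Not at hmin
  obtain ⟨C, hCB, hC0, hCne, hCoff⟩ := hmin
  exact ihm _ (hm ▸ lt_of_le_of_ne (Subgroup.card_le_of_le hCB) fun he =>
    hCne (Subgroup.eq_of_le_of_card_ge hCB he.ge)) C rfl (hCB.trans hBA) hC0 hCoff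

/-- The component of the structure theorem. -/
def IsPiece (p : ℕ) (V E : Subgroup G) : Prop :=
  ∃ n : ℕ, 1 ≤ n ∧ ((∃ (F : Type) (_ : Field F) (_ : Fintype F), Fintype.card F = p ^ n ∧
      Nonempty (↥E ≃* SL(2, F)) ∧
      Cfsg.ActsAsSL2OnSection F ⊤ E ⁅V, E⁆ (⁅V, E⁆ ⊓ centralizer (E : Set G))) ∨
    (p = 2 ∧ Nonempty (↥E ≃* Equiv.Perm (Fin (2 ^ n + 1))) ∧
      Cfsg.ActsAsOddPermModuleOnSection (2 ^ n + 1) ⊤ E ⁅V, E⁆
        (⁅V, E⁆ ⊓ centralizer (E : Set G))))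

variable {V P T M A : Subgroup G}

theorem Ctx.exists_comp (c : Ctx p V P T M A) :
    ∃ E, Comp V P T E ∧ ∀ t ∈ T, IsPiece p V (cj t E) := by
  obtain ⟨k, hk⟩ := c.mem.pgroup.exists_card_eq
  have hk1 : 1 ≤ k := by
    rcases k with _ | k
    · exact absurd (Subgroup.card_eq_one.1 (by simpa using hk)) c.mem.ne
    · omega
  have htwo : 2 ≤ Nat.card A := by
    rw [hk]
    exact le_trans (Fact.out : p.Prime).two_le (Nat.le_self_pow (by omega) p)
  by_cases h2 : 2 < Nat.card A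
  · obtain ⟨E, hE, D, F, iF, iFf, hcard, ⟨b⟩⟩ := c.comp_big h2
    refine ⟨E, hE, fun t ht => ⟨k, hk1, Or.inl ⟨F, iF, iFf, hcard.trans hk, ?_⟩⟩⟩
    obtain ⟨b'⟩ := b.exists_map (c.norm_mem (c.env.pm.T_le ht))
    exact b'.acts
  have hA : Nat.card A = 2 := by omega
  obtain rfl : p = 2 := by
    have hd : p ∣ 2 := hA ▸ hk ▸ dvd_pow_self p (by omega)
    exact (Nat.prime_dvd_prime_iff_eq Fact.out Nat.prime_two).1 hd
  obtain ⟨n, e, f, hE, m, hm, rfl⟩ := c.comp_two hA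
  refine ⟨f.grp, hE, fun t ht => ⟨m, hm, Or.inr ⟨rfl, ?_⟩⟩⟩
  have hacts := f.acts
  rw [← brk_eq_commutator] at hacts
  obtain ⟨⟨ρ⟩, hn, hle, ρ', ψ, hr, hψ0, hsur, hker, hact⟩ := hacts
  have htV := c.norm_mem (c.env.pm.T_le ht)
  let ε : ↥(cj t f.grp) ≃* ↥f.grp := (f.grp.equivMapOfInjective _ (MulAut.conj t).injective).symm
  have hε : ∀ g : ↥(cj t f.grp), (ε g : G) = t⁻¹ * (g : G) * t := fun g => by
    obtain ⟨y, rfl⟩ := ε.symm.surjective g
    rw [MulEquiv.apply_symm_apply]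
    show (y : G) = t⁻¹ * (t * (y : G) * t⁻¹) * t
    group
  refine ⟨⟨ε.trans ρ⟩, ?_⟩
  rw [← brk_eq_commutator]
  have hU : ∀ {u}, u ∈ brk V (cj t f.grp) ↔ t⁻¹ * u * t ∈ brk V f.grp := fun {u} => by
    rw [← cj_brk htV, H70.mem_cj]
  let δ : ↥(brk V (cj t f.grp)) →* ↥(brk V f.grp) :=
    MonoidHom.mk' (fun u => ⟨t⁻¹ * (u : G) * t, hU.1 u.2⟩) fun u v => Subtype.ext (by simp [mul_assoc])
  refine ⟨fun g hg => mem_normalizer_iff_cj.2 (by
      rw [cj_brk (c.norm_mem (cj_le (c.env.pm.T_le ht) f.grp_le hg)), H70.cj_of_mem hg]), inf_le_left,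
    ρ'.comp ε.toMonoidHom, ψ.comp δ, ?_, fun u => hψ0 _, fun v hv => ?_, fun u => ?_, fun g u => ?_⟩
  · rw [MonoidHom.range_comp, MonoidHom.range_eq_top.2 ε.surjective, ← MonoidHom.range_eq_map, hr]
  · obtain ⟨u, hu⟩ := hsur v hv
    refine ⟨⟨t * (u : G) * t⁻¹, hU.2 (by simpa [mul_assoc] using u.2)⟩, ?_⟩
    rw [← hu]
    show Multiplicative.toAdd (ψ _) = _
    congr 2
    exact Subtype.ext (show t⁻¹ * (t * (u : G) * t⁻¹) * t = u by group)
  · show ψ (δ u) = 1 ↔ _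
    rw [hker]
    show t⁻¹ * (u : G) * t ∈ brk V f.grp ⊓ centralizer (f.grp : Set G) ↔ _
    simp only [Subgroup.mem_inf, hU.1 u.2, u.2, true_and]
    rw [← cj_centralizer, H70.mem_cj]
  · obtain ⟨w, hw, hwe⟩ := hact (ε g) (δ u)
    refine ⟨⟨t * (w : G) * t⁻¹, hU.2 (by simpa [mul_assoc] using w.2)⟩, ?_, fun i => ?_⟩
    · show t * (w : G) * t⁻¹ = (g : G) * u * (g : G)⁻¹
      rw [hw, hε g]
      show t * (t⁻¹ * (g : G) * t * (t⁻¹ * (u : G) * t) * (t⁻¹ * (g : G) * t)⁻¹) * t⁻¹ = _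
      group
    · show Multiplicative.toAdd (ψ (δ _)) i = _
      rw [show δ ⟨t * (w : G) * t⁻¹, hU.2 (by simpa [mul_assoc] using w.2)⟩ = w from
        Subtype.ext (show t⁻¹ * (t * (w : G) * t⁻¹) * t = w by group)]
      exact hwe i

end H78.PMin
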