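import Cfsg.Agent.H78.PMin.Trans
import Cfsg.Agent.H78.PMin.Assembly

/-!
A maximal frame of centres gives a symmetric group on its even permutation module.
-/

set_option autoImplicit false
set_option linter.unusedSectionVars false
set_option linter.unusedSimpArgs false
set_option linter.style.haveILetI false
set_option linter.unnecessarySeqFocus false

open Subgroup
open scoped commutatorElement IsMulCommutative
open H70 (cj)

namespace H78.PMin

theorem odd_cast {n : ℕ} (hn : Odd n) : (n : ZMod 2) = 1 := ZMod.natCast_eq_one_iff_odd.2 hn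

/-- Vectors of even weight with equal pair sums. -/
theorem even_unique {n : ℕ} (hn : Odd n) {a b : Fin n → ZMod 2} (ha : ∑ i, a i = 0)
    (hb : ∑ i, b i = 0) (h : ∀ k l, k ≠ l → a k + a l = b k + b l) : a = b := by
  funext k
  have h1 : ∀ l, a l + b l = a k + b k := by
    intro l
    by_cases hkl : k = l
    · rw [hkl]
    have := h k l hkl
    have h2 := congrArg (fun z => z + (a k + b l)) this
    calc a l + b l = (a k + a k) + (a l + b l) := by rw [CharTwo.add_self_eq_zero, zero_add]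
      _ = a k + a l + (a k + b l) := by abel
      _ = b k + b l + (a k + b l) := h2
      _ = a k + b k + (b l + b l) := by abel
      _ = a k + b k := by rw [CharTwo.add_self_eq_zero, add_zero]
  have h3 : ∑ l, (a l + b l) = 0 := by rw [Finset.sum_add_distrib, ha, hb, add_zero]
  rw [Finset.sum_congr rfl fun l _ => h1 l, Finset.sum_const, Finset.card_univ, Fintype.card_fin,
    nsmul_eq_mul, odd_cast hn, one_mul] at h3
  exact CharTwo.add_eq_zero.1 h3

variable {G : Type*} [Group G] [Finite G] [Fact (Nat.Prime 2)] {V P T M A : Subgroup G}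

/-- The centre of a member as a function on all members. -/
noncomputable def Ctx.cc (c : Ctx 2 V P T M A) (hA : Nat.card A = 2) (x : Tv P A) :
    Tv P A → ZMod 2 := fun y => phi (y : G) (c.ctr hA x)

/-- Evaluation. -/
noncomputable def evt (x : Tv P A) : (Tv P A → ZMod 2) →+ ZMod 2 :=
  Pi.evalAddMonoidHom (fun _ : Tv P A => ZMod 2) x

/-- A maximal frame. -/
structure MaxFrame (c : Ctx 2 V P T M A) (hA : Nat.card A = 2) {n : ℕ}
    (e : Fin n → Tv P A → ZMod 2) : Prop where
  frame : H78.PermStar.Frame (c.cc hA) evt e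
  three : 3 ≤ n
  max : ∀ z, H78.PermStar.IsPair (c.cc hA) e z ∨ ∀ i j, evt z (e i + e j) = 0

namespace MaxFrame

variable {c : Ctx 2 V P T M A} {hA : Nat.card A = 2} {n : ℕ} {e : Fin n → Tv P A → ZMod 2}
  (f : MaxFrame c hA e)
include f

omit f in
/-- `x` is the pair `k, l`. -/
def Pr (c : Ctx 2 V P T M A) (hA : Nat.card A = 2) (e : Fin n → Tv P A → ZMod 2) (x : Tv P A)
    (k l : Fin n) : Prop :=
  k ≠ l ∧ c.cc hA x = e k + e l

theorem syss : H78.PermStar.Sys (c.cc hA) (evt (P := P) (A := A)) := c.sys hA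

theorem pr_symm {x : Tv P A} {k l : Fin n} (h : Pr c hA e x k l) : Pr c hA e x l k :=
  ⟨h.1.symm, by rw [h.2, add_comm]⟩

theorem exists_pr {k l : Fin n} (h : k ≠ l) : ∃ x, Pr c hA e x k l :=
  let ⟨x, hx⟩ := f.frame.pair k l h
  ⟨x, h, hx⟩

theorem pr_inj {x y : Tv P A} {k l : Fin n} (hx : Pr c hA e x k l) (hy : Pr c hA e y k l) :
    x = y :=
  f.syss.inj (hx.2.trans hy.2.symm)

theorem val {x y : Tv P A} {i j k l : Fin n} (hx : Pr c hA e x i j) (hy : Pr c hA e y k l) :
    phi (x : G) (c.ctr hA y) = (if i = k then 1 else 0) + (if j = k then 1 else 0)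
      + (if i = l then 1 else 0) + (if j = l then 1 else 0) := by
  have h1 := f.frame.val x i j hx.1 hx.2 k l hy.1
  rw [← hy.2] at h1
  exact h1

theorem between {x y : Tv P A} {i j k : Fin n} (hx : Pr c hA e x i k) (hy : Pr c hA e y k j)
    (hij : i ≠ j) :
    ∃ z, Pr c hA e z i j ∧ c.ctr hA z = c.ctr hA x * c.ctr hA y ∧
      ∀ v ∈ V, phi (z : G) v = phi (x : G) v + phi (y : G) v := by
  have h1 := f.val hx hy
  rw [if_neg hx.1, if_pos rfl, if_neg hij, if_neg hy.1, add_zero, add_zero, zero_add] at h1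
  obtain ⟨z, -, hz, hφ⟩ := c.exists_between hA h1
  refine ⟨z, ⟨hij, funext fun w => ?_⟩, hz, hφ⟩
  show phi (w : G) (c.ctr hA z) = e i w + e j w
  rw [hz, c.phi_mul hA w (c.ctr_V hA x) (c.ctr_V hA y)]
  have hx' : phi (w : G) (c.ctr hA x) = e i w + e k w := congrFun hx.2 w
  have hy' : phi (w : G) (c.ctr hA y) = e k w + e j w := congrFun hy.2 w
  rw [hx', hy', show e i w + e k w + (e k w + e j w) = e i w + e j w + (e k w + e k w) by abel,
    CharTwo.add_self_eq_zero, add_zero]

/-- The number of points is odd. -/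
theorem odd : Odd n := by
  classical
  rcases Nat.even_or_odd n with ⟨m, hm⟩ | h
  swap
  · exact h
  exfalso
  let a : Fin m → Fin n := fun j => ⟨2 * j.1, by omega⟩
  let b : Fin m → Fin n := fun j => ⟨2 * j.1 + 1, by omega⟩
  have hab : ∀ j, a j ≠ b j := fun j h => by simp [a, b, Fin.ext_iff] at h
  choose x hx using fun j => f.exists_pr (hab j)
  have horth : ∀ i j, phi (x i : G) (c.ctr hA (x j)) = 0 := by
    intro i j
    rw [f.val (hx i) (hx j)]
    by_cases hij : i = j
    · subst hij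
      simp [hab, Ne.symm (hab i), CharTwo.add_self_eq_zero]
    · have h1 : a i ≠ a j ∧ b i ≠ a j ∧ a i ≠ b j ∧ b i ≠ b j := by
        simp [a, b, Fin.ext_iff]
        exact ⟨fun h => hij (Fin.ext (by omega)), by omega, by omega,
          fun h => hij (Fin.ext (by omega))⟩
      simp [h1.1, h1.2.1, h1.2.2.1, h1.2.2.2]
  have hinj : Function.Injective x := by
    intro i j hij
    by_contra hne
    have h1 : a i ≠ a j ∧ b i ≠ a j ∧ a i ≠ b j ∧ b i ≠ b j := by
      simp [a, b, Fin.ext_iff]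
      exact ⟨fun h => hne (Fin.ext (by omega)), by omega, by omega,
        fun h => hne (Fin.ext (by omega))⟩
    exact f.frame.sep (a i) (b i) (a j) (b j)
      (by simp [hab, h1.1, h1.2.1, h1.2.2.1, h1.2.2.2])
      ((hx i).2.symm.trans (hij ▸ (hx j).2))
  have hm0 : 0 < m := by have := f.three; omega
  refine f.syss.indep (Finset.univ.image x) ⟨x ⟨0, hm0⟩, Finset.mem_image.2 ⟨_, Finset.mem_univ _, rfl⟩⟩
    ?_ ?_
  · intro u hu v hv
    obtain ⟨i, -, rfl⟩ := Finset.mem_image.1 hu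
    obtain ⟨j, -, rfl⟩ := Finset.mem_image.1 hv
    exact horth i j
  rw [Finset.sum_image fun i _ j _ h => hinj h]
  funext z
  rw [Finset.sum_apply, Pi.zero_apply]
  rcases f.max z with ⟨i, j, hij, hz⟩ | hz
  · have hzp : Pr c hA e z i j := ⟨hij, hz⟩
    have h1 : ∀ q, c.cc hA (x q) z = (if i = a q then 1 else 0) + (if j = a q then 1 else 0)
        + (if i = b q then 1 else 0) + (if j = b q then 1 else 0) := fun q => f.val hzp (hx q)
    have h2 : ∀ t : Fin n, (∑ q, ((if t = a q then (1 : ZMod 2) else 0) +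
        (if t = b q then 1 else 0))) = 1 := by
      intro t
      have ht := t.2
      rw [Finset.sum_eq_single ⟨t.1 / 2, by omega⟩]
      · rcases Nat.mod_two_eq_zero_or_one t.1 with h | h
        · rw [if_pos (Fin.ext (by simp [a]; omega)), if_neg (fun h' => by
            simp [b, Fin.ext_iff] at h'; omega), add_zero]
        · rw [if_neg (fun h' => by simp [a, Fin.ext_iff] at h'; omega),
            if_pos (Fin.ext (by simp [b]; omega)), zero_add]
      · intro q _ hq
        have hq' : q.1 ≠ t.1 / 2 := fun h => hq (Fin.ext h)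
        rw [if_neg (fun h' => by simp [a, Fin.ext_iff] at h'; omega),
          if_neg (fun h' => by simp [b, Fin.ext_iff] at h'; omega), add_zero]
      · exact fun h => absurd (Finset.mem_univ _) h
    rw [Finset.sum_congr rfl fun q _ => h1 q,
      Finset.sum_congr rfl fun q _ => show _ = ((if i = a q then (1 : ZMod 2) else 0) +
        (if i = b q then 1 else 0)) + ((if j = a q then 1 else 0) + (if j = b q then 1 else 0)) by abel,
      Finset.sum_add_distrib, h2, h2]
    exact CharTwo.add_self_eq_zero _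
  · refine Finset.sum_eq_zero fun q _ => ?_
    have h1 := hz (a q) (b q)
    rw [← (hx q).2] at h1
    exact h1

/-- A chosen point. -/
def o : Fin n := ⟨0, by have := f.three; omega⟩

/-- The pair of a point with the chosen one. -/
noncomputable def px (i : Fin n) : Tv P A := by
  classical
  exact if h : i = f.o then
      (f.exists_pr (show f.o ≠ ⟨1, by have := f.three; omega⟩ by simp [o, Fin.ext_iff])).choose
    else (f.exists_pr h).choose

theorem px_spec {i : Fin n} (h : i ≠ f.o) : Pr c hA e (f.px i) i f.o := by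
  classical
  rw [px, dif_neg h]
  exact (f.exists_pr h).choose_spec

/-- Coordinates relative to the chosen point. -/
noncomputable def bb (v : G) (i : Fin n) : ZMod 2 := if i = f.o then 0 else phi (f.px i : G) v

/-- The coordinates in the even permutation module. -/
noncomputable def psi (v : G) (k : Fin n) : ZMod 2 := f.bb v k + ∑ l, f.bb v l

theorem bb_mul {u v : G} (hu : u ∈ V) (hv : v ∈ V) (i : Fin n) :
    f.bb (u * v) i = f.bb u i + f.bb v i := by
  unfold bb
  split
  · rw [add_zero]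
  · exact c.phi_mul hA _ hu hv

theorem psi_mul {u v : G} (hu : u ∈ V) (hv : v ∈ V) : f.psi (u * v) = f.psi u + f.psi v := by
  funext k
  simp only [psi, Pi.add_apply, f.bb_mul hu hv, Finset.sum_add_distrib]
  abel

theorem psi_even (v : G) : ∑ k, f.psi v k = 0 := by
  simp only [psi, Finset.sum_add_distrib, Finset.sum_const, Finset.card_univ, Fintype.card_fin,
    nsmul_eq_mul]
  rw [odd_cast f.odd, one_mul,
    CharTwo.add_self_eq_zero]

theorem phi_pair {x : Tv P A} {k l : Fin n} (hx : Pr c hA e x k l) {v : G} (hv : v ∈ V) :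
    phi (x : G) v = f.psi v k + f.psi v l := by
  rw [psi, psi, show f.bb v k + ∑ i, f.bb v i + (f.bb v l + ∑ i, f.bb v i) =
    f.bb v k + f.bb v l + ((∑ i, f.bb v i) + ∑ i, f.bb v i) by abel, CharTwo.add_self_eq_zero,
    add_zero]
  by_cases hk : k = f.o
  · have hl : l ≠ f.o := fun h => hx.1 (hk.trans h.symm)
    rw [bb, bb, if_pos hk, if_neg hl, zero_add,
      f.pr_inj (f.pr_symm hx) (hk.symm ▸ f.px_spec hl : Pr c hA e (f.px l) l k)]
  by_cases hl : l = f.o
  · rw [bb, bb, if_pos hl, if_neg hk, add_zero,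
      f.pr_inj hx (hl.symm ▸ f.px_spec hk : Pr c hA e (f.px k) k l)]
  obtain ⟨z, hz, -, hφ⟩ := f.between (f.px_spec hk) (f.pr_symm (f.px_spec hl)) hx.1
  rw [bb, bb, if_neg hk, if_neg hl, f.pr_inj hx hz]
  exact hφ v hv

theorem psi_ctr {x : Tv P A} {i j : Fin n} (hx : Pr c hA e x i j) :
    f.psi (c.ctr hA x) = fun k => (if i = k then 1 else 0) + (if j = k then 1 else 0) := by
  refine even_unique f.odd (f.psi_even _) ?_ fun k l hkl => ?_
  · simp [Finset.sum_add_distrib, CharTwo.add_self_eq_zero]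
  · obtain ⟨y, hy⟩ := f.exists_pr hkl
    rw [← f.phi_pair hy (c.ctr_V hA x), c.phi_symm hA, f.val hx hy]
    abel

theorem pr_unique {x : Tv P A} {i j k l : Fin n} (h : Pr c hA e x i j) (h' : Pr c hA e x k l) :
    (k = i ∨ k = j) ∧ (l = i ∨ l = j) := by
  have h1 := (f.psi_ctr h).symm.trans (f.psi_ctr h')
  have key : ∀ t, t ≠ i → t ≠ j → t ≠ k ∧ t ≠ l := by
    intro t hi hj
    have h2 := congrFun h1 t
    simp only [if_neg (Ne.symm hi), if_neg (Ne.symm hj), zero_add] at h2
    constructor <;> intro he <;> subst he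
    · simp [Ne.symm h'.1] at h2
    · simp [h'.1] at h2
  constructor
  · by_contra hno
    push Not at hno
    exact (key k hno.1 hno.2).1 rfl
  · by_contra hno
    push Not at hno
    exact (key l hno.1 hno.2).2 rfl

omit f in
/-- The component. -/
def grp (_f : MaxFrame c hA e) : Subgroup G :=
  closure {g | ∃ x : Tv P A, H78.PermStar.IsPair (c.cc hA) e x ∧ (x : G) = g}

theorem mem_grp {x : Tv P A} {k l : Fin n} (hx : Pr c hA e x k l) : (x : G) ∈ f.grp :=
  subset_closure ⟨x, ⟨k, l, hx.1, hx.2⟩, rfl⟩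

omit f in
/-- The centres of the component. -/
def wsp (_f : MaxFrame c hA e) : Subgroup G :=
  closure {g | ∃ x : Tv P A, H78.PermStar.IsPair (c.cc hA) e x ∧ c.ctr hA x = g}

theorem ctr_wsp {x : Tv P A} {k l : Fin n} (hx : Pr c hA e x k l) : c.ctr hA x ∈ f.wsp :=
  subset_closure ⟨x, ⟨k, l, hx.1, hx.2⟩, rfl⟩

theorem grp_le : f.grp ≤ P := (closure_le P).2 (by rintro _ ⟨x, -, rfl⟩; exact c.tv_P hA x)

theorem wsp_le : f.wsp ≤ V := (closure_le V).2 (by rintro _ ⟨x, -, rfl⟩; exact c.ctr_V hA x)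

omit f in
/-- `g` permutes the pairs as `σ` does. -/
def Compat (c : Ctx 2 V P T M A) (hA : Nat.card A = 2) (e : Fin n → Tv P A → ZMod 2)
    (g : G) (σ : Equiv.Perm (Fin n)) : Prop :=
  g ∈ P ∧ ∀ x k l, Pr c hA e x k l → ∃ y : Tv P A, (y : G) = g * x * g⁻¹ ∧
    Pr c hA e y (σ k) (σ l)

theorem compat_one : Compat c hA e 1 1 :=
  ⟨one_mem _, fun x k l h => ⟨x, by simp, h⟩⟩

theorem compat_mul {g g' : G} {σ σ' : Equiv.Perm (Fin n)} (h : Compat c hA e g σ)
    (h' : Compat c hA e g' σ') : Compat c hA e (g * g') (σ * σ') :=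
  ⟨mul_mem h.1 h'.1, fun x k l hx => by
    obtain ⟨y, hy, hy'⟩ := h'.2 x k l hx
    obtain ⟨z, hz, hz'⟩ := h.2 y _ _ hy'
    exact ⟨z, by rw [hz, hy]; group, hz'⟩⟩

theorem compat_inv {g : G} {σ : Equiv.Perm (Fin n)} (h : Compat c hA e g σ) :
    Compat c hA e g⁻¹ σ⁻¹ := by
  refine ⟨inv_mem h.1, fun x k l hx => ?_⟩
  obtain ⟨y, hy⟩ := f.exists_pr (show σ⁻¹ k ≠ σ⁻¹ l from fun he => hx.1 (σ⁻¹.injective he))
  obtain ⟨z, hz, hz'⟩ := h.2 y _ _ hy
  simp at hz'
  obtain rfl := f.pr_inj hx hz'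
  exact ⟨y, by rw [hz]; group, hy⟩

theorem compat_swap {x : Tv P A} {i j : Fin n} (hx : Pr c hA e x i j) :
    Compat c hA e (x : G) (Equiv.swap i j) := by
  refine ⟨c.tv_P hA x, fun y k l hy => ?_⟩
  refine ⟨c.tvConj hA (c.tv_P hA x) y, rfl, fun he => hy.1 ((Equiv.swap i j).injective he),
    funext fun w => ?_⟩
  show phi (w : G) (c.ctr hA (c.tvConj hA (c.tv_P hA x) y)) = _
  rw [c.ctr_conj hA, c.conj_eq hA x (c.ctr_V hA y)]
  have hxw : phi (w : G) (c.ctr hA x) = e i w + e j w := congrFun hx.2 w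
  have hyw : phi (w : G) (c.ctr hA y) = e k w + e l w := congrFun hy.2 w
  have hv := f.val hx hy
  have e1 : ∀ a b : ZMod 2, a + b + (a + b) = 0 := fun a b => CharTwo.add_self_eq_zero _
  have e2 : ∀ a b : ZMod 2, a + (a + b) = b := fun a b => by
    rw [← add_assoc, CharTwo.add_self_eq_zero, zero_add]
  have hin : (if phi (x : G) (c.ctr hA y) = 0 then 1 else c.ctr hA x) ∈ V := by
    split
    · exact one_mem _
    · exact c.ctr_V hA x
  rw [c.phi_mul hA w hin (c.ctr_V hA y), hyw, Pi.add_apply, hv]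
  by_cases h1 : i = k <;> by_cases h2 : j = k <;> by_cases h3 : i = l <;> by_cases h4 : j = l
  all_goals first
    | exact absurd (h1.trans h2.symm) hx.1
    | exact absurd (h3.trans h4.symm) hx.1
    | exact absurd (h1.symm.trans h3) hy.1
    | exact absurd (h2.symm.trans h4) hy.1
    | skip
  all_goals simp [h1, h2, h3, h4, Ne.symm, hxw, c.phi_one hA, Equiv.swap_apply_def, hx.1, hy.1,
    Ne.symm hx.1, Ne.symm hy.1, CharTwo.add_self_eq_zero, e2, add_comm, add_left_comm, add_assoc]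

omit f in
/-- The graph of the isomorphism with the symmetric group. -/
def graph (_f : MaxFrame c hA e) : Subgroup (G × Equiv.Perm (Fin n)) :=
  closure {q | ∃ (x : Tv P A) (i j : Fin n), Pr c hA e x i j ∧ q = ((x : G), Equiv.swap i j)}

theorem graph_compat {q : G × Equiv.Perm (Fin n)} (hq : q ∈ f.graph) :
    q.1 ∈ f.grp ∧ Compat c hA e q.1 q.2 := by
  induction hq using Subgroup.closure_induction with
  | mem q hq =>
    obtain ⟨x, i, j, hx, rfl⟩ := hq
    exact ⟨f.mem_grp hx, f.compat_swap hx⟩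
  | one => exact ⟨one_mem _, f.compat_one⟩
  | mul a b _ _ ia ib => exact ⟨mul_mem ia.1 ib.1, f.compat_mul ia.2 ib.2⟩
  | inv a _ ia => exact ⟨inv_mem ia.1, f.compat_inv ia.2⟩

theorem brk_grp : brk V f.grp = f.wsp := by
  refine le_antisymm ?_ ((closure_le _).2 ?_)
  · have key : ∀ g ∈ f.grp, (∀ v ∈ V, ⁅g, v⁆ ∈ f.wsp) ∧ (∀ w ∈ f.wsp, g * w * g⁻¹ ∈ f.wsp) := by
      intro g hg
      have hcj : ∀ {g}, g ∈ P → (∀ v ∈ V, ⁅g, v⁆ ∈ f.wsp) → ∀ w ∈ f.wsp, g * w * g⁻¹ ∈ f.wsp := by
        intro g _ h w hw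
        have := mul_mem (h w (f.wsp_le hw)) hw
        rwa [commutatorElement_def, inv_mul_cancel_right] at this
      induction hg using Subgroup.closure_induction with
      | mem g hg =>
        obtain ⟨x, ⟨k, l, hkl, hx⟩, rfl⟩ := hg
        have hv : ∀ v ∈ V, ⁅(x : G), v⁆ ∈ f.wsp := fun v hv => by
          rw [c.comm_eq hA x hv]
          split
          · exact one_mem _
          · exact f.ctr_wsp ⟨hkl, hx⟩
        exact ⟨hv, hcj (c.tv_P hA x) hv⟩
      | one => exact ⟨fun v _ => by simp [one_mem], fun w hw => by simpa using hw⟩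
      | mul a b ha hb ia ib =>
        have hv : ∀ v ∈ V, ⁅a * b, v⁆ ∈ f.wsp := fun v hv => by
          rw [show ⁅a * b, v⁆ = a * ⁅b, v⁆ * a⁻¹ * ⁅a, v⁆ by
            simp only [commutatorElement_def]; group]
          exact mul_mem (ia.2 _ (ib.1 v hv)) (ia.1 v hv)
        exact ⟨hv, hcj (mul_mem (f.grp_le ha) (f.grp_le hb)) hv⟩
      | inv a ha ia =>
        have hv : ∀ v ∈ V, ⁅a⁻¹, v⁆ ∈ f.wsp := fun v hv => by
          rw [show ⁅a⁻¹, v⁆ = ⁅a, a⁻¹ * v * a⁆⁻¹ by simp only [commutatorElement_def]; group]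
          exact inv_mem (ia.1 _ (by simpa using c.conj_V (inv_mem (f.grp_le ha)) hv))
        exact ⟨hv, hcj (inv_mem (f.grp_le ha)) hv⟩
    exact brk_le fun g hg v hv => (key g hg).1 v hv
  · rintro _ ⟨x, ⟨k, l, hkl, hx⟩, rfl⟩
    exact mem_brk (f.mem_grp ⟨hkl, hx⟩) (c.exists_moved hA x).choose_spec.1

omit f in
/-- The centres as an additive group. -/
noncomputable def uu' (_f : MaxFrame c hA e) (x : Tv P A) : Additive ↥V := Additive.ofMul ⟨c.ctr hA x, c.ctr_V hA x⟩

/-- The section of the coordinates. -/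
noncomputable def sec (a : Fin n → ZMod 2) : G := by
  classical
  haveI : IsMulCommutative ↥V := c.env.elem.1
  exact ((Additive.toMul (∑ i, if a i = 1 ∧ i ≠ f.o then f.uu' (f.px i) else 0) : ↥V) : G)

theorem sec_mem (a : Fin n → ZMod 2) : f.sec a ∈ V := SetLike.coe_mem _

theorem sec_add (a b : Fin n → ZMod 2) : f.sec (a + b) = f.sec a * f.sec b := by
  classical
  haveI : IsMulCommutative ↥V := c.env.elem.1
  have h2 : ∀ z : Additive ↥V, z + z = 0 := fun z => by
    apply Additive.toMul.injective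
    refine Subtype.ext ?_
    show ((Additive.toMul z : ↥V) : G) * (Additive.toMul z : ↥V) = 1
    rw [← pow_two]
    exact c.env.elem.2 _ (SetLike.coe_mem _)
  simp only [sec, ← Subgroup.coe_mul, ← toMul_add, ← Finset.sum_add_distrib]
  congr 2
  refine Finset.sum_congr rfl fun i _ => ?_
  by_cases ho : i = f.o
  · simp [ho]
  rcases H78.PermStar.zero_or_one (a i) with h | h <;>
    rcases H78.PermStar.zero_or_one (b i) with h' | h' <;>
    simp [h, h', ho, h2, CharTwo.add_self_eq_zero]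

theorem sec_zero : f.sec 0 = 1 := by
  classical
  simp [sec]

theorem sec_ctr {x : Tv P A} {i j : Fin n} (hx : Pr c hA e x i j) :
    f.sec (f.psi (c.ctr hA x)) = c.ctr hA x := by
  classical
  haveI : IsMulCommutative ↥V := c.env.elem.1
  set d : Fin n → Fin n → ZMod 2 := fun i k => if i = k then 1 else 0
  have hsingle : ∀ i, i ≠ f.o → f.sec (d i) = c.ctr hA (f.px i) := by
    intro i hi
    simp only [sec]
    rw [Finset.sum_eq_single i]
    · simp [d, hi, uu']
    · intro k _ hk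
      simp [d, Ne.symm hk]
    · exact fun h => absurd (Finset.mem_univ _) h
  have ho : f.sec (d f.o) = 1 := by
    simp only [sec]
    rw [Finset.sum_eq_zero fun k _ => ?_]
    · rfl
    · by_cases hk : k = f.o
      · simp [hk]
      · simp [d, Ne.symm hk]
  rw [show f.psi (c.ctr hA x) = d i + d j from f.psi_ctr hx, f.sec_add]
  by_cases hi : i = f.o
  · have hj : j ≠ f.o := fun h => hx.1 (hi.trans h.symm)
    rw [hsingle j hj, hi, ho, one_mul,
      f.pr_inj (f.pr_symm hx) (hi.symm ▸ f.px_spec hj : Pr c hA e (f.px j) j i)]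
  by_cases hj : j = f.o
  · rw [hsingle i hi, hj, ho, mul_one,
      f.pr_inj hx (hj.symm ▸ f.px_spec hi : Pr c hA e (f.px i) i j)]
  obtain ⟨z, hz, hze, -⟩ := f.between (f.px_spec hi) (f.pr_symm (f.px_spec hj)) hx.1
  rw [hsingle i hi, hsingle j hj, f.pr_inj hx hz, hze]

theorem psi_one : f.psi 1 = 0 := by
  have h := f.psi_mul (one_mem V) (one_mem V)
  rw [one_mul] at h
  simpa using h

theorem sec_psi {w : G} (hw : w ∈ f.wsp) : f.sec (f.psi w) = w := by
  induction hw using Subgroup.closure_induction with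
  | mem w hw =>
    obtain ⟨x, ⟨k, l, hkl, hx⟩, rfl⟩ := hw
    exact f.sec_ctr ⟨hkl, hx⟩
  | one => rw [f.psi_one, f.sec_zero]
  | mul a b ha hb ia ib => rw [f.psi_mul (f.wsp_le ha) (f.wsp_le hb), f.sec_add, ia, ib]
  | inv a ha ia =>
    have h1 : a⁻¹ = a := inv_eq_of_mul_eq_one_right (by
      have := c.env.elem.2 a (f.wsp_le ha); rwa [pow_two] at this)
    rwa [h1]

theorem sec_wsp (a : Fin n → ZMod 2) : f.sec a ∈ f.wsp := by
  classical
  haveI : IsMulCommutative ↥V := c.env.elem.1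
  suffices h : ∀ s : Finset (Fin n), ((Additive.toMul (∑ i ∈ s,
      if a i = 1 ∧ i ≠ f.o then f.uu' (f.px i) else 0) : ↥V) : G) ∈ f.wsp from h Finset.univ
  intro s
  induction s using Finset.induction with
  | empty => simpa using one_mem f.wsp
  | @insert i s his ih =>
    rw [Finset.sum_insert his, toMul_add, Subgroup.coe_mul]
    refine mul_mem ?_ ih
    by_cases h : a i = 1 ∧ i ≠ f.o
    · rw [if_pos h]
      exact f.ctr_wsp (f.px_spec h.2)
    · rw [if_neg h]
      exact one_mem _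

theorem psi_sec {a : Fin n → ZMod 2} (ha : ∑ i, a i = 0) : f.psi (f.sec a) = a := by
  classical
  haveI : IsMulCommutative ↥V := c.env.elem.1
  let Ψ : Additive ↥V →+ (Fin n → ZMod 2) :=
    AddMonoidHom.mk' (fun z => f.psi ((Additive.toMul z : ↥V) : G)) fun z z' =>
      f.psi_mul (SetLike.coe_mem _) (SetLike.coe_mem _)
  have h1 : f.psi (f.sec a) = ∑ i, Ψ (if a i = 1 ∧ i ≠ f.o then f.uu' (f.px i) else 0) := by
    rw [← map_sum]; rfl
  have hoff : ∀ k, k ≠ f.o → f.psi (f.sec a) k = a k := by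
    intro k hk
    rw [h1, Finset.sum_apply, Finset.sum_eq_single k]
    · rcases H78.PermStar.zero_or_one (a k) with h | h
      · simp [h]
      · rw [if_pos ⟨h, hk⟩, h]
        show f.psi (c.ctr hA (f.px k)) k = 1
        rw [f.psi_ctr (f.px_spec hk)]
        simp [Ne.symm hk]
    · intro i _ hik
      by_cases h : a i = 1 ∧ i ≠ f.o
      · rw [if_pos h]
        show f.psi (c.ctr hA (f.px i)) k = 0
        rw [f.psi_ctr (f.px_spec h.2)]
        simp [hik, Ne.symm hk]
      · rw [if_neg h, map_zero]; rfl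
    · exact fun h => absurd (Finset.mem_univ _) h
  funext k
  by_cases hk : k = f.o
  · subst hk
    have h2 := f.psi_even (f.sec a)
    rw [← Finset.add_sum_erase _ _ (Finset.mem_univ f.o),
      Finset.sum_congr rfl fun i hi => hoff i (Finset.ne_of_mem_erase hi)] at h2
    rw [← Finset.add_sum_erase _ _ (Finset.mem_univ f.o)] at ha
    exact add_right_cancel (h2.trans ha.symm)
  · exact hoff k hk

theorem mem_fx_grp {v : G} (hv : v ∈ V) : v ∈ fx V f.grp ↔ f.psi v = 0 := by
  constructor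
  · intro h
    refine even_unique f.odd (f.psi_even v) (by simp) fun k l hkl => ?_
    obtain ⟨x, hx⟩ := f.exists_pr hkl
    rw [← f.phi_pair hx hv, phi_eq_zero.2 (fx_comm h (f.mem_grp hx))]
    simp
  · intro h
    refine ⟨hv, ?_⟩
    rw [grp, Subgroup.centralizer_closure]
    refine mem_centralizer_iff.2 ?_
    rintro _ ⟨x, ⟨k, l, hkl, hx⟩, rfl⟩
    exact phi_eq_zero.1 (by rw [f.phi_pair ⟨hkl, hx⟩ hv, h]; simp)

/-- Only the identity of the component fixes all pairs. -/
theorem eq_one_of_central {g : G} (hg : g ∈ f.grp)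
    (h : ∀ x k l, Pr c hA e x k l → g * (x : G) = (x : G) * g) : g = 1 := by
  have hgP := f.grp_le hg
  have hfix : g ∈ (P ⊓ centralizer (V : Set G) : Subgroup G) := by
    refine Subgroup.mem_inf.2 ⟨hgP, mem_centralizer_iff.2 fun v hv => ?_⟩
    set w := ⁅g, v⁆ with hw
    have hwW : w ∈ f.wsp := f.brk_grp ▸ mem_brk hg hv
    have hwV := f.wsp_le hwW
    have h0 : f.psi w = 0 := by
      rw [← f.mem_fx_grp hwV]
      refine ⟨hwV, ?_⟩
      rw [grp, Subgroup.centralizer_closure]
      refine mem_centralizer_iff.2 ?_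
      rintro _ ⟨x, ⟨k, l, hkl, hx⟩, rfl⟩
      have hgx := h x k l ⟨hkl, hx⟩
      have hgu : g * c.ctr hA x * g⁻¹ = c.ctr hA x := by
        rw [← c.ctr_conj hA hgP x, show c.tvConj hA hgP x = x from Subtype.ext (by
          show g * (x : G) * g⁻¹ = x
          rw [hgx, mul_inv_cancel_right])]
      have hxv : (x : G) * v * (x : G)⁻¹ ∈ V := c.conj_V (c.tv_P hA x) hv
      have h1 : (x : G) * w * (x : G)⁻¹ = w := by
        have e1 : (x : G) * w * (x : G)⁻¹ = ⁅g, (x : G) * v * (x : G)⁻¹⁆ := by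
          rw [show (x : G) * w * (x : G)⁻¹ =
            ⁅(x : G) * g * (x : G)⁻¹, (x : G) * v * (x : G)⁻¹⁆ by
              rw [hw]; simp only [commutatorElement_def]; group, ← hgx, mul_inv_cancel_right]
        rw [e1, c.conj_eq hA x hv]
        split
        · rw [one_mul]
        · rw [comm_mul c.env.elem (c.norm_mem hgP) (c.ctr_V hA x) hv,
            show ⁅g, c.ctr hA x⁆ = 1 by rw [commutatorElement_def, hgu, mul_inv_cancel], one_mul]
      exact mul_inv_eq_iff_eq_mul.1 h1
    have h1 := f.sec_psi hwW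
    rw [h0, f.sec_zero] at h1
    exact (commutatorElement_eq_one_iff_mul_comm.1 h1.symm).symm
  rwa [c.faith, Subgroup.mem_bot] at hfix

theorem exists_iso : ∃ ρ : ↥f.grp ≃* Equiv.Perm (Fin n), ∀ g : f.grp, Compat c hA e (g : G) (ρ g) := by
  classical
  let p1 : ↥f.graph →* ↥f.grp :=
    MonoidHom.mk' (fun q => ⟨q.1.1, (f.graph_compat q.2).1⟩) fun _ _ => rfl
  let p2 : ↥f.graph →* Equiv.Perm (Fin n) := MonoidHom.mk' (fun q => q.1.2) fun _ _ => rfl
  have hmap1 : f.graph.map (MonoidHom.fst G (Equiv.Perm (Fin n))) = f.grp := by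
    rw [graph, MonoidHom.map_closure, grp]
    congr 1
    ext g
    constructor
    · rintro ⟨_, ⟨x, i, j, hx, rfl⟩, rfl⟩
      exact ⟨x, ⟨i, j, hx.1, hx.2⟩, rfl⟩
    · rintro ⟨x, ⟨i, j, hij, hx⟩, rfl⟩
      exact ⟨_, ⟨x, i, j, ⟨hij, hx⟩, rfl⟩, rfl⟩
  have hb1 : Function.Bijective p1 := by
    refine ⟨(injective_iff_map_eq_one p1).2 fun q hq => ?_, fun g => ?_⟩
    · have hq1 : q.1.1 = 1 := congrArg Subtype.val hq
      have hc := (f.graph_compat q.2).2
      rw [hq1] at hc
      have hσ : q.1.2 = 1 := by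
        refine Equiv.ext fun k => ?_
        obtain ⟨l, m, hlk, hmk, hlm⟩ : ∃ l m, l ≠ k ∧ m ≠ k ∧ l ≠ m := by
          have := f.three
          have hex : ∀ s : Finset (Fin n), s.card < n → ∃ c, c ∉ s := fun s hs => by
            by_contra hno
            push Not at hno
            rw [Finset.eq_univ_iff_forall.2 hno, Finset.card_univ, Fintype.card_fin] at hs
            omega
          obtain ⟨l, hl⟩ : ∃ l, l ∉ ({k} : Finset (Fin n)) := hex _ (by simp; omega)
          obtain ⟨m, hm⟩ : ∃ m, m ∉ ({k, l} : Finset (Fin n)) := hex _ (by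
            have := Finset.card_le_two (a := k) (b := l); omega)
          simp at hl hm
          exact ⟨l, m, hl, hm.1, Ne.symm hm.2⟩
        obtain ⟨x, hx⟩ := f.exists_pr (Ne.symm hlk)
        obtain ⟨y, hy⟩ := f.exists_pr (Ne.symm hmk)
        obtain ⟨x', hx1, hx2⟩ := hc.2 x k l hx
        obtain ⟨y', hy1, hy2⟩ := hc.2 y k m hy
        rw [show x' = x from Subtype.ext (by simpa using hx1)] at hx2
        rw [show y' = y from Subtype.ext (by simpa using hy1)] at hy2
        show q.1.2 k = k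
        rcases (f.pr_unique hx hx2).1 with h | h
        · exact h
        rcases (f.pr_unique hy hy2).1 with h' | h'
        · exact h'
        · exact absurd (h.symm.trans h') hlm
      exact Subtype.ext (Prod.ext hq1 hσ)
    · obtain ⟨q, hq, he⟩ := (hmap1.symm ▸ g.2 : (g : G) ∈ f.graph.map (MonoidHom.fst _ _))
      exact ⟨⟨q, hq⟩, Subtype.ext he⟩
  have hb2 : Function.Bijective p2 := by
    refine ⟨(injective_iff_map_eq_one p2).2 fun q hq => ?_, fun σ => ?_⟩
    · have hq2 : q.1.2 = 1 := hq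
      obtain ⟨hq1, hc⟩ := f.graph_compat q.2
      rw [hq2] at hc
      have h1 : q.1.1 = 1 := by
        refine f.eq_one_of_central hq1 fun x k l hx => ?_
        obtain ⟨y, hy, hy'⟩ := hc.2 x k l hx
        rw [show y = x from f.pr_inj hy' hx] at hy
        exact (eq_mul_inv_iff_mul_eq.1 hy).symm
      exact Subtype.ext (Prod.ext h1 hq2)
    · have h1 : f.graph.map (MonoidHom.snd G (Equiv.Perm (Fin n))) = ⊤ := by
        rw [eq_top_iff, ← Equiv.Perm.closure_isSwap, closure_le]
        rintro σ ⟨i, j, hij, rfl⟩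
        obtain ⟨x, hx⟩ := f.exists_pr hij
        exact ⟨_, subset_closure ⟨x, i, j, hx, rfl⟩, rfl⟩
      obtain ⟨q, hq, he⟩ := (h1.symm ▸ mem_top σ : σ ∈ f.graph.map (MonoidHom.snd _ _))
      exact ⟨⟨q, hq⟩, he⟩
  refine ⟨(MulEquiv.ofBijective p1 hb1).symm.trans (MulEquiv.ofBijective p2 hb2), fun g => ?_⟩
  set q := (MulEquiv.ofBijective p1 hb1).symm g
  have hq : p1 q = g := (MulEquiv.ofBijective p1 hb1).apply_symm_apply g
  have hc := (f.graph_compat q.2).2
  show Compat c hA e (g : G) (p2 q)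
  rw [show (g : G) = q.1.1 from congrArg Subtype.val hq.symm]
  exact hc

theorem acts : Nonempty (↥f.grp ≃* Equiv.Perm (Fin n)) ∧
    Cfsg.ActsAsOddPermModuleOnSection n ⊤ f.grp ⁅V, f.grp⁆
      (⁅V, f.grp⁆ ⊓ centralizer (f.grp : Set G)) := by
  obtain ⟨ρ, hρ⟩ := f.exists_iso
  rw [← brk_eq_commutator, f.brk_grp]
  have hn : f.grp ≤ normalizer (f.wsp : Set G) := fun g hg => mem_normalizer_iff_cj.2 (by
    rw [← f.brk_grp, cj_brk (c.norm_mem (f.grp_le hg)), H70.cj_of_mem hg])
  refine ⟨⟨ρ⟩, hn, inf_le_left, ρ.toMonoidHom,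
    MonoidHom.mk' (fun u => Multiplicative.ofAdd (f.psi (u : G))) (fun u v => by
      rw [← ofAdd_add, ← f.psi_mul (f.wsp_le u.2) (f.wsp_le v.2)]; rfl), ?_, ?_, ?_, ?_, ?_⟩
  · exact MonoidHom.range_eq_top.2 ρ.surjective
  · exact fun u => f.psi_even _
  · exact fun a ha => ⟨⟨f.sec a, f.sec_wsp a⟩, f.psi_sec ha⟩
  · intro u
    show Multiplicative.ofAdd (f.psi (u : G)) = 1 ↔ _
    rw [ofAdd_eq_one, ← f.mem_fx_grp (f.wsp_le u.2)]
    exact ⟨fun h => ⟨u.2, h.2⟩, fun h => ⟨f.wsp_le u.2, h.2⟩⟩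
  · intro g u
    have hgP := f.grp_le g.2
    refine ⟨⟨_, H75.conj_mem_of_mem_normalizer (hn g.2) u.2⟩, rfl, fun i => ?_⟩
    show f.psi ((g : G) * u * (g : G)⁻¹) i = f.psi (u : G) ((ρ g)⁻¹ i)
    refine congrFun (even_unique (b := fun i => f.psi (u : G) ((ρ g)⁻¹ i)) f.odd (f.psi_even _) ?_
      fun k l hkl => ?_) i
    · rw [Equiv.sum_comp (ρ g)⁻¹ (f.psi (u : G))]
      exact f.psi_even _
    obtain ⟨x, hx⟩ := f.exists_pr
      (show (ρ g)⁻¹ k ≠ (ρ g)⁻¹ l from fun he => hkl ((ρ g)⁻¹.injective he))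
    obtain ⟨y, hy, hy'⟩ := (hρ g).2 x _ _ hx
    simp at hy'
    rw [← f.phi_pair hy' (c.conj_V hgP (f.wsp_le u.2)), hy, phi_cj, f.phi_pair hx (f.wsp_le u.2)]

theorem split (v : G) (hv : v ∈ V) : ∃ w ∈ brk V f.grp, ∃ z ∈ fx V f.grp, v = w * z := by
  have hw := f.sec_wsp (f.psi v)
  have hwV := f.sec_mem (f.psi v)
  refine ⟨_, f.brk_grp.symm ▸ hw, _, ?_, (mul_inv_cancel_left (f.sec (f.psi v)) v).symm⟩
  have h1 : (f.sec (f.psi v))⁻¹ = f.sec (f.psi v) := inv_eq_of_mul_eq_one_right (by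
    have := c.env.elem.2 _ hwV; rwa [pow_two] at this)
  rw [h1, f.mem_fx_grp (mul_mem hwV hv), f.psi_mul hwV hv, f.psi_sec (f.psi_even v)]
  exact funext fun k => CharTwo.add_self_eq_zero (f.psi v k)

end MaxFrame

end H78.PMin
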